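import Mathlib
import Cfsg.Agent.Lib.Classical.OrthEichler

/-!
Moves inside the group generated by the Eichler transformations of a subspace: orthogonal
complements of hyperbolic pairs, diagonal elements, transitivity on the vectors of each value, and
commutators of Eichler transformations.
-/

set_option autoImplicit false
set_option linter.unusedSectionVars false
set_option linter.unusedSimpArgs false

namespace Cfsg.Agent.SimpleFacts.MinDegOrth

open Cfsg.Agent.Forms Cfsg.Agent.Forms.QuadStd Cfsg.Agent.Forms.Reflections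
open Cfsg.Agent.Classical.Orth
open scoped commutatorElement

variable {F : Type*} [Field F] {ι : Type} [Fintype ι] [DecidableEq ι]
variable {Q : QuadraticForm F (ι → F)}

local notation "Vec" => (ι → F)
local notation "B" => QuadraticMap.polar Q

/-! ### Orthogonal complements of pairs -/

/-- The vectors of `S` orthogonal to `u` and to `v`. -/
noncomputable def perp (Q : QuadraticForm F (ι → F)) (S : Submodule F (ι → F)) (u v : ι → F) :
    Submodule F (ι → F) :=
  S ⊓ (LinearMap.ker (polB Q u) ⊓ LinearMap.ker (polB Q v))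

theorem mem_perp {S : Submodule F Vec} {u v x : Vec} :
    x ∈ perp Q S u v ↔ x ∈ S ∧ B u x = 0 ∧ B v x = 0 := by
  simp [perp, polB_apply]

theorem perp_le {S : Submodule F Vec} {u v : Vec} : perp Q S u v ≤ S := inf_le_left

theorem perp_left {S : Submodule F Vec} {u v x : Vec} (h : x ∈ perp Q S u v) : B u x = 0 :=
  (mem_perp.1 h).2.1

theorem perp_right {S : Submodule F Vec} {u v x : Vec} (h : x ∈ perp Q S u v) : B v x = 0 :=
  (mem_perp.1 h).2.2

theorem perp_left' {S : Submodule F Vec} {u v x : Vec} (h : x ∈ perp Q S u v) : B x u = 0 := by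
  rw [QuadraticMap.polar_comm]; exact perp_left h

theorem perp_right' {S : Submodule F Vec} {u v x : Vec} (h : x ∈ perp Q S u v) : B x v = 0 := by
  rw [QuadraticMap.polar_comm]; exact perp_right h

theorem proj_mem_perp {S : Submodule F Vec} {u v x : Vec} (hp : IsPair Q u v) (hu : u ∈ S)
    (hv : v ∈ S) (hx : x ∈ S) : proj Q u v x ∈ perp Q S u v := by
  refine mem_perp.2 ⟨proj_mem hu hv hx, ?_, ?_⟩ <;> rw [QuadraticMap.polar_comm]
  exacts [(proj_perp hp x).1, (proj_perp hp x).2]

/-- The value on a vector written along a pair. -/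
theorem split_value {u v z : Vec} (hp : IsPair Q u v) (hzu : B u z = 0) (hzv : B v z = 0)
    (a b : F) : Q (a • u + b • v + z) = a * b + Q z := by
  simp only [map_add', map_smul', QuadraticMap.polar_add_left, QuadraticMap.polar_smul_left,
    QuadraticMap.polar_smul_right, hp.hu, hp.hv, hp.huv, hzu, hzv, smul_eq_mul]
  ring

theorem split_polar_left {u v z : Vec} (hp : IsPair Q u v) (hzu : B u z = 0)
    (a b : F) : B u (a • u + b • v + z) = b := by
  simp [QuadraticMap.polar_add_right, QuadraticMap.polar_smul_right, polar_self_zero hp.hu, hp.huv,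
    hzu]

theorem split_polar_right {u v z : Vec} (hp : IsPair Q u v) (hzv : B v z = 0)
    (a b : F) : B v (a • u + b • v + z) = a := by
  simp [QuadraticMap.polar_add_right, QuadraticMap.polar_smul_right, polar_self_zero hp.hv, hp.hvu,
    hzv]

/-- Coordinates with respect to a pair. -/
noncomputable def splitEquiv {S : Submodule F (ι → F)} {u v : ι → F} (hp : IsPair Q u v)
    (hu : u ∈ S) (hv : v ∈ S) : S ≃ F × F × perp Q S u v where
  toFun x := (QuadraticMap.polar Q x.1 v, QuadraticMap.polar Q x.1 u,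
    ⟨proj Q u v x.1, proj_mem_perp hp hu hv x.2⟩)
  invFun p := ⟨p.1 • u + p.2.1 • v + p.2.2.1,
    S.add_mem (S.add_mem (S.smul_mem _ hu) (S.smul_mem _ hv)) (perp_le p.2.2.2)⟩
  left_inv x := Subtype.ext (proj_add u v x.1).symm
  right_inv p := by
    have h1 : QuadraticMap.polar Q (p.1 • u + p.2.1 • v + p.2.2.1) v = p.1 := by
      rw [QuadraticMap.polar_comm]; exact split_polar_right hp (perp_right p.2.2.2) _ _
    have h2 : QuadraticMap.polar Q (p.1 • u + p.2.1 • v + p.2.2.1) u = p.2.1 := by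
      rw [QuadraticMap.polar_comm]; exact split_polar_left hp (perp_left p.2.2.2) _ _
    refine Prod.ext h1 (Prod.ext h2 (Subtype.ext ?_))
    show proj Q u v _ = _
    rw [proj, h1, h2]
    module

theorem splitEquiv_symm {S : Submodule F Vec} {u v : Vec} (hp : IsPair Q u v) (hu : u ∈ S)
    (hv : v ∈ S) (p : F × F × perp Q S u v) :
    ((splitEquiv hp hu hv).symm p : Vec) = p.1 • u + p.2.1 • v + p.2.2.1 := rfl

/-- Non-degeneracy on a subspace. -/
def ND (Q : QuadraticForm F (ι → F)) (S : Submodule F (ι → F)) : Prop :=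
  ∀ z ∈ S, (∀ s ∈ S, QuadraticMap.polar Q z s = 0) → z = 0

theorem perp_nd {S : Submodule F Vec} {u v : Vec} (hp : IsPair Q u v) (hu : u ∈ S) (hv : v ∈ S)
    (hS : ND Q S) : ND Q (perp Q S u v) := by
  intro z hz h
  refine hS z (perp_le hz) fun s hs => ?_
  rw [proj_add (Q := Q) u v s, QuadraticMap.polar_add_right, QuadraticMap.polar_add_right,
    QuadraticMap.polar_smul_right, QuadraticMap.polar_smul_right, perp_left' hz, perp_right' hz,
    h _ (proj_mem_perp hp hu hv hs)]
  simp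

theorem exists_one {S : Submodule F Vec} (hS : ND Q S) {u : Vec} (hu : u ∈ S) (hu0 : u ≠ 0) :
    ∃ z ∈ S, B u z = 1 := by
  obtain ⟨s, hs, hus⟩ : ∃ s ∈ S, B u s ≠ 0 := by
    by_contra hcon
    push Not at hcon
    exact hu0 (hS u hu hcon)
  exact ⟨(B u s)⁻¹ • s, S.smul_mem _ hs, by
    rw [QuadraticMap.polar_smul_right, smul_eq_mul, inv_mul_cancel₀ hus]⟩

theorem exists_partner {S : Submodule F Vec} (hS : ND Q S) {u : Vec} (hu : u ∈ S) (hu0 : u ≠ 0)
    (hQ : Q u = 0) : ∃ v ∈ S, IsPair Q u v := by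
  obtain ⟨z, hz, huz⟩ := exists_one hS hu hu0
  refine ⟨z + (-Q z) • u, S.add_mem hz (S.smul_mem _ hu), hQ, ?_, ?_⟩
  · rw [map_add', map_smul', QuadraticMap.polar_smul_right, QuadraticMap.polar_comm _ z u, huz, hQ,
      smul_eq_mul]
    ring
  · rw [QuadraticMap.polar_add_right, QuadraticMap.polar_smul_right, polar_self_zero hQ, huz,
      smul_zero, add_zero]

/-- Independence of a singular pair of orthogonal vectors inside their pairs. -/
theorem not_prop {a c a' : Vec} (hp : IsPair Q a a') (hca' : B c a' = 0) (hc0 : c ≠ 0) (t : F) :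
    c ≠ t • a := by
  intro h
  have : B c a' = t := by rw [h, QuadraticMap.polar_smul_left, hp.huv, smul_eq_mul, mul_one]
  rw [hca'] at this
  exact hc0 (by rw [h, ← this, zero_smul])

theorem pair_ne_zero {u v : Vec} (hp : IsPair Q u v) : u ≠ 0 := fun h => by
  have := hp.huv
  rw [h, QuadraticMap.polar_zero_left] at this
  exact zero_ne_one this

/-! ### Two orthogonal pairs -/

/-- Two orthogonal hyperbolic pairs in `S`. -/
structure Pairs (Q : QuadraticForm F (ι → F)) (S : Submodule F (ι → F)) (a a' c c' : ι → F) :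
    Prop where
  p : IsPair Q a a'
  p' : IsPair Q c c'
  ac : QuadraticMap.polar Q a c = 0
  ac' : QuadraticMap.polar Q a c' = 0
  a'c : QuadraticMap.polar Q a' c = 0
  a'c' : QuadraticMap.polar Q a' c' = 0
  ha : a ∈ S
  ha' : a' ∈ S
  hc : c ∈ S
  hc' : c' ∈ S

theorem Pairs.swap {S : Submodule F Vec} {a a' c c' : Vec} (h : Pairs Q S a a' c c') :
    Pairs Q S c c' a a' :=
  ⟨h.p', h.p, by rw [QuadraticMap.polar_comm]; exact h.ac,
    by rw [QuadraticMap.polar_comm]; exact h.a'c, by rw [QuadraticMap.polar_comm]; exact h.ac',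
    by rw [QuadraticMap.polar_comm]; exact h.a'c', h.hc, h.hc', h.ha, h.ha'⟩

theorem Pairs.flip {S : Submodule F Vec} {a a' c c' : Vec} (h : Pairs Q S a a' c c') :
    Pairs Q S a a' c' c :=
  ⟨h.p, h.p'.symm, h.ac', h.ac, h.a'c', h.a'c, h.ha, h.ha', h.hc', h.hc⟩

theorem Pairs.mono {S S' : Submodule F Vec} {a a' c c' : Vec} (h : Pairs Q S a a' c c')
    (hle : S ≤ S') : Pairs Q S' a a' c c' :=
  ⟨h.p, h.p', h.ac, h.ac', h.a'c, h.a'c', hle h.ha, hle h.ha', hle h.hc, hle h.hc'⟩

/-- The diagonal element scaling `a` and `c` by `s`, their partners by `s⁻¹`. -/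
theorem torus {S : Submodule F Vec} {a a' c c' : Vec} (h : Pairs Q S a a' c c') {s : F}
    (hs : s ≠ 0) :
    ∃ g ∈ eGroup Q S, act g a = s • a ∧ act g c = s • c ∧ act g a' = s⁻¹ • a' ∧
      act g c' = s⁻¹ • c' ∧
      ∀ x, B x a = 0 → B x a' = 0 → B x c = 0 → B x c' = 0 → act g x = x := by
  -- the Weyl element with parameter `x`
  have key : ∀ x : F, x ≠ 0 → ∃ g ∈ eGroup Q S, act g a = x • c' ∧ act g c' = (-x⁻¹) • a ∧
      act g a' = x⁻¹ • c ∧ act g c = (-x) • a' ∧
      ∀ y, B y a = 0 → B y a' = 0 → B y c = 0 → B y c' = 0 → act g y = y := by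
    intro x hx
    have h1 : B a' (x • c') = 0 := by rw [QuadraticMap.polar_smul_right, h.a'c', smul_zero]
    have h2 : B a (x⁻¹ • c) = 0 := by rw [QuadraticMap.polar_smul_right, h.ac, smul_zero]
    refine ⟨eich a' (x • c') h.p.hv h1 * eich a (x⁻¹ • c) h.p.hu h2 * eich a' (x • c') h.p.hv h1,
      mul_mem (mul_mem (eich_mem _ _ h.ha' (S.smul_mem _ h.hc'))
        (eich_mem _ _ h.ha (S.smul_mem _ h.hc))) (eich_mem _ _ h.ha' (S.smul_mem _ h.hc')),
      ?_, ?_, ?_, ?_, ?_⟩
    all_goals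
      intros
      simp only [act_mul, act_eich, map_smul', QuadraticMap.polar_smul_left,
        QuadraticMap.polar_smul_right, QuadraticMap.polar_add_left, QuadraticMap.polar_sub_left,
        h.p'.hu, h.p'.hv, h.p.huv, h.p.hvu, h.p'.huv, h.p'.hvu, polar_self_zero h.p.hu,
        polar_self_zero h.p.hv, polar_self_zero h.p'.hu, polar_self_zero h.p'.hv, h.ac, h.ac',
        h.a'c, h.a'c', QuadraticMap.polar_comm _ c a, QuadraticMap.polar_comm _ c' a,
        QuadraticMap.polar_comm _ c a', QuadraticMap.polar_comm _ c' a', smul_eq_mul, *]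
      match_scalars <;> field_simp <;> ring
  obtain ⟨g₁, hg₁, e₁, f₁, e₁', f₁', x₁⟩ := key (-1) (by norm_num)
  obtain ⟨g₂, hg₂, e₂, f₂, e₂', f₂', x₂⟩ := key s⁻¹ (inv_ne_zero hs)
  refine ⟨g₂ * g₁, mul_mem hg₂ hg₁, ?_, ?_, ?_, ?_, fun x k1 k2 k3 k4 => by
    rw [act_mul, x₁ x k1 k2 k3 k4, x₂ x k1 k2 k3 k4]⟩
  · rw [act_mul, e₁, map_smul, f₂, smul_smul, inv_inv]; congr 1; ring
  · rw [act_mul, f₁', map_smul, e₂', smul_smul, inv_inv]; congr 1; ring
  · rw [act_mul, e₁', map_smul, f₂', smul_smul, inv_neg, inv_one]; congr 1; ring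
  · rw [act_mul, f₁, map_smul, e₂, smul_smul, inv_neg, inv_one]; congr 1; ring

/-- Scaling a singular vector. -/
theorem scale {S : Submodule F Vec} {u v x z : Vec} (hp : IsPair Q u v) (hu : u ∈ S) (hv : v ∈ S)
    (hx : x ∈ perp Q S u v) (hz : z ∈ perp Q S u v) (hQx : Q x ≠ 0) (hQz : Q z ≠ 0) :
    ∃ g ∈ eGroup Q S, act g u = (Q z / Q x) • u := by
  have key : ∀ y ∈ perp Q S u v, Q y ≠ 0 →
      ∃ g ∈ eGroup Q S, act g u = (-Q y) • v ∧ act g v = (-(Q y)⁻¹) • u := by
    intro y hy hQy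
    have h1 : B v y = 0 := perp_right hy
    have h2 : B u ((Q y)⁻¹ • y) = 0 := by
      rw [QuadraticMap.polar_smul_right, perp_left hy, smul_zero]
    refine ⟨eich v y hp.hv h1 * eich u ((Q y)⁻¹ • y) hp.hu h2 * eich v y hp.hv h1,
      mul_mem (mul_mem (eich_mem _ _ hv (perp_le hy)) (eich_mem _ _ hu (S.smul_mem _ (perp_le hy))))
        (eich_mem _ _ hv (perp_le hy)), ?_, ?_⟩
    all_goals
      simp only [act_mul, act_eich, map_smul', QuadraticMap.polar_smul_left,
        QuadraticMap.polar_smul_right, QuadraticMap.polar_add_left, QuadraticMap.polar_sub_left,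
        hp.huv, hp.hvu, polar_self_zero hp.hu, polar_self_zero hp.hv, polar_self' y,
        perp_left hy, perp_right hy, perp_left' hy, perp_right' hy, smul_eq_mul]
      match_scalars <;> field_simp <;> ring
  obtain ⟨g₁, hg₁, e₁, -⟩ := key z hz hQz
  obtain ⟨g₂, hg₂, -, f₂⟩ := key x hx hQx
  exact ⟨g₂ * g₁, mul_mem hg₂ hg₁, by
    rw [act_mul, e₁, map_smul, f₂, smul_smul, neg_mul_neg, div_eq_mul_inv]⟩

/-- All non-zero vectors of a given value are conjugate. -/
theorem vec_move {S : Submodule F Vec} {u v : Vec} (hp : IsPair Q u v) (hu : u ∈ S) (hv : v ∈ S)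
    (hS : ND Q S) (hval : ∀ t : F, ∃ w ∈ perp Q S u v, Q w = t) {z z' : Vec} (hz : z ∈ S)
    (hz' : z' ∈ S) (hz0 : z ≠ 0) (hz'0 : z' ≠ 0) (h : Q z = Q z') :
    ∃ g ∈ eGroup Q S, act g z = z' := by
  suffices key : ∃ n : Vec, ∀ y ∈ S, y ≠ 0 → Q y = Q z → ∃ g ∈ eGroup Q S, act g y = n by
    obtain ⟨n, hn⟩ := key
    obtain ⟨g, hg, e⟩ := hn z hz hz0 rfl
    obtain ⟨g', hg', e'⟩ := hn z' hz' hz'0 h.symm
    exact ⟨g'⁻¹ * g, mul_mem (inv_mem hg') hg, by rw [act_mul, e, ← e', Spinor.act_inv_cancel]⟩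
  by_cases hc : Q z = 0
  · refine ⟨u, fun y hy hy0 hQy => ?_⟩
    obtain ⟨w, hw, hQw⟩ := hval 1
    obtain ⟨g, hg, a, ha, e⟩ := point_move hp hu hv hS (perp_le hw) (perp_left hw) (perp_right hw)
      (by rw [hQw]; exact one_ne_zero) hy hy0 (hQy.trans hc)
    obtain ⟨x, hx, hQx⟩ := hval a
    obtain ⟨g', hg', e'⟩ := scale hp hu hv hx hw (by rw [hQx]; exact ha)
      (by rw [hQw]; exact one_ne_zero)
    exact ⟨g' * g, mul_mem hg' hg, by
      rw [act_mul, e, map_smul, e', smul_smul, hQw, hQx, one_div, mul_inv_cancel₀ ha, one_smul]⟩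
  · refine ⟨Q z • u + v, fun y hy _ hQy => ?_⟩
    obtain ⟨g, hg, e⟩ := level_move hp hu hv hS (fun t => by
      obtain ⟨w, hw, e⟩ := hval t
      exact ⟨w, perp_le hw, perp_left hw, perp_right hw, e⟩) hy (by rw [hQy]; exact hc)
    exact ⟨g, hg, by rw [e, hQy]⟩

/-! ### Eichler transformations of orthogonal singular vectors -/

theorem eich_swap {e b : Vec} (he : Q e = 0) (hb : Q b = 0) (h : B b e = 0) (h' : B e (-b) = 0) :
    eich b e hb h = eich e (-b) he h' :=
  act_ext fun x => by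
    simp only [act_eich, QuadraticMap.polar_neg_right, QuadraticMap.map_neg, he, hb, zero_mul,
      zero_smul, sub_zero]
    module

/-- The commutator of two transvection-like elements. -/
theorem eich_comm {e b x z : Vec} (he : Q e = 0) (hb : Q b = 0) (hex : B e x = 0)
    (hbz : B b z = 0) (hbe : B b e = 0) (hbx : B b x = 0) (hze : B z e = 0)
    (h1 : B b ((-B z x) • e) = 0) :
    ⁅eich e x he hex, eich b z hb hbz⁆ = eich b ((-B z x) • e) hb h1 := by
  have hb1 : act (eich e x he hex) b = b := act_eich_fix he hex hbe hbx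
  have hz1 : act (eich e x he hex) z = z + (-B z x) • e := by
    rw [act_eich, hze]
    module
  rw [commutatorElement_def, eich_conj, eich_inv]
  simp only [hb1, hz1]
  rw [eich_mul, eich_congr (show z + (-B z x) • e + -z = (-B z x) • e by abel)]

end Cfsg.Agent.SimpleFacts.MinDegOrth
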