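import Mathlib
import Cfsg.Agent.Lib.Characters.Schur
import Cfsg.Agent.SimpleFacts.MinDegOrth.Moves

/-!
A representation of the group of a subspace with a hyperbolic pair, decomposed under the Eichler
transformations with first vector in the pair.
-/

set_option autoImplicit false
set_option linter.unusedSectionVars false
set_option linter.unusedSimpArgs false

namespace Cfsg.Agent.SimpleFacts.MinDegOrth

open Cfsg.Agent.Forms Cfsg.Agent.Forms.QuadStd Cfsg.Agent.Forms.Reflections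
open Cfsg.Agent.Classical.Orth
open scoped commutatorElement

variable {F : Type*} [Field F] [Fintype F] {ι : Type} [Fintype ι] [DecidableEq ι]
variable {Q : QuadraticForm F (ι → F)}

local notation "Vec" => (ι → F)
local notation "B" => QuadraticMap.polar Q

noncomputable scoped instance subFintype (S : Submodule F (ι → F)) : Fintype S := Fintype.ofFinite _

/-! ### Elements -/

open _root_.Classical in
/-- The Eichler transformation as an element of the group of `S`, or `1`. -/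
noncomputable def el (Q : QuadraticForm F (ι → F)) (S : Submodule F (ι → F)) (a c : ι → F) :
    eGroup Q S :=
  if h : Q a = 0 ∧ QuadraticMap.polar Q a c = 0 ∧ a ∈ S ∧ c ∈ S then
    ⟨eich a c h.1 h.2.1, eich_mem h.1 h.2.1 h.2.2.1 h.2.2.2⟩
  else 1

variable {S : Submodule F (ι → F)}

theorem el_val {a c : Vec} (ha : Q a = 0) (hac : B a c = 0) (h1 : a ∈ S) (h2 : c ∈ S) :
    (el Q S a c : Cfsg.isometryGroup F ⇑Q) = eich a c ha hac := by
  rw [el, dif_pos ⟨ha, hac, h1, h2⟩]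

theorem el_conj (g : eGroup Q S) {a c : Vec} (ha : Q a = 0) (hac : B a c = 0) (h1 : a ∈ S)
    (h2 : c ∈ S) : g * el Q S a c * g⁻¹ = el Q S (act g.1 a) (act g.1 c) := by
  refine Subtype.ext ?_
  rw [Subgroup.coe_mul, Subgroup.coe_mul, InvMemClass.coe_inv, el_val ha hac h1 h2, eich_conj,
    el_val (by rw [act_map]; exact ha) (by rw [act_polar]; exact hac) (act_mem g.2 h1)
      (act_mem g.2 h2)]

theorem el_add {a w w' : Vec} (ha : Q a = 0) (hw : B a w = 0) (hw' : B a w' = 0) (h1 : a ∈ S)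
    (h2 : w ∈ S) (h2' : w' ∈ S) : el Q S a (w + w') = el Q S a w * el Q S a w' := by
  refine Subtype.ext ?_
  rw [Subgroup.coe_mul, el_val ha hw h1 h2, el_val ha hw' h1 h2', eich_mul,
    el_val ha (by rw [QuadraticMap.polar_add_right, hw, hw', add_zero]) h1 (S.add_mem h2 h2')]

theorem el_zero {a : Vec} (ha : Q a = 0) (h1 : a ∈ S) : el Q S a 0 = 1 := by
  refine Subtype.ext ?_
  rw [el_val ha (QuadraticMap.polar_zero_right _ _) h1 S.zero_mem, eich_zero_right]
  rfl

theorem el_smul {a w : Vec} (t : F) (ha : Q a = 0) (hw : B a w = 0) (h1 : a ∈ S) (h2 : w ∈ S) :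
    el Q S (t • a) w = el Q S a (t • w) := by
  refine Subtype.ext ?_
  rw [el_val (by rw [map_smul', ha, mul_zero])
      (by rw [QuadraticMap.polar_smul_left, hw, smul_zero]) (S.smul_mem _ h1) h2,
    el_val ha (by rw [QuadraticMap.polar_smul_right, hw, smul_zero]) h1 (S.smul_mem _ h2)]
  exact eich_smul t _ _ _ _

theorem eGroup_mono {W : Submodule F Vec} (h : W ≤ S) : eGroup Q W ≤ eGroup Q S := by
  refine (Subgroup.closure_le _).2 ?_
  rintro g ⟨a, c, ha, hac, h1, h2, rfl⟩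
  exact eich_mem ha hac (h h1) (h h2)

/-! ### Rank one idempotents -/

theorem trace_proj {V : Type*} [AddCommGroup V] [Module ℂ V] [FiniteDimensional ℂ V]
    {P : Module.End ℂ V} (hP : P * P = P) :
    LinearMap.trace ℂ V P = (Module.finrank ℂ (LinearMap.range P) : ℂ) := by
  have h : LinearMap.IsProj (LinearMap.range P) P :=
    ⟨fun x => LinearMap.mem_range_self P x, fun x ⟨z, hz⟩ => by
      rw [← hz, ← Module.End.mul_apply, hP]⟩
  exact h.trace

theorem scalar_on_line {V : Type*} [AddCommGroup V] [Module ℂ V] [FiniteDimensional ℂ V]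
    {P A : Module.End ℂ V} (hP : P * P = P) (h1 : LinearMap.trace ℂ V P = 1)
    (hA : Commute A P) : ∃ α : ℂ, A * P = α • P := by
  rw [trace_proj hP, Nat.cast_eq_one] at h1
  obtain ⟨x, hx0, hx⟩ := finrank_eq_one_iff'.1 h1
  obtain ⟨z, hz⟩ := x.2
  have hAx : A x.1 ∈ LinearMap.range P := ⟨A z, by
    rw [← hz, ← Module.End.mul_apply, ← Module.End.mul_apply, hA.eq]⟩
  obtain ⟨α, hα⟩ := hx ⟨_, hAx⟩
  refine ⟨α, LinearMap.ext fun y => ?_⟩
  obtain ⟨c, hc⟩ := hx ⟨P y, LinearMap.mem_range_self P y⟩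
  have hc' : c • x.1 = P y := congrArg Subtype.val hc
  have hα' : α • x.1 = A x.1 := congrArg Subtype.val hα
  rw [Module.End.mul_apply, LinearMap.smul_apply, ← hc', map_smul, ← hα', smul_comm]

variable {V : Type*} [AddCommGroup V] [Module ℂ V] [FiniteDimensional ℂ V]
variable (ρ : Representation ℂ (eGroup Q S) V)

/-- Commutators act trivially on an invariant line. -/
theorem commutator_on_line {P : Module.End ℂ V} (hP : P * P = P)
    (h1 : LinearMap.trace ℂ V P = 1) {a b : eGroup Q S} (ha : Commute (ρ a) P)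
    (hb : Commute (ρ b) P) : ρ ⁅a, b⁆ * P = P := by
  have hinv : ∀ g : eGroup Q S, Commute (ρ g) P → Commute (ρ g⁻¹) P := by
    intro g hg
    show ρ g⁻¹ * P = P * ρ g⁻¹
    calc ρ g⁻¹ * P = ρ g⁻¹ * (P * ρ g) * ρ g⁻¹ := by
          rw [mul_assoc, mul_assoc, ← map_mul, mul_inv_cancel, map_one, mul_one]
      _ = P * ρ g⁻¹ := by rw [← hg.eq, ← mul_assoc, ← map_mul, inv_mul_cancel, map_one, one_mul]
  obtain ⟨α, hα⟩ := scalar_on_line hP h1 ha
  obtain ⟨β, hβ⟩ := scalar_on_line hP h1 hb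
  obtain ⟨α', hα'⟩ := scalar_on_line hP h1 (hinv a ha)
  obtain ⟨β', hβ'⟩ := scalar_on_line hP h1 (hinv b hb)
  have hne : P ≠ 0 := fun h => by rw [h, map_zero] at h1; exact zero_ne_one h1
  have key : ∀ (g : eGroup Q S) (c c' : ℂ), ρ g * P = c • P → ρ g⁻¹ * P = c' • P → c' * c = 1 := by
    intro g c c' e e'
    have h : (c * c') • P = (1 : ℂ) • P := by
      have h2 := congrArg (fun X => ρ g⁻¹ * X) e
      simp only [← mul_assoc, ← map_mul, inv_mul_cancel, map_one, one_mul, mul_smul_comm, e',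
        smul_smul] at h2
      rw [one_smul]
      exact h2.symm
    rw [mul_comm]
    exact smul_left_injective ℂ hne h
  have hab := key a α α' hα hα'
  have hbb := key b β β' hβ hβ'
  rw [commutatorElement_def, map_mul, map_mul, map_mul, mul_assoc, hβ', mul_smul_comm, mul_assoc,
    hα', mul_smul_comm, mul_assoc, hβ, mul_smul_comm, hα, smul_smul, smul_smul, smul_smul,
    show β' * α' * β * α = α' * α * (β' * β) by ring, hab, hbb, mul_one, one_smul]

/-! ### The decomposition -/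

/-- A non-degenerate subspace with a pair. -/
structure Cfg (Q : QuadraticForm F (ι → F)) (S : Submodule F (ι → F)) (u v : ι → F) : Prop where
  nd : ND Q S
  p : IsPair Q u v
  hu : u ∈ S
  hv : v ∈ S

variable (ψ : AddChar F ℂ)

/-- The projection onto the vectors on which the radical acts by the character of `y`. -/
noncomputable def pr (u v y : ι → F) : Module.End ℂ V :=
  (Nat.card (perp Q S u v) : ℂ)⁻¹ •
    ∑ w : perp Q S u v, ψ (-QuadraticMap.polar Q y w.1) • ρ (el Q S u w.1)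

/-- The multiplicity of the character of `y`. -/
noncomputable def mult (u v y : ι → F) : ℕ := Module.finrank ℂ (LinearMap.range (pr ρ ψ u v y))

variable {ψ} {u v : ι → F}

theorem Cfg.el_add' (C : Cfg Q S u v) {w w' : Vec} (hw : w ∈ perp Q S u v)
    (hw' : w' ∈ perp Q S u v) : el Q S u (w + w') = el Q S u w * el Q S u w' :=
  el_add C.p.hu (perp_left hw) (perp_left hw') C.hu (perp_le hw) (perp_le hw')

open _root_.Classical in
theorem Cfg.orth (C : Cfg Q S u v) (hψ : ψ ≠ 1) {x : Vec} (hx : x ∈ perp Q S u v) :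
    ∑ w : perp Q S u v, ψ (B x w.1) = if x = 0 then (Nat.card (perp Q S u v) : ℂ) else 0 := by
  let χ : AddChar (perp Q S u v) ℂ :=
    { toFun := fun w => ψ (B x w.1)
      map_zero_eq_one' := by simp
      map_add_eq_mul' := fun a b => by
        simp [QuadraticMap.polar_add_right, AddChar.map_add_eq_mul] }
  by_cases hx0 : x = 0
  · rw [if_pos hx0]
    simp [hx0, Nat.card_eq_fintype_card, QuadraticMap.polar_zero_left]
  · rw [if_neg hx0]
    refine AddChar.sum_eq_zero_of_ne_one (ψ := χ) fun hχ => hψ (DFunLike.ext _ _ fun t => ?_)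
    obtain ⟨z, hz, hxz⟩ := exists_one (perp_nd C.p C.hu C.hv C.nd) hx hx0
    have h := DFunLike.congr_fun hχ ⟨t • z, (perp Q S u v).smul_mem t hz⟩
    simpa [χ, QuadraticMap.polar_smul_right, hxz] using h

theorem Cfg.card_ne (C : Cfg Q S u v) : (Nat.card (perp Q S u v) : ℂ) ≠ 0 :=
  Nat.cast_ne_zero.2 Nat.card_pos.ne'

theorem Cfg.el_mul_pr (C : Cfg Q S u v) {x : Vec} (hx : x ∈ perp Q S u v) (y : Vec) :
    ρ (el Q S u x) * pr ρ ψ u v y = ψ (B y x) • pr ρ ψ u v y := by
  simp only [pr, mul_smul_comm, Finset.mul_sum, ← map_mul]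
  rw [smul_comm (ψ (B y x)), Finset.smul_sum (r := ψ (B y x))]
  congr 1
  refine Fintype.sum_equiv (Equiv.addLeft (⟨x, hx⟩ : perp Q S u v)) _ _ fun w => ?_
  rw [← C.el_add' hx w.2, smul_smul, ← AddChar.map_add_eq_mul]
  congr 2
  simp [QuadraticMap.polar_add_right]

open _root_.Classical in
theorem Cfg.pr_mul (C : Cfg Q S u v) (hψ : ψ ≠ 1) {x y : Vec} (hx : x ∈ perp Q S u v)
    (hy : y ∈ perp Q S u v) :
    pr ρ ψ u v x * pr ρ ψ u v y = if x = y then pr ρ ψ u v y else 0 := by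
  have h : pr ρ ψ u v x * pr ρ ψ u v y = ((Nat.card (perp Q S u v) : ℂ)⁻¹ *
      ∑ w : perp Q S u v, ψ (B (y - x) w.1)) • pr ρ ψ u v y := by
    conv_lhs => arg 1; rw [pr]
    rw [smul_mul_assoc, Finset.sum_mul, ← smul_smul, Finset.sum_smul]
    congr 1
    refine Finset.sum_congr rfl fun w _ => ?_
    rw [smul_mul_assoc, C.el_mul_pr ρ w.2, smul_smul, ← AddChar.map_add_eq_mul,
      QuadraticMap.polar_sub_left, neg_add_eq_sub]
  rw [h, C.orth hψ ((perp Q S u v).sub_mem hy hx)]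
  by_cases e : x = y
  · rw [if_pos e, if_pos (sub_eq_zero.2 e.symm), inv_mul_cancel₀ C.card_ne, one_smul]
  · rw [if_neg e, if_neg (fun h0 => e (sub_eq_zero.1 h0).symm), mul_zero, zero_smul]

theorem Cfg.sum_pr (C : Cfg Q S u v) (hψ : ψ ≠ 1) :
    ∑ y : perp Q S u v, pr ρ ψ u v y.1 = 1 := by
  classical
  simp only [pr, ← Finset.smul_sum]
  rw [Finset.sum_comm]
  simp only [← Finset.sum_smul]
  rw [Finset.sum_eq_single (0 : perp Q S u v)]
  · simp [el_zero C.p.hu C.hu, Nat.card_eq_fintype_card, smul_smul]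
  · intro w _ hw
    have h := C.orth hψ ((perp Q S u v).neg_mem w.2)
    rw [if_neg (fun h0 => hw (Subtype.ext (neg_eq_zero.1 h0)))] at h
    have h' : ∑ y : perp Q S u v, ψ (-B y.1 w.1) = 0 := by
      refine Eq.trans (Finset.sum_congr rfl fun y _ => ?_) h
      rw [QuadraticMap.polar_neg_left, QuadraticMap.polar_comm]
    rw [h', zero_smul]
  · intro h; exact absurd (Finset.mem_univ _) h

theorem Cfg.pr_idem (C : Cfg Q S u v) (hψ : ψ ≠ 1) {y : Vec} (hy : y ∈ perp Q S u v) :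
    pr ρ ψ u v y * pr ρ ψ u v y = pr ρ ψ u v y := by
  classical
  rw [C.pr_mul ρ hψ hy hy, if_pos rfl]

theorem Cfg.trace_pr (C : Cfg Q S u v) (hψ : ψ ≠ 1) {y : Vec} (hy : y ∈ perp Q S u v) :
    LinearMap.trace ℂ V (pr ρ ψ u v y) = (mult ρ ψ u v y : ℂ) :=
  trace_proj (C.pr_idem ρ hψ hy)

theorem Cfg.trace_eq (C : Cfg Q S u v) (hψ : ψ ≠ 1) (A : Module.End ℂ V) :
    LinearMap.trace ℂ V A = ∑ y : perp Q S u v, LinearMap.trace ℂ V (A * pr ρ ψ u v y.1) := by
  rw [← map_sum, ← Finset.mul_sum, C.sum_pr ρ hψ, mul_one]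

theorem Cfg.sum_mult (C : Cfg Q S u v) (hψ : ψ ≠ 1) :
    ∑ y : perp Q S u v, mult ρ ψ u v y.1 = Module.finrank ℂ V := by
  have h := C.trace_eq ρ hψ 1
  rw [LinearMap.trace_one] at h
  simp only [one_mul] at h
  rw [Finset.sum_congr rfl fun (y : perp Q S u v) _ => C.trace_pr ρ hψ y.2] at h
  exact_mod_cast h.symm

theorem Cfg.trace_el (C : Cfg Q S u v) (hψ : ψ ≠ 1) {w : Vec} (hw : w ∈ perp Q S u v) :
    LinearMap.trace ℂ V (ρ (el Q S u w)) =
      ∑ y : perp Q S u v, (mult ρ ψ u v y.1 : ℂ) * ψ (B y.1 w) := by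
  rw [C.trace_eq ρ hψ]
  refine Finset.sum_congr rfl fun y _ => ?_
  rw [C.el_mul_pr ρ hw, map_smul, C.trace_pr ρ hψ y.2, smul_eq_mul, mul_comm]

theorem Cfg.act_perp (C : Cfg Q S u v) {g : eGroup Q S} {s : F} (hs : s ≠ 0)
    (hgu : act g.1 u = s • u) (hgv : act g.1 v = s⁻¹ • v) {w : Vec} (hw : w ∈ perp Q S u v) :
    act g.1 w ∈ perp Q S u v := by
  have h1 := act_polar g.1 u w
  have h2 := act_polar g.1 v w
  rw [hgu, QuadraticMap.polar_smul_left, perp_left hw, smul_eq_zero] at h1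
  rw [hgv, QuadraticMap.polar_smul_left, perp_right hw, smul_eq_zero] at h2
  exact mem_perp.2 ⟨act_mem g.2 (perp_le hw), h1.resolve_left hs,
    h2.resolve_left (inv_ne_zero hs)⟩

theorem Cfg.mul_pr (C : Cfg Q S u v) {g : eGroup Q S} {s : F} (hs : s ≠ 0)
    (hgu : act g.1 u = s • u) (hgv : act g.1 v = s⁻¹ • v) (y : Vec) :
    ρ g * pr ρ ψ u v y = pr ρ ψ u v (s⁻¹ • act g.1 y) * ρ g := by
  simp only [pr, mul_smul_comm, smul_mul_assoc, Finset.mul_sum, Finset.sum_mul]
  congr 1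
  let f : perp Q S u v → perp Q S u v := fun w =>
    ⟨s • act g.1 w.1, (perp Q S u v).smul_mem _ (C.act_perp hs hgu hgv w.2)⟩
  have hf : Function.Bijective f := Finite.injective_iff_bijective.1 fun a b h => by
    have h' : s • act g.1 a.1 = s • act g.1 b.1 := congrArg Subtype.val h
    refine Subtype.ext ?_
    have := congrArg (act g.1⁻¹) (smul_right_injective _ hs h')
    rwa [Spinor.act_inv_cancel, Spinor.act_inv_cancel] at this
  refine Fintype.sum_equiv (Equiv.ofBijective f hf) _ _ fun w => ?_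
  show ψ (-B y w.1) • (ρ g * ρ (el Q S u w.1)) =
    ψ (-B (s⁻¹ • act g.1 y) (s • act g.1 w.1)) • (ρ (el Q S u (s • act g.1 w.1)) * ρ g)
  have hpol : B (s⁻¹ • act g.1 y) (s • act g.1 w.1) = B y w.1 := by
    rw [QuadraticMap.polar_smul_left, QuadraticMap.polar_smul_right, act_polar, smul_smul,
      inv_mul_cancel₀ hs, one_smul]
  rw [hpol, ← map_mul, ← map_mul, ← el_smul s C.p.hu
    (perp_left (C.act_perp hs hgu hgv w.2)) C.hu (perp_le (C.act_perp hs hgu hgv w.2)), ← hgu,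
    ← el_conj g C.p.hu (perp_left w.2) C.hu (perp_le w.2), inv_mul_cancel_right]

theorem Cfg.mult_move (C : Cfg Q S u v) (hψ : ψ ≠ 1) {g : eGroup Q S} {s : F} (hs : s ≠ 0)
    (hgu : act g.1 u = s • u) (hgv : act g.1 v = s⁻¹ • v) {y : Vec} (hy : y ∈ perp Q S u v) :
    mult ρ ψ u v (s⁻¹ • act g.1 y) = mult ρ ψ u v y := by
  have hy' := (perp Q S u v).smul_mem s⁻¹ (C.act_perp hs hgu hgv hy)
  have h : LinearMap.trace ℂ V (pr ρ ψ u v (s⁻¹ • act g.1 y)) =
      LinearMap.trace ℂ V (pr ρ ψ u v y) := by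
    have e : pr ρ ψ u v (s⁻¹ • act g.1 y) = ρ g * (pr ρ ψ u v y * ρ g⁻¹) := by
      rw [← mul_assoc, C.mul_pr ρ hs hgu hgv, mul_assoc, ← map_mul, mul_inv_cancel, map_one,
        mul_one]
    rw [e, LinearMap.trace_mul_comm, mul_assoc, ← map_mul, inv_mul_cancel, map_one, mul_one]
  rw [C.trace_pr ρ hψ hy, C.trace_pr ρ hψ hy'] at h
  exact_mod_cast h

theorem act_fix_perp (C : Cfg Q S u v) {g : Cfsg.isometryGroup F ⇑Q}
    (hg : g ∈ eGroup Q (perp Q S u v)) : act g u = u ∧ act g v = v :=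
  ⟨eGroup_fix hg fun _ hw => perp_left hw, eGroup_fix hg fun _ hw => perp_right hw⟩

theorem Cfg.fix_mul_pr (C : Cfg Q S u v) {g : eGroup Q S} (hgu : act g.1 u = u)
    (hgv : act g.1 v = v) (y : Vec) :
    ρ g * pr ρ ψ u v y = pr ρ ψ u v (act g.1 y) * ρ g := by
  simpa using C.mul_pr ρ (g := g) one_ne_zero (by rw [one_smul]; exact hgu)
    (by rw [inv_one, one_smul]; exact hgv) y

theorem Cfg.commute_pr (C : Cfg Q S u v) {g : eGroup Q S} (hgu : act g.1 u = u)
    (hgv : act g.1 v = v) {y : Vec} (hgy : act g.1 y = y) :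
    Commute (ρ g) (pr ρ ψ u v y) := by
  have := C.fix_mul_pr ρ (ψ := ψ) hgu hgv y
  rwa [hgy] at this

theorem Cfg.trace_moved (C : Cfg Q S u v) (hψ : ψ ≠ 1) {g : eGroup Q S} (hgu : act g.1 u = u)
    (hgv : act g.1 v = v) {y : Vec} (hy : y ∈ perp Q S u v) (hgy : act g.1 y ≠ y) :
    LinearMap.trace ℂ V (ρ g * pr ρ ψ u v y) = 0 := by
  classical
  have hy' : act g.1 y ∈ perp Q S u v := by
    have := C.act_perp (g := g) one_ne_zero (by rw [one_smul]; exact hgu)
      (by rw [inv_one, one_smul]; exact hgv) hy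
    exact this
  rw [← C.pr_idem ρ hψ hy, ← mul_assoc, LinearMap.trace_mul_comm, C.fix_mul_pr ρ hgu hgv,
    ← mul_assoc, C.pr_mul ρ hψ hy hy', if_neg (Ne.symm hgy), zero_mul, map_zero]

/-- The fixed space of the radical as a representation of the group of the complement. -/
noncomputable def fixRep (C : Cfg Q S u v) :
    Representation ℂ (eGroup Q (perp Q S u v)) (LinearMap.range (pr ρ ψ u v 0)) :=
  Cfsg.Agent.Characters.subRep (ρ.comp (Subgroup.inclusion (eGroup_mono perp_le))) _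
    (fun g x hx => by
      obtain ⟨z, rfl⟩ := hx
      refine ⟨ρ (Subgroup.inclusion (eGroup_mono perp_le) g) z, ?_⟩
      have h := C.fix_mul_pr ρ (ψ := ψ) (g := Subgroup.inclusion (eGroup_mono perp_le) g)
        (act_fix_perp C g.2).1 (act_fix_perp C g.2).2 0
      rw [map_zero] at h
      exact (LinearMap.congr_fun h z).symm)

theorem fixRep_triv (C : Cfg Q S u v) (hψ : ψ ≠ 1) {g : eGroup Q (perp Q S u v)}
    (h : fixRep ρ (ψ := ψ) C g = 1) :
    ρ (Subgroup.inclusion (eGroup_mono perp_le) g) * pr ρ ψ u v 0 = pr ρ ψ u v 0 := by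
  refine LinearMap.ext fun z => ?_
  have := congrArg Subtype.val (LinearMap.congr_fun h ⟨_, LinearMap.mem_range_self _ z⟩)
  exact this

end Cfsg.Agent.SimpleFacts.MinDegOrth
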