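import Mathlib

/-!
The arithmetic of the degree bounds for the orthogonal groups of even dimension.
-/

set_option autoImplicit false

namespace Cfsg.Agent.SimpleFacts.MinDegOrth

/-- The bound for half-dimension `h + 2`, by recursion. -/
def dg (q : ℕ) (ε : ℤ) : ℕ → ℤ
  | 0 => q + ε * q
  | h + 1 => dg q ε h + 1 + ((q : ℤ) ^ (h + 2) - ε) * ((q : ℤ) ^ (h + 1) + ε)

variable {q : ℕ} {ε : ℤ}

theorem dg_closed (hε : ε = 1 ∨ ε = -1) (h : ℕ) :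
    ((q : ℤ) ^ 2 - 1) * dg q ε h = ((q : ℤ) ^ (h + 2) - ε) * ((q : ℤ) ^ (h + 1) + ε * q) := by
  induction h with
  | zero => rcases hε with rfl | rfl <;> simp [dg] <;> ring
  | succ h ih =>
    simp only [dg, mul_add, ih]
    rcases hε with rfl | rfl <;> ring

theorem dg_nonneg (hε : ε = 1 ∨ ε = -1) (hq : 2 ≤ q) (h : ℕ) : 0 ≤ dg q ε h := by
  induction h with
  | zero => rcases hε with rfl | rfl <;> simp [dg]
  | succ h ih =>
    simp only [dg]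
    have h1 : (2 : ℤ) ≤ (q : ℤ) ^ (h + 1) :=
      le_trans (by exact_mod_cast hq) (le_self_pow₀ (by exact_mod_cast (by omega : 1 ≤ q)) (by omega))
    have h2 : (2 : ℤ) ≤ (q : ℤ) ^ (h + 2) :=
      le_trans (by exact_mod_cast hq) (le_self_pow₀ (by exact_mod_cast (by omega : 1 ≤ q)) (by omega))
    have h3 : 0 ≤ ((q : ℤ) ^ (h + 2) - ε) * ((q : ℤ) ^ (h + 1) + ε) := by
      refine mul_nonneg ?_ ?_ <;> rcases hε with rfl | rfl <;> linarith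
    linarith

theorem dg_succ_dvd (hε : ε = 1 ∨ ε = -1) (h : ℕ) : (q : ℤ) ∣ dg q ε h := by
  have h1 := dg_closed (q := q) hε h
  refine ⟨(q : ℤ) * dg q ε h - ((q : ℤ) ^ (h + 2) - ε) * ((q : ℤ) ^ h + ε), ?_⟩
  linear_combination -h1

theorem level_bounds (hε : ε = 1 ∨ ε = -1) (hq : 2 ≤ q) (h4 : ε = 1 → 4 ≤ q) (h : ℕ) :
    dg q ε (h + 1) ≤ 2 * (((q : ℤ) ^ (h + 2) - ε) * ((q : ℤ) ^ (h + 1) + ε)) ∧
      dg q ε (h + 1) ≤ 2 * ((q : ℤ) ^ (2 * h + 3) - ε * (q : ℤ) ^ (h + 1)) := by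
  have hQ : (2 : ℤ) ≤ q := by exact_mod_cast hq
  have hX : (1 : ℤ) ≤ (q : ℤ) ^ h := one_le_pow₀ (by linarith)
  have hc := dg_closed (q := q) hε h
  have hpos : (0 : ℤ) < (q : ℤ) ^ 2 - 1 := by nlinarith
  simp only [dg]
  have e1 : (q : ℤ) ^ (h + 2) = (q : ℤ) ^ 2 * (q : ℤ) ^ h := by ring
  have e2 : (q : ℤ) ^ (h + 1) = (q : ℤ) * (q : ℤ) ^ h := by ring
  have e3 : (q : ℤ) ^ (2 * h + 3) = (q : ℤ) ^ 3 * ((q : ℤ) ^ h) ^ 2 := by ring
  rw [e1, e2] at hc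
  rw [e1, e2, e3]
  obtain ⟨X, hXdef⟩ : ∃ X, X = (q : ℤ) ^ h := ⟨_, rfl⟩
  obtain ⟨d, hd⟩ : ∃ d, d = dg q ε h := ⟨_, rfl⟩
  rw [← hXdef] at hc hX ⊢
  rw [← hd] at hc ⊢
  have hXX : X ≤ X ^ 2 := by nlinarith
  have hP : (0 : ℤ) ≤ (q : ℤ) ^ 3 * ((q : ℤ) ^ 2 - 2) := by
    refine mul_nonneg (by positivity) ?_
    nlinarith
  have hP2 := mul_le_mul_of_nonneg_left hXX hP
  have hP1 := mul_le_mul_of_nonneg_left hX hP
  have hX0 : (0 : ℤ) ≤ X := by linarith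
  rcases hε with rfl | rfl
  · have hQ4 : (4 : ℤ) ≤ q := by exact_mod_cast h4 rfl
    constructor <;> refine le_of_mul_le_mul_left ?_ hpos
    · nlinarith [mul_nonneg (mul_nonneg (mul_nonneg (by positivity : (0 : ℤ) ≤ (q : ℤ) * X)
          (show (0 : ℤ) ≤ (q : ℤ) - 2 by linarith)) (show (0 : ℤ) ≤ (q : ℤ) ^ 2 - 1 by linarith))
          (show (0 : ℤ) ≤ 1 by norm_num),
        mul_le_mul_of_nonneg_left (show (4 : ℤ) ≤ q from hQ4) (by positivity : (0 : ℤ) ≤ (q : ℤ) ^ 4),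
        mul_le_mul hQ4 hQ4 (by norm_num) (by linarith)]
    · nlinarith [mul_nonneg (by positivity : (0 : ℤ) ≤ (q : ℤ) ^ 3 * X)
        (show (0 : ℤ) ≤ (q : ℤ) ^ 2 - q - 4 by nlinarith),
        mul_nonneg (by positivity : (0 : ℤ) ≤ (q : ℤ) ^ 2 * X) hX0]
  · constructor <;> refine le_of_mul_le_mul_left ?_ hpos
    · nlinarith [mul_nonneg (mul_nonneg (by positivity : (0 : ℤ) ≤ (q : ℤ) ^ 4)
          (show (0 : ℤ) ≤ (q : ℤ) - 1 by linarith)) (show (0 : ℤ) ≤ X - 1 by linarith),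
        mul_nonneg (mul_nonneg (by positivity : (0 : ℤ) ≤ (q : ℤ))
          (show (0 : ℤ) ≤ (q : ℤ) - 2 by linarith)) (show (0 : ℤ) ≤ X - 1 by linarith),
        mul_le_mul_of_nonneg_left (show (2 : ℤ) ≤ q from hQ) (by positivity : (0 : ℤ) ≤ (q : ℤ) ^ 4),
        mul_le_mul_of_nonneg_left (show (4 : ℤ) ≤ (q : ℤ) ^ 2 by nlinarith)
          (by positivity : (0 : ℤ) ≤ (q : ℤ) ^ 2)]
    · nlinarith [mul_nonneg (mul_nonneg (by positivity : (0 : ℤ) ≤ (q : ℤ) * X)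
          (show (0 : ℤ) ≤ (q : ℤ) + 1 by linarith)) (show (0 : ℤ) ≤ (q : ℤ) ^ 2 - 1 by linarith)]

/-- The minus type: a level of non-zero value is larger than the singular one. -/
theorem level_gap (hq : 2 ≤ q) (h : ℕ) :
    ((q : ℤ) ^ (h + 2) - (-1)) * ((q : ℤ) ^ (h + 1) + (-1)) + 1 ≤
      (q : ℤ) ^ (2 * h + 3) - (-1) * (q : ℤ) ^ (h + 1) := by
  have hQ : (2 : ℤ) ≤ q := by exact_mod_cast hq
  have hX : (1 : ℤ) ≤ (q : ℤ) ^ (h + 2) := one_le_pow₀ (by linarith)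
  nlinarith [show ((q : ℤ) ^ (h + 2)) * (q : ℤ) ^ (h + 1) = (q : ℤ) ^ (2 * h + 3) by ring]

theorem level_four (hq : 2 ≤ q) :
    dg q (-1) 2 ≤ (q : ℤ) ^ (2 * 1 + 3) - (-1) * (q : ℤ) ^ (1 + 1) := by
  have hQ : (2 : ℤ) ≤ q := by exact_mod_cast hq
  simp [dg]
  nlinarith

theorem no_borderline (hε : ε = 1 ∨ ε = -1) (hq : 2 ≤ q) (h : ℕ) (hh : ε = -1 → 1 ≤ h) {k : ℕ}
    (hk : (k : ℤ) = dg q ε (h + 1) - 1)
    (hdvd : (k : ℤ) ∣ dg q ε (h + 1) * ((q : ℤ) ^ (2 * h + 4) - 1) * (q : ℤ) ^ (2 * h + 2)) :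
    False := by
  have hQ : (2 : ℤ) ≤ q := by exact_mod_cast hq
  obtain ⟨τ, hτ⟩ := dg_succ_dvd (q := q) hε (h + 1)
  have hc := dg_closed (q := q) hε (h + 1)
  obtain ⟨d, hd⟩ : ∃ d, d = dg q ε (h + 1) := ⟨_, rfl⟩
  rw [← hd] at hk hdvd hτ hc
  have cq : IsCoprime (k : ℤ) (q : ℤ) := ⟨-1, τ, by rw [hk, hτ]; ring⟩
  have cd : IsCoprime (k : ℤ) d := ⟨-1, 1, by rw [hk]; ring⟩
  replace hdvd := cd.dvd_of_dvd_mul_left ((cq.pow_right (n := 2 * h + 2)).dvd_of_dvd_mul_right hdvd)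
  obtain ⟨j, hj⟩ := hdvd
  have hX0 : (q : ℤ) ≤ (q : ℤ) ^ (h + 1) := le_self_pow₀ (by linarith) (by omega)
  have hX2 : ε = -1 → (q : ℤ) ^ 2 ≤ (q : ℤ) ^ (h + 1) := fun e =>
    pow_le_pow_right₀ (by linarith) (by have := hh e; omega)
  rw [show (q : ℤ) ^ (h + 1 + 2) = (q : ℤ) ^ 2 * (q : ℤ) ^ (h + 1) by ring,
    show (q : ℤ) ^ (h + 1 + 1) = q * (q : ℤ) ^ (h + 1) by ring] at hc
  rw [show (q : ℤ) ^ (2 * h + 4) = (q : ℤ) ^ 2 * ((q : ℤ) ^ (h + 1)) ^ 2 by ring] at hj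
  obtain ⟨X, hX⟩ : ∃ X, X = (q : ℤ) ^ (h + 1) := ⟨_, rfl⟩
  rw [← hX] at hc hj hX0 hX2
  have hX1 : (0 : ℤ) ≤ X := by linarith
  have hA : (1 : ℤ) ≤ (q : ℤ) ^ 2 - q - 1 := by nlinarith
  -- `k` is smaller than the number it divides
  have hlt : (k : ℤ) < (q : ℤ) ^ 2 * X ^ 2 - 1 := by
    refine lt_of_mul_lt_mul_left ?_ (show (0 : ℤ) ≤ (q : ℤ) ^ 2 - 1 by nlinarith)
    rw [hk]
    rcases hε with rfl | rfl <;>
      nlinarith [mul_le_mul_of_nonneg_left hX0 (mul_nonneg (by positivity : (0 : ℤ) ≤ (q : ℤ) ^ 2 * X)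
          (show (0 : ℤ) ≤ (q : ℤ) ^ 2 - q - 1 by linarith)),
        mul_le_mul_of_nonneg_left hA (by positivity : (0 : ℤ) ≤ (q : ℤ) ^ 3 * X),
        mul_nonneg hX1 (show (0 : ℤ) ≤ q by linarith),
        mul_nonneg (mul_nonneg hX1 (show (0 : ℤ) ≤ q by linarith))
          (show (0 : ℤ) ≤ (q : ℤ) ^ 2 - 1 by nlinarith)]
  have hk0 : (0 : ℤ) ≤ k := Int.natCast_nonneg k
  -- and the quotient is at least `q + 1`
  have hj1 : (q : ℤ) ∣ j - 1 := ⟨τ * j - (q : ℤ) * X ^ 2, by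
    rw [hk, hτ] at hj
    linear_combination hj⟩
  obtain ⟨r, hr⟩ := hj1
  have hjpos : 0 < j := by nlinarith
  have hjne : j ≠ 1 := fun e => by rw [e, mul_one] at hj; linarith
  have hr1 : 1 ≤ r := by
    by_contra hcon
    have : r ≤ 0 := by linarith [Int.le_sub_one_of_lt (not_le.1 hcon)]
    rcases eq_or_lt_of_le this with e | e
    · rw [e, mul_zero, sub_eq_zero] at hr
      exact hjne hr
    · nlinarith
  have hjge : (q : ℤ) + 1 ≤ j := by nlinarith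
  have hbig : (q : ℤ) ^ 2 * X ^ 2 - 1 < (k : ℤ) * ((q : ℤ) + 1) := by
    refine lt_of_mul_lt_mul_right ?_ (show (0 : ℤ) ≤ (q : ℤ) - 1 by linarith)
    rw [hk]
    rcases hε with rfl | rfl
    · nlinarith [mul_le_mul_of_nonneg_left hX0 (show (0 : ℤ) ≤ (q : ℤ) ^ 2 * X by nlinarith)]
    · nlinarith [mul_le_mul_of_nonneg_left (hX2 rfl) (show (0 : ℤ) ≤ (q : ℤ) ^ 2 * X by nlinarith)]
  nlinarith

/-- The part prime to the characteristic. -/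
theorem dvd_strip {p a k i m : ℕ} {Y : ℤ} (hp : p.Prime) (hi0 : 0 < i) (hi : i < 4)
    (hsq : p ∣ i → 2 ≤ a) (hki : p ^ a ∣ k + i) (h : (k : ℤ) ∣ Y * ((p : ℤ) ^ a) ^ m) :
    (k : ℤ) ∣ (i : ℤ) * Y := by
  rcases Nat.eq_zero_or_pos a with rfl | ha
  · rw [pow_zero, one_pow, mul_one] at h
    exact h.mul_left _
  by_cases hpi : p ∣ i
  · have hpi' : p = i := by
      obtain ⟨d, hd⟩ := hpi
      rcases Nat.lt_or_ge d 2 with h2 | h2
      · interval_cases d <;> omega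
      · exfalso
        have := hp.two_le
        nlinarith
    have h2 := hsq hpi
    have hp2 : p ^ 2 ∣ k + i := (pow_dvd_pow p h2).trans hki
    have hp1 : p ∣ k := (Nat.dvd_add_left hpi).1 ((dvd_pow_self p two_ne_zero).trans hp2)
    obtain ⟨k', rfl⟩ := hp1
    have hk' : ¬ p ∣ k' := by
      intro hd
      rw [← hpi'] at hp2
      have h3 : p ^ 2 ∣ p * k' := by rw [sq]; exact mul_dvd_mul_left p hd
      have := Nat.le_of_dvd hp.pos ((Nat.dvd_add_right h3).1 hp2)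
      nlinarith [hp.two_le]
    have hc : IsCoprime (k' : ℤ) ((p : ℤ) ^ a) := by
      exact_mod_cast ((Nat.Coprime.pow_right a ((hp.coprime_iff_not_dvd.2 hk').symm)).isCoprime)
    have h' : (k' : ℤ) ∣ Y :=
      (hc.pow_right (n := m)).dvd_of_dvd_mul_right (((Int.natCast_dvd_natCast.2 (dvd_mul_left k' p))).trans h)
    rw [hpi', Nat.cast_mul]
    exact mul_dvd_mul_left _ h'
  · have hk' : ¬ p ∣ k := fun hd =>
      hpi ((Nat.dvd_add_right hd).1 ((dvd_pow_self p ha.ne').trans hki))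
    have hc : IsCoprime (k : ℤ) ((p : ℤ) ^ a) := by
      exact_mod_cast ((Nat.Coprime.pow_right a ((hp.coprime_iff_not_dvd.2 hk').symm)).isCoprime)
    exact ((hc.pow_right (n := m)).dvd_of_dvd_mul_right h).mul_left _

/-- The exceptional degrees of the smallest plus case. -/
theorem no_plus_three {p a k i : ℕ} (hq : q = p ^ a) (hp : p.Prime) (hq4 : 4 ≤ q) (hi0 : 0 < i)
    (hi : i < 4) (hk : (k : ℤ) = dg q 1 1 - i)
    (hdvd : (k : ℤ) ∣ dg q 1 1 * ((q : ℤ) ^ (2 * 0 + 4) - 1) * (q : ℤ) ^ (2 * 0 + 2)) : False := by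
  have hT : dg q 1 1 = (q : ℤ) * ((q : ℤ) ^ 2 + q + 1) := by simp [dg]; ring
  rw [hT] at hk hdvd
  have hkey : (k : ℤ) ∣ (i : ℤ) * (((q : ℤ) ^ 2 + q + 1) * ((q : ℤ) ^ 4 - 1)) := by
    refine dvd_strip (a := a) (m := 3) hp hi0 hi (fun hd => ?_) ?_ ?_
    · by_contra hlt
      have hp3 : p ≤ 3 := le_trans (Nat.le_of_dvd hi0 hd) (by omega)
      have : p ^ a ≤ p ^ 1 := Nat.pow_le_pow_right hp.pos (by omega)
      rw [pow_one] at this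
      omega
    · rw [← hq, ← Int.natCast_dvd_natCast]
      exact ⟨(q : ℤ) ^ 2 + q + 1, by push_cast; linear_combination hk⟩
    · rw [show ((p : ℤ) ^ a) = (q : ℤ) by rw [hq, Nat.cast_pow]]
      refine hdvd.trans (dvd_of_eq ?_)
      ring
  have hk1 : (k : ℤ) ∣ (i : ℤ) * ((q : ℤ) - 1) * i * ((i : ℤ) + 1) := by
    have h1 : (k : ℤ) ∣ (i : ℤ) * (((q : ℤ) ^ 4 - 1) * i) := by
      obtain ⟨c, hc⟩ := hkey
      exact ⟨(q : ℤ) * c - (i : ℤ) * ((q : ℤ) ^ 4 - 1), by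
        linear_combination (q : ℤ) * hc + (i : ℤ) * ((q : ℤ) ^ 4 - 1) * hk⟩
    obtain ⟨c, hc⟩ := h1
    refine ⟨c - (i : ℤ) * i * ((q : ℤ) - 1), ?_⟩
    linear_combination hc + (i : ℤ) * i * ((q : ℤ) - 1) * hk
  rcases Nat.lt_or_ge q 5 with h5 | h5
  · have hq' : q = 4 := by omega
    subst hq'
    obtain ⟨k', hk'⟩ : ∃ k' : ℤ, k' = k := ⟨_, rfl⟩
    rw [← hk'] at hk hdvd
    push_cast at hk hdvd
    interval_cases i <;> subst hk <;> norm_num at hdvd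
  · have hQ5 : (5 : ℤ) ≤ q := by exact_mod_cast h5
    have hi3 : (i : ℤ) ≤ 3 := by exact_mod_cast (by omega : i ≤ 3)
    have hi1 : (1 : ℤ) ≤ i := by exact_mod_cast hi0
    have hle := Int.le_of_dvd (by
      have : (0 : ℤ) < (q : ℤ) - 1 := by linarith
      positivity) hk1
    have h36 : (i : ℤ) * i * ((i : ℤ) + 1) ≤ 36 := by
      obtain ⟨i', hi'⟩ : ∃ i' : ℕ, i' = i := ⟨_, rfl⟩
      interval_cases i <;> norm_num
    have h36' := mul_le_mul_of_nonneg_left h36 (show (0 : ℤ) ≤ (q : ℤ) - 1 by linarith)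
    nlinarith [mul_le_mul hQ5 hQ5 (by norm_num) (by linarith)]

/-- The second exceptional degree of the minus case in dimension eight. -/
theorem no_minus_four {p a k : ℕ} (hq : q = p ^ a) (hp : p.Prime) (hq3 : 3 ≤ q)
    (hk : (k : ℤ) = dg q (-1) 2 - 2)
    (hdvd : (k : ℤ) ∣ dg q (-1) 2 * ((q : ℤ) ^ (2 * 1 + 4) - 1) * (q : ℤ) ^ (2 * 1 + 2)) :
    False := by
  have hT : dg q (-1) 2 = (q : ℤ) * ((q : ℤ) ^ 4 + 1) := by simp [dg]; ring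
  rw [hT] at hk hdvd
  have hkey : (k : ℤ) ∣ (2 : ℕ) * (((q : ℤ) ^ 4 + 1) * ((q : ℤ) ^ 6 - 1)) := by
    refine dvd_strip (a := a) (m := 5) hp (by norm_num) (by norm_num) (fun hd => ?_) ?_ ?_
    · by_contra hlt
      have hp2 : p ≤ 2 := Nat.le_of_dvd (by norm_num) hd
      have : p ^ a ≤ p ^ 1 := Nat.pow_le_pow_right hp.pos (by omega)
      rw [pow_one] at this
      omega
    · rw [← hq, ← Int.natCast_dvd_natCast]
      exact ⟨(q : ℤ) ^ 4 + 1, by push_cast; linear_combination hk⟩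
    · rw [show ((p : ℤ) ^ a) = (q : ℤ) by rw [hq, Nat.cast_pow]]
      refine hdvd.trans (dvd_of_eq ?_)
      ring
  push_cast at hkey
  have h1 : (k : ℤ) ∣ 4 * ((q : ℤ) - 1) ^ 2 := by
    obtain ⟨c, hc⟩ := hkey
    refine ⟨4 * (q : ℤ) - ((q : ℤ) * c - 2 * ((q : ℤ) ^ 6 - 1)), ?_⟩
    linear_combination -((q : ℤ) * hc + 2 * ((q : ℤ) ^ 6 - 1) * hk) - 4 * (q : ℤ) * hk
  have hQ : (3 : ℤ) ≤ q := by exact_mod_cast hq3
  have hle := Int.le_of_dvd (by nlinarith) h1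
  have h5 : 27 * (q : ℤ) ^ 2 ≤ (q : ℤ) ^ 5 := by
    have h3 : (3 : ℤ) ^ 3 ≤ (q : ℤ) ^ 3 := pow_le_pow_left₀ (by norm_num) hQ 3
    nlinarith
  nlinarith

end Cfsg.Agent.SimpleFacts.MinDegOrth
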