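import Mathlib
import Cfsg.Agent.Lib.Classical.OrthForms
import Cfsg.Agent.SimpleFacts.MinDegOrth.Moves

/-!
Non-degenerate subspaces of even dimension and given type: numbers of vectors of each value, descent
to the orthogonal complement of a pair, and the two standard spaces.
-/

set_option autoImplicit false
set_option linter.unusedSectionVars false
set_option linter.unusedSimpArgs false

namespace Cfsg.Agent.SimpleFacts.MinDegOrth

open Cfsg.Agent.Forms Cfsg.Agent.Forms.QuadStd Cfsg.Agent.Forms.Reflections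
open Cfsg.Agent.Forms.PlusStd
open Cfsg.Agent.Classical.Orth Cfsg.Agent.Classical.OrthCount Cfsg.Agent.Classical.OrthForms

variable {F : Type*} [Field F] [Fintype F] {ι : Type} [Fintype ι] [DecidableEq ι]
variable {Q : QuadraticForm F (ι → F)}

local notation "Vec" => (ι → F)
local notation "B" => QuadraticMap.polar Q

/-- The number of vectors of value `c` in `S`. -/
noncomputable def cnt (Q : QuadraticForm F (ι → F)) (S : Submodule F (ι → F)) (c : F) : ℕ :=
  Nat.card {x : S // Q x.1 = c}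

/-- A space of dimension `2h` of type `ε`, described by its numbers of vectors of each value. -/
structure Lev (Q : QuadraticForm F (ι → F)) (ε : ℤ) (h : ℕ) (S : Submodule F (ι → F)) : Prop where
  sign : ε = 1 ∨ ε = -1
  nd : ND Q S
  card : Nat.card S = Fintype.card F ^ (2 * h)
  levZero : (Fintype.card F : ℤ) * cnt Q S 0 = (Fintype.card F : ℤ) ^ (2 * h) -
    ε * (Fintype.card F : ℤ) ^ h + ε * (Fintype.card F : ℤ) ^ (h + 1)
  levNe : ∀ c ≠ 0, (Fintype.card F : ℤ) * cnt Q S c =
    (Fintype.card F : ℤ) ^ (2 * h) - ε * (Fintype.card F : ℤ) ^ h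

/-- The pairs of scalars of given product. -/
theorem card_pairs (c : F) [DecidableEq F] :
    Nat.card {p : F × F // p.1 * p.2 = c} =
      (Fintype.card F - 1) + if c = 0 then Fintype.card F else 0 := by
  rw [card_mul_eq (rfl : Fintype.card F = Fintype.card F)]
  have : 1 < Fintype.card F := Fintype.one_lt_card
  split_ifs <;> omega

theorem card_split {S : Submodule F Vec} {u v : Vec} (hp : IsPair Q u v) (hu : u ∈ S) (hv : v ∈ S) :
    Nat.card S = Fintype.card F * (Fintype.card F * Nat.card (perp Q S u v)) := by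
  rw [Nat.card_congr (splitEquiv hp hu hv), Nat.card_prod, Nat.card_prod,
    Nat.card_eq_fintype_card (α := F)]

theorem cnt_split {S : Submodule F Vec} {u v : Vec} (hp : IsPair Q u v) (hu : u ∈ S) (hv : v ∈ S)
    (c : F) :
    cnt Q S c = (Fintype.card F - 1) * Nat.card (perp Q S u v) +
      Fintype.card F * cnt Q (perp Q S u v) c := by
  classical
  let e : {x : S // Q x.1 = c} ≃ Σ z : perp Q S u v, {p : F × F // p.1 * p.2 = c - Q z.1} :=
    { toFun := fun x => ⟨(splitEquiv hp hu hv x.1).2.2,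
        ((splitEquiv hp hu hv x.1).1, (splitEquiv hp hu hv x.1).2.1), by
          have h := congrArg (fun s : S => Q s.1) ((splitEquiv hp hu hv).symm_apply_apply x.1)
          simp only [splitEquiv_symm, x.2] at h
          rw [split_value hp (perp_left (splitEquiv hp hu hv x.1).2.2.2)
            (perp_right (splitEquiv hp hu hv x.1).2.2.2)] at h
          exact eq_sub_of_add_eq h⟩
      invFun := fun s => ⟨(splitEquiv hp hu hv).symm (s.2.1.1, s.2.1.2, s.1), by
        rw [splitEquiv_symm, split_value hp (perp_left s.1.2) (perp_right s.1.2), s.2.2,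
          sub_add_cancel]⟩
      left_inv := fun x => Subtype.ext (by simp)
      right_inv := fun s => by
        obtain ⟨z, ⟨⟨a, b⟩, hab⟩⟩ := s
        have h := (splitEquiv hp hu hv).apply_symm_apply (a, b, z)
        refine Sigma.subtype_ext ?_ ?_
        · exact congrArg (fun p => p.2.2) h
        · exact Prod.ext (congrArg (fun p => p.1) h) (congrArg (fun p => p.2.1) h) }
  rw [cnt, Nat.card_congr e, Nat.card_sigma, Finset.sum_congr rfl fun z _ => card_pairs _,
    Finset.sum_add_distrib, Finset.sum_const, Finset.card_univ, smul_eq_mul,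
    ← Nat.card_eq_fintype_card, mul_comm]
  congr 1
  rw [Finset.sum_ite, Finset.sum_const_zero, add_zero, Finset.sum_const, smul_eq_mul, mul_comm, cnt,
    Nat.card_eq_fintype_card, Fintype.card_subtype]
  congr 2
  ext z
  simp only [Finset.mem_filter, Finset.mem_univ, true_and]
  exact ⟨fun h => (sub_eq_zero.1 h).symm, fun h => sub_eq_zero.2 h.symm⟩

theorem Lev.one_lt : 1 < (Fintype.card F : ℤ) := by exact_mod_cast Fintype.one_lt_card

theorem Lev.perp {ε : ℤ} {h : ℕ} {S : Submodule F Vec} (L : Lev Q ε (h + 1) S) {u v : Vec}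
    (hp : IsPair Q u v) (hu : u ∈ S) (hv : v ∈ S) : Lev Q ε h (perp Q S u v) := by
  set q := Fintype.card F with hq
  have hq0 : 0 < q := Fintype.card_pos
  have hW : Nat.card (MinDegOrth.perp Q S u v) = q ^ (2 * h) := by
    have h1 := card_split hp hu hv
    rw [L.card] at h1
    refine Nat.eq_of_mul_eq_mul_left (Nat.mul_pos hq0 hq0) ?_
    rw [mul_assoc, ← hq] at *
    rw [← h1]; ring
  have step : ∀ c X, (q : ℤ) * cnt Q S c = (q : ℤ) ^ (2 * (h + 1)) + q * X →
      (q : ℤ) * cnt Q (MinDegOrth.perp Q S u v) c = (q : ℤ) ^ (2 * h) + X := by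
    intro c X hc
    rw [cnt_split hp hu hv, hW, ← hq] at hc
    push_cast [Nat.cast_sub (show 1 ≤ q from hq0)] at hc
    refine mul_left_cancel₀ (show (q : ℤ) ≠ 0 by exact_mod_cast hq0.ne') ?_
    linear_combination hc
  refine ⟨L.sign, perp_nd hp hu hv L.nd, hW, ?_, fun c hc => ?_⟩
  · rw [step 0 (-ε * (q : ℤ) ^ h + ε * (q : ℤ) ^ (h + 1)) (by rw [L.levZero]; ring)]
    ring
  · rw [step c (-ε * (q : ℤ) ^ h) (by rw [L.levNe c hc]; ring)]
    ring

theorem Lev.cnt_pos {ε : ℤ} {h : ℕ} {S : Submodule F Vec} (L : Lev Q ε (h + 1) S) (c : F) :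
    0 < cnt Q S c := by
  by_cases hc : c = 0
  · have : Nonempty {x : S // Q x.1 = c} := ⟨⟨0, by simp [hc]⟩⟩
    exact Nat.card_pos
  · have hq := Lev.one_lt (F := F)
    have hp1 : (Fintype.card F : ℤ) ^ (h + 1) < (Fintype.card F : ℤ) ^ (2 * (h + 1)) :=
      pow_lt_pow_right₀ hq (by omega)
    have hp0 : (0 : ℤ) ≤ (Fintype.card F : ℤ) ^ (h + 1) := by positivity
    have hl := L.levNe c hc
    refine Nat.pos_of_ne_zero fun h0 => ?_
    rw [h0, Nat.cast_zero, mul_zero] at hl
    rcases L.sign with e | e <;> subst e <;> linarith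

theorem Lev.exists_value {ε : ℤ} {h : ℕ} {S : Submodule F Vec} (L : Lev Q ε (h + 1) S) (c : F) :
    ∃ w ∈ S, Q w = c := by
  obtain ⟨⟨w, hw⟩, e⟩ := (Nat.card_pos_iff.1 (L.cnt_pos c)).1
  exact ⟨w, hw, e⟩

/-- Each value is taken on the complement of a pair. -/
theorem Lev.hval {ε : ℤ} {h : ℕ} {S : Submodule F Vec} (L : Lev Q ε (h + 2) S) {u v : Vec}
    (hp : IsPair Q u v) (hu : u ∈ S) (hv : v ∈ S) (t : F) :
    ∃ w ∈ MinDegOrth.perp Q S u v, Q w = t :=
  (L.perp hp hu hv).exists_value t

theorem Lev.exists_pair {ε : ℤ} {h : ℕ} {S : Submodule F Vec} (L : Lev Q ε h S)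
    (hh : 2 ≤ h ∨ (1 ≤ h ∧ ε = 1)) : ∃ u v, u ∈ S ∧ v ∈ S ∧ IsPair Q u v := by
  have hone : 1 < cnt Q S 0 := by
    have hq := Lev.one_lt (F := F)
    have hl := L.levZero
    by_contra hcon
    push Not at hcon
    have hcon' : (Fintype.card F : ℤ) * cnt Q S 0 ≤ Fintype.card F := by
      have : (cnt Q S 0 : ℤ) ≤ 1 := by exact_mod_cast hcon
      nlinarith
    have e1 : (Fintype.card F : ℤ) ^ (h + 1) = Fintype.card F * (Fintype.card F : ℤ) ^ h := by
      ring
    have e2 : (Fintype.card F : ℤ) ^ (2 * h) =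
        (Fintype.card F : ℤ) ^ h * (Fintype.card F : ℤ) ^ h := by ring
    have h0 : (0 : ℤ) < (Fintype.card F : ℤ) ^ h := by positivity
    rcases L.sign with e | e
    · subst e
      have hp1 : (Fintype.card F : ℤ) ^ 1 ≤ (Fintype.card F : ℤ) ^ h :=
        pow_le_pow_right₀ hq.le (by omega)
      nlinarith
    · subst e
      have hp2 : (Fintype.card F : ℤ) ^ 2 ≤ (Fintype.card F : ℤ) ^ h := by
        rcases hh with h2 | ⟨-, h2⟩
        · exact pow_le_pow_right₀ hq.le h2
        · norm_num at h2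
      nlinarith
  have : Nontrivial {x : S // Q x.1 = 0} := (Finite.one_lt_card_iff_nontrivial).1 hone
  obtain ⟨⟨⟨u, hu⟩, hQ⟩, hne⟩ := exists_ne (⟨0, by simp⟩ : {x : S // Q x.1 = 0})
  obtain ⟨v, hv, hp⟩ := exists_partner L.nd hu (fun e => hne (Subtype.ext (Subtype.ext e))) hQ
  exact ⟨u, v, hu, hv, hp⟩

/-- The anisotropic planes. -/
theorem Lev.no_sing {S : Submodule F Vec} (L : Lev Q (-1) 1 S) {z : Vec} (hz : z ∈ S)
    (hQ : Q z = 0) : z = 0 := by
  by_contra hz0
  have h1 : cnt Q S 0 = 1 := by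
    have hl := L.levZero
    have hq : (Fintype.card F : ℤ) ≠ 0 := by exact_mod_cast Fintype.card_ne_zero
    have : (cnt Q S 0 : ℤ) = 1 := mul_left_cancel₀ hq (by rw [hl]; ring)
    exact_mod_cast this
  rw [cnt, Nat.card_eq_one_iff_unique] at h1
  exact hz0 (congrArg (fun x : {x : S // Q x.1 = 0} => (x.1 : Vec))
    (h1.1.elim ⟨⟨z, hz⟩, hQ⟩ ⟨0, by simp⟩))

/-! ### Vectors with prescribed products -/

theorem card_slice {W : Submodule F Vec} {e e' : Vec}
    (hp : IsPair Q e e') (he : e ∈ W) (he' : e' ∈ W) (c : F) {t : F} (ht : t ≠ 0) :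
    Nat.card {y : W // Q y.1 = c ∧ B y.1 e = t} = Nat.card (MinDegOrth.perp Q W e e') := by
  refine Nat.card_congr
    { toFun := fun y => (splitEquiv hp he he' y.1).2.2
      invFun := fun z => ⟨(splitEquiv hp he he').symm ((c - Q z.1) / t, t, z), ?_, ?_⟩
      left_inv := fun y => ?_
      right_inv := fun z => by simp }
  · rw [splitEquiv_symm, split_value hp (perp_left z.2) (perp_right z.2), div_mul_cancel₀ _ ht,
      sub_add_cancel]
  · rw [splitEquiv_symm, QuadraticMap.polar_comm, split_polar_left hp (perp_left z.2)]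
  · obtain ⟨y, hQ, hB⟩ := y
    refine Subtype.ext ((Equiv.symm_apply_eq _).2 (Prod.ext ?_ (Prod.ext hB.symm rfl)))
    have h := congrArg (fun s : W => Q s.1) ((splitEquiv hp he he').symm_apply_apply y)
    simp only [splitEquiv_symm, hQ] at h
    rw [split_value hp (perp_left (splitEquiv hp he he' y).2.2.2)
      (perp_right (splitEquiv hp he he' y).2.2.2)] at h
    have hB' : (splitEquiv hp he he' y).2.1 = t := hB
    rw [hB'] at h
    show (c - Q _) / t = _
    rw [div_eq_iff ht]
    linear_combination -h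

theorem card_slice₂ {W : Submodule F Vec} {e e' b b' : Vec}
    (P : Pairs Q W e e' b b') (c : F) {t : F} (ht : t ≠ 0) :
    Nat.card {y : W // Q y.1 = c ∧ B y.1 e = 0 ∧ B y.1 b = t} =
      Fintype.card F * Nat.card (MinDegOrth.perp Q (MinDegOrth.perp Q W e e') b b') := by
  have hb : b ∈ MinDegOrth.perp Q W e e' := mem_perp.2 ⟨P.hc, P.ac, P.a'c⟩
  have hb' : b' ∈ MinDegOrth.perp Q W e e' := mem_perp.2 ⟨P.hc', P.ac', P.a'c'⟩
  rw [← card_slice P.p' hb hb' c ht,
    ← Nat.card_eq_fintype_card (α := F), ← Nat.card_prod]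
  refine Nat.card_congr
    { toFun := fun y => ((splitEquiv P.p P.ha P.ha' y.1).1,
        ⟨(splitEquiv P.p P.ha P.ha' y.1).2.2, ?_, ?_⟩)
      invFun := fun p => ⟨(splitEquiv P.p P.ha P.ha').symm (p.1, 0, p.2.1), ?_, ?_, ?_⟩
      left_inv := fun y => ?_
      right_inv := fun p => by simp }
  · have h := congrArg (fun s : W => Q s.1) ((splitEquiv P.p P.ha P.ha').symm_apply_apply y.1)
    simp only [splitEquiv_symm, y.2.1] at h
    rw [split_value P.p (perp_left (splitEquiv P.p P.ha P.ha' y.1).2.2.2)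
      (perp_right (splitEquiv P.p P.ha P.ha' y.1).2.2.2),
      show (splitEquiv P.p P.ha P.ha' y.1).2.1 = 0 from y.2.2.1, mul_zero, zero_add] at h
    exact h
  · show B (proj Q e e' y.1.1) b = t
    rw [proj, QuadraticMap.polar_sub_left, QuadraticMap.polar_sub_left,
      QuadraticMap.polar_smul_left, QuadraticMap.polar_smul_left, P.ac, P.a'c, y.2.2.2]
    simp
  · rw [splitEquiv_symm, split_value P.p (perp_left p.2.1.2) (perp_right p.2.1.2), p.2.2.1,
      mul_zero, zero_add]
  · rw [splitEquiv_symm, QuadraticMap.polar_comm, split_polar_left P.p (perp_left p.2.1.2)]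
  · rw [splitEquiv_symm]
    simp only [QuadraticMap.polar_add_left, QuadraticMap.polar_smul_left, P.ac, smul_zero, zero_smul,
      add_zero, zero_add, p.2.2.2, QuadraticMap.polar_zero_left]
  · refine Subtype.ext ((Equiv.symm_apply_eq _).2 (Prod.ext rfl (Prod.ext y.2.2.1.symm rfl)))

/-! ### The standard spaces -/

/-- The number of vectors of value `c`. -/
noncomputable def levels (P : (ι → F) → F) (c : F) : ℕ := Nat.card {v : ι → F // P v = c}

theorem levels_congr {κ : Type} [Fintype κ] [DecidableEq κ] (e : κ ≃ ι) (P : (κ → F) → F)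
    (R : (ι → F) → F) (h : ∀ v : ι → F, P (v ∘ e) = R v) (c : F) : levels P c = levels R c := by
  refine Nat.card_congr ((Equiv.arrowCongr e (Equiv.refl F)).subtypeEquiv fun v => ?_)
  show P v = c ↔ R (v ∘ e.symm) = c
  rw [← h, Function.comp_assoc, Equiv.symm_comp_self, Function.comp_id]

theorem levels_hypQ (P : QuadraticForm F (ι → F)) (c : F) :
    levels ⇑(hypQ P) c =
      (Fintype.card F - 1) * Fintype.card F ^ Fintype.card ι + Fintype.card F * levels ⇑P c := by
  classical
  let e : {v : Fin 2 ⊕ ι → F // hypQ P v = c} ≃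
      Σ w : ι → F, {p : F × F // p.1 * p.2 = c - P w} :=
    { toFun := fun v => ⟨v.1 ∘ Sum.inr, (v.1 (Sum.inl 0), v.1 (Sum.inl 1)), eq_sub_of_add_eq v.2⟩
      invFun := fun s => ⟨Sum.elim ![s.2.1.1, s.2.1.2] s.1, by
        rw [hypQ_apply]; simp [Sum.elim_comp_inr, s.2.2]⟩
      left_inv := fun v => by
        refine Subtype.ext (funext fun i => ?_)
        rcases i with i | i
        · fin_cases i <;> rfl
        · rfl
      right_inv := fun s => rfl }
  rw [levels, Nat.card_congr e, Nat.card_sigma, Finset.sum_congr rfl fun z _ => card_pairs _,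
    Finset.sum_add_distrib, Finset.sum_const, Finset.card_univ, smul_eq_mul, Fintype.card_fun,
    mul_comm]
  congr 1
  rw [Finset.sum_ite, Finset.sum_const_zero, add_zero, Finset.sum_const, smul_eq_mul, mul_comm,
    levels, Nat.card_eq_fintype_card, Fintype.card_subtype]
  congr 2
  ext z
  simp only [Finset.mem_filter, Finset.mem_univ, true_and]
  exact ⟨fun h => (sub_eq_zero.1 h).symm, fun h => sub_eq_zero.2 h.symm⟩

theorem lev_top {ε : ℤ} (hε : ε = 1 ∨ ε = -1) {h : ℕ}
    (hQ : (QuadraticMap.polarBilin Q).Nondegenerate) (hι : Fintype.card ι = 2 * h)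
    (hz : (Fintype.card F : ℤ) * levels ⇑Q 0 = (Fintype.card F : ℤ) ^ (2 * h) -
      ε * (Fintype.card F : ℤ) ^ h + ε * (Fintype.card F : ℤ) ^ (h + 1))
    (hn : ∀ c ≠ 0, (Fintype.card F : ℤ) * levels ⇑Q c =
      (Fintype.card F : ℤ) ^ (2 * h) - ε * (Fintype.card F : ℤ) ^ h) :
    Lev Q ε h ⊤ := by
  have hc : ∀ c, cnt Q ⊤ c = levels ⇑Q c := fun c =>
    Nat.card_congr ((Submodule.topEquiv (R := F) (M := ι → F)).toEquiv.subtypeEquiv fun x => Iff.rfl)
  exact ⟨hε, nondeg_top hQ,
    by rw [Nat.card_congr (Submodule.topEquiv (R := F) (M := ι → F)).toEquiv,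
      Nat.card_eq_fintype_card, Fintype.card_fun, hι],
    by rw [hc]; exact hz, fun c h0 => by rw [hc]; exact hn c h0⟩

theorem levels_plus (m : ℕ) (c : F) [DecidableEq F] :
    (Fintype.card F : ℤ) * levels ⇑(plusQ F m) c =
      (Fintype.card F : ℤ) ^ (2 * m) - (Fintype.card F : ℤ) ^ m +
        if c = 0 then (Fintype.card F : ℤ) ^ (m + 1) else 0 := by
  induction m with
  | zero =>
    by_cases hc : c = 0
    · have h : levels ⇑(plusQ F 0) c = 1 := by
        rw [levels, Nat.card_eq_one_iff_unique]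
        exact ⟨⟨fun a b => Subtype.ext (funext fun i => isEmptyElim i)⟩,
          ⟨⟨0, by rw [QuadraticMap.map_zero, hc]⟩⟩⟩
      rw [h]; simp [hc]
    · have h : levels ⇑(plusQ F 0) c = 0 := by
        rw [levels, Nat.card_eq_zero]
        refine Or.inl ⟨fun a => hc ?_⟩
        rw [← a.2, show a.1 = 0 from funext fun i => isEmptyElim i, QuadraticMap.map_zero]
      rw [h]; simp [hc]
  | succ m ih =>
    rw [levels_congr (plusIdx m) _ _ (plus_split m), levels_hypQ, Fintype.card_sum,
      Fintype.card_fin, ← two_mul]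
    push_cast [Nat.cast_sub (show 1 ≤ Fintype.card F from Fintype.card_pos)]
    rw [mul_add, ih]
    split_ifs <;> ring

/-- The product on the anisotropic plane. -/
def planeMul (a b : F) (m z : F × F) : F × F :=
  (m.1 * z.1 - b * m.2 * z.2, m.1 * z.2 + m.2 * z.1 + a * m.2 * z.2)

theorem levels_plane {a b : F}
    (hab : ∀ z₁ z₂ : F, z₁ ^ 2 + a * z₁ * z₂ + b * z₂ ^ 2 = 0 → z₁ = 0 ∧ z₂ = 0) {c : F}
    (hc : c ≠ 0) :
    Nat.card {z : F × F // z.1 ^ 2 + a * z.1 * z.2 + b * z.2 ^ 2 = c} = Fintype.card F + 1 := by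
  classical
  set N : F × F → F := fun z => z.1 ^ 2 + a * z.1 * z.2 + b * z.2 ^ 2 with hN
  have hmul : ∀ m z, N (planeMul a b m z) = N m * N z := fun m z => by
    simp only [hN, planeMul]; ring
  -- every value is taken
  have hsurj : ∀ d : F, ∃ z, N z = d := by
    intro d
    by_cases h2 : ringChar F = 2
    · obtain ⟨s, hs⟩ := FiniteField.isSquare_of_char_two h2 d
      exact ⟨(s, 0), by simp [hN, hs, sq]⟩
    · have h20 : (2 : F) ≠ 0 := Ring.two_ne_zero h2
      have : (4 : F) ≠ 0 := by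
        rw [show (4 : F) = 2 * 2 by norm_num]; exact mul_ne_zero h20 h20
      set D : F := b - a ^ 2 / 4 with hD
      have hD0 : D ≠ 0 := by
        intro h0
        refine one_ne_zero (α := F) (hab (-a / 2) 1 ?_).2
        rw [hD, sub_eq_zero] at h0
        rw [h0]
        field_simp
        ring
      obtain ⟨x, y, hxy⟩ := FiniteField.exists_root_sum_quadratic (R := F)
        (f := Polynomial.X ^ 2) (g := Polynomial.C D * Polynomial.X ^ 2 - Polynomial.C d)
        (Polynomial.degree_X_pow 2)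
        (by rw [Polynomial.degree_sub_C, Polynomial.degree_C_mul_X_pow 2 hD0] <;>
            simp [Polynomial.degree_C_mul_X_pow 2 hD0])
        (FiniteField.odd_card_of_char_ne_two h2)
      simp only [Polynomial.eval_pow, Polynomial.eval_X, Polynomial.eval_sub, Polynomial.eval_mul,
        Polynomial.eval_C] at hxy
      refine ⟨(x - a / 2 * y, y), ?_⟩
      simp only [hN]
      rw [show (x - a / 2 * y) ^ 2 + a * (x - a / 2 * y) * y + b * y ^ 2 = x ^ 2 + D * y ^ 2 by
        rw [hD]; field_simp; ring]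
      linear_combination hxy
  -- all the fibres over non-zero values are equal
  have hN0 : ∀ z, N z = 0 ↔ z = 0 := fun z =>
    ⟨fun h => Prod.ext (hab _ _ h).1 (hab _ _ h).2, fun h => by simp [hN, h]⟩
  have hfib : ∀ d : F, d ≠ 0 →
      Nat.card {z // N z = 1} ≤ Nat.card {z // N z = d} ∧
        Nat.card {z // N z = d} ≤ Nat.card {z // N z = 1} := by
    intro d hd
    have hinj : ∀ m, N m ≠ 0 → Function.Injective (planeMul a b m) := by
      intro m hm z z' h
      have h0 : planeMul a b m (z - z') = 0 := by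
        have hsub : planeMul a b m (z - z') = planeMul a b m z - planeMul a b m z' := by
          simp only [planeMul, Prod.fst_sub, Prod.snd_sub, Prod.mk_sub_mk]
          ext <;> ring
        rw [hsub, h, sub_self]
      have h1 := hmul m (z - z')
      rw [h0, show N 0 = 0 from (hN0 0).2 rfl] at h1
      exact sub_eq_zero.1 ((hN0 _).1 ((mul_eq_zero.1 h1.symm).resolve_left hm))
    obtain ⟨m, hm⟩ := hsurj d
    obtain ⟨m', hm'⟩ := hsurj d⁻¹
    constructor
    · refine Nat.card_le_card_of_injective (fun z => ⟨planeMul a b m z.1, by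
        rw [hmul, hm, z.2, mul_one]⟩) fun z z' h => Subtype.ext (hinj m (by rw [hm]; exact hd) ?_)
      exact congrArg Subtype.val h
    · refine Nat.card_le_card_of_injective (fun z => ⟨planeMul a b m' z.1, by
        rw [hmul, hm', z.2, inv_mul_cancel₀ hd]⟩) fun z z' h =>
          Subtype.ext (hinj m' (by rw [hm']; exact inv_ne_zero hd) ?_)
      exact congrArg Subtype.val h
  have htot : Nat.card (F × F) = ∑ d : F, Nat.card {z // N z = d} := by
    rw [← Nat.card_sigma]
    exact Nat.card_congr (Equiv.sigmaFiberEquiv N).symm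
  have hzero : Nat.card {z // N z = 0} = 1 := by
    rw [Nat.card_eq_one_iff_unique]
    exact ⟨⟨fun x y => Subtype.ext (((hN0 _).1 x.2).trans ((hN0 _).1 y.2).symm)⟩,
      ⟨⟨0, (hN0 0).2 rfl⟩⟩⟩
  rw [← Finset.add_sum_erase _ _ (Finset.mem_univ (0 : F)), hzero,
    Finset.sum_congr rfl (fun d hd => le_antisymm (hfib d (Finset.ne_of_mem_erase hd)).2
      (hfib d (Finset.ne_of_mem_erase hd)).1), Finset.sum_const,
    Finset.card_erase_of_mem (Finset.mem_univ _), Finset.card_univ, Nat.card_prod,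
    Nat.card_eq_fintype_card (α := F), smul_eq_mul] at htot
  refine (le_antisymm (hfib c hc).2 (hfib c hc).1).trans ?_
  have hq : 1 < Fintype.card F := Fintype.one_lt_card
  obtain ⟨r, hr⟩ : ∃ r, Fintype.card F = r + 2 := ⟨Fintype.card F - 2, by omega⟩
  rw [hr, show r + 2 - 1 = r + 1 by omega] at htot
  rw [hr]
  refine Nat.eq_of_mul_eq_mul_left (show 0 < r + 1 by omega) ?_
  have h2 : (r + 2) * (r + 2) = 1 + (r + 1) * (r + 2 + 1) := by ring
  omega

theorem levels_min (k : ℕ) {a b : F}
    (hab : ∀ z₁ z₂ : F, z₁ ^ 2 + a * z₁ * z₂ + b * z₂ ^ 2 = 0 → z₁ = 0 ∧ z₂ = 0) {c : F}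
    (hc : c ≠ 0) :
    (Fintype.card F : ℤ) * levels ⇑(minQ F k a b) c =
      (Fintype.card F : ℤ) ^ (2 * k + 2) + (Fintype.card F : ℤ) ^ (k + 1) := by
  induction k with
  | zero =>
    have h : levels ⇑(minQ F 0 a b) c = Fintype.card F + 1 := by
      rw [← levels_plane hab hc]
      refine Nat.card_congr
        { toFun := fun v => ⟨(v.1 (Sum.inr 0), v.1 (Sum.inr 1)), ?_⟩
          invFun := fun z => ⟨Sum.elim 0 ![z.1.1, z.1.2], ?_⟩
          left_inv := fun v => Subtype.ext (funext fun i => ?_)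
          right_inv := fun z => rfl }
      · conv_rhs => rw [← v.2, minQ_apply, show v.1 ∘ Sum.inl = 0 from funext fun i => isEmptyElim i,
          QuadraticMap.map_zero, zero_add]
      · rw [minQ_apply, Sum.elim_comp_inl, QuadraticMap.map_zero, zero_add]
        exact z.2
      · rcases i with i | i
        · exact isEmptyElim i
        · fin_cases i <;> rfl
    rw [h]; push_cast; ring
  | succ k ih =>
    rw [levels_congr (minIdx k) _ _ (min_split k a b), levels_hypQ, Fintype.card_sum,
      Fintype.card_sum, Fintype.card_fin, Fintype.card_fin]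
    push_cast [Nat.cast_sub (show 1 ≤ Fintype.card F from Fintype.card_pos)]
    rw [mul_add, ih]
    ring

theorem lev_plusQ (n : ℕ) : Lev (plusQ F n) 1 n ⊤ := by
  classical
  refine lev_top (Or.inl rfl) (plusQ_nondeg F n) (by simp [two_mul]) ?_ fun c hc => ?_
  · rw [levels_plus, if_pos rfl]; ring
  · rw [levels_plus, if_neg hc]; ring

theorem lev_minQ (k : ℕ) {a b : F}
    (hab : ∀ z₁ z₂ : F, z₁ ^ 2 + a * z₁ * z₂ + b * z₂ ^ 2 = 0 → z₁ = 0 ∧ z₂ = 0) :
    Lev (minQ F k a b) (-1) (k + 1) ⊤ := by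
  refine lev_top (Or.inr rfl) (minQ_nondeg k hab) (by simp; ring) ?_ fun c hc => ?_
  · have h : levels ⇑(minQ F k a b) 0 = zeros ⇑(minQ F k a b) := rfl
    rw [h, cast_zeros_min (rfl : Fintype.card F = _) k hab]; ring
  · rw [levels_min k hab hc]; ring

end Cfsg.Agent.SimpleFacts.MinDegOrth
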