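import Mathlib
import Cfsg.Agent.Lib.Characters.Integrality
import Cfsg.Agent.SimpleFacts.MinDegOrth.Fourier
import Cfsg.Agent.SimpleFacts.MinDegOrth.Lev

/-!
The set of long root elements: its size, and the integrality of the central character on it.
-/

set_option autoImplicit false
set_option linter.unusedSectionVars false
set_option linter.unusedSimpArgs false

namespace Cfsg.Agent.SimpleFacts.MinDegOrth

open Cfsg.Agent.Forms Cfsg.Agent.Forms.QuadStd Cfsg.Agent.Forms.Reflections
open Cfsg.Agent.Classical.Orth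

variable {F : Type*} [Field F] [Fintype F] {ι : Type} [Fintype ι] [DecidableEq ι]
variable {Q : QuadraticForm F (ι → F)}

local notation "Vec" => (ι → F)
local notation "B" => QuadraticMap.polar Q

variable {S : Submodule F (ι → F)} {u v : ι → F}
variable {V : Type*} [AddCommGroup V] [Module ℂ V] [FiniteDimensional ℂ V]
variable (ρ : Representation ℂ (eGroup Q S) V)

/-- If the radical acts trivially, so does the group. -/
theorem trivial_of_radical (C : Cfg Q S u v)
    (hv₁ : ∀ t : F, ∃ w ∈ perp Q S u v, Q w = t)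
    (h0 : ∀ w ∈ perp Q S u v, ρ (el Q S u w) = 1) (g : eGroup Q S) : ρ g = 1 := by
  have hgen : ∀ a c (ha : Q a = 0) (hac : B a c = 0), a ∈ S → c ∈ S → ρ (el Q S a c) = 1 := by
    intro a c ha hac h1 h2
    by_cases ha0 : a = 0
    · have : el Q S a c = 1 := by
        refine Subtype.ext ?_
        subst ha0
        rw [el_val ha hac h1 h2, eich_zero_left]
        rfl
      rw [this, map_one]
    obtain ⟨k, hk, hka⟩ := vec_move C.p C.hu C.hv C.nd hv₁ h1 C.hu ha0
      (pair_ne_zero C.p) (ha.trans C.p.hu.symm)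
    let k' : eGroup Q S := ⟨k, hk⟩
    have hkc : act k c ∈ S := act_mem hk h2
    have huc : B u (act k c) = 0 := by rw [← hka, act_polar, hac]
    have h3 : el Q S u (act k c) = el Q S u (proj Q u v (act k c)) := by
      refine Subtype.ext ?_
      have hz := proj_mem_perp C.p C.hu C.hv hkc
      rw [el_val C.p.hu huc C.hu hkc, el_val C.p.hu (perp_left hz) C.hu (perp_le hz)]
      have he : act k c = proj Q u v (act k c) + B (act k c) v • u := by
        have h := proj_add (Q := Q) u v (act k c)
        rw [QuadraticMap.polar_comm _ (act k c) u, huc, zero_smul, add_zero] at h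
        rw [add_comm]; exact h
      rw [eich_congr he C.p.hu huc, eich_add_self _ C.p.hu (perp_left hz)]
    have hconj : ρ (k' * el Q S a c * k'⁻¹) = 1 := by
      rw [el_conj k' ha hac h1 h2, show act k'.1 a = u from hka, h3]
      exact h0 _ (proj_mem_perp C.p C.hu C.hv hkc)
    rw [show el Q S a c = k'⁻¹ * (k' * el Q S a c * k'⁻¹) * k' by group, map_mul, map_mul, hconj,
      mul_one, ← map_mul, inv_mul_cancel, map_one]
  obtain ⟨g, hg⟩ := g
  induction hg using Subgroup.closure_induction with
  | mem x hx =>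
    obtain ⟨a, c, ha, hac, h1, h2, rfl⟩ := hx
    have := hgen a c ha hac h1 h2
    rwa [show el Q S a c = ⟨eich a c ha hac, eich_mem ha hac h1 h2⟩ from
      Subtype.ext (el_val ha hac h1 h2)] at this
  | one => exact map_one ρ
  | mul a b ha hb iha ihb =>
    rw [show (⟨a * b, _⟩ : eGroup Q S) = ⟨a, ha⟩ * ⟨b, hb⟩ from rfl, map_mul, iha, ihb, mul_one]
  | inv a ha iha =>
    have h := congrArg (fun X => ρ (⟨a, ha⟩ : eGroup Q S)⁻¹ * X) iha
    simp only [← map_mul, inv_mul_cancel, map_one, mul_one] at h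
    exact h.symm

/-- A long root datum in `S`. -/
def IsRoot (Q : QuadraticForm F (ι → F)) (S : Submodule F (ι → F)) (a c : ι → F) : Prop :=
  a ∈ S ∧ c ∈ S ∧ Q a = 0 ∧ Q c = 0 ∧ QuadraticMap.polar Q a c = 0 ∧ a ≠ 0 ∧ ∀ t : F, c ≠ t • a

theorem IsRoot.map (g : eGroup Q S) {a c : Vec} (hr : IsRoot Q S a c) :
    IsRoot Q S (act g.1 a) (act g.1 c) := by
  obtain ⟨h1, h2, h3, h4, h5, h6, h7⟩ := hr
  refine ⟨act_mem g.2 h1, act_mem g.2 h2, by rw [act_map]; exact h3, by rw [act_map]; exact h4,
    by rw [act_polar]; exact h5, fun e => h6 ?_, fun t e => h7 t ?_⟩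
  · rw [← Spinor.act_inv_cancel g.1 a, e, map_zero]
  · rw [← Spinor.act_inv_cancel g.1 c, e, map_smul, Spinor.act_inv_cancel]

/-- The pairs defining long root elements. -/
def RootPair (Q : QuadraticForm F (ι → F)) (S : Submodule F (ι → F)) : Type _ :=
  {p : (ι → F) × (ι → F) // IsRoot Q S p.1 p.2}

noncomputable instance : Fintype (RootPair Q S) := by
  classical
  exact Subtype.fintype _

/-- The long root element of a pair. -/
noncomputable def rootEl (p : RootPair Q S) : eGroup Q S := el Q S p.1.1 p.1.2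

open _root_.Classical in
/-- The long root elements. -/
noncomputable def rootSet (Q : QuadraticForm F (ι → F)) (S : Submodule F (ι → F)) :
    Finset (eGroup Q S) :=
  Finset.univ.image rootEl

theorem mem_rootSet {g : eGroup Q S} : g ∈ rootSet Q S ↔ ∃ p : RootPair Q S, rootEl p = g := by
  simp [rootSet]

theorem rootSet_conj (g k : eGroup Q S) (hg : g ∈ rootSet Q S) : k * g * k⁻¹ ∈ rootSet Q S := by
  obtain ⟨⟨⟨a, c⟩, hp⟩, rfl⟩ := mem_rootSet.1 hg
  refine mem_rootSet.2 ⟨⟨(act k.1 a, act k.1 c), hp.map k⟩, ?_⟩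
  exact (el_conj k hp.2.2.1 hp.2.2.2.2.1 hp.1 hp.2.1).symm

variable {e e' : ι → F}

theorem act_inj (k : Cfsg.isometryGroup F ⇑Q) {x y : Vec} (h : act k x = act k y) : x = y := by
  rw [← Spinor.act_inv_cancel k x, h, Spinor.act_inv_cancel]

theorem exists_move_root (C : Cfg Q S u v) (hv₁ : ∀ t : F, ∃ w ∈ perp Q S u v, Q w = t)
    (hv₂ : ∀ t : F, ∃ w ∈ perp Q (perp Q S u v) e e', Q w = t)
    (hp : IsPair Q e e')
    (he : e ∈ perp Q S u v) (he' : e' ∈ perp Q S u v) {a c : Vec} (hr : IsRoot Q S a c) :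
    ∃ g : eGroup Q S, g * el Q S u e * g⁻¹ = el Q S a c := by
  obtain ⟨h1, h2, h3, h4, h5, h6, h7⟩ := hr
  obtain ⟨k, hk, hka⟩ := vec_move C.p C.hu C.hv C.nd hv₁ h1 C.hu h6 (pair_ne_zero C.p)
    (h3.trans C.p.hu.symm)
  set z := proj Q u v (act k c) with hz
  have huc : B u (act k c) = 0 := by rw [← hka, act_polar, h5]
  have hzW : z ∈ perp Q S u v := proj_mem_perp C.p C.hu C.hv (act_mem hk h2)
  have hdec : act k c = B (act k c) v • u + z := by
    have h := proj_add (Q := Q) u v (act k c)
    rw [QuadraticMap.polar_comm _ (act k c) u, huc, zero_smul, add_zero] at h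
    exact h
  have hz0 : z ≠ 0 := by
    intro h0
    refine h7 (B (act k c) v) (act_inj k ?_)
    rw [map_smul, hka]
    rw [h0, add_zero] at hdec
    exact hdec
  have hQz : Q z = 0 := by
    have h : Q (act k c) = 0 := by rw [act_map]; exact h4
    rw [hdec, map_add', map_smul', QuadraticMap.polar_smul_left, C.p.hu, perp_left hzW] at h
    simpa using h
  obtain ⟨k₂, hk₂, hk₂z⟩ := vec_move hp he he' (perp_nd C.p C.hu C.hv C.nd)
    hv₂ he hzW (pair_ne_zero hp) hz0 (hp.hu.trans hQz.symm)
  let g : eGroup Q S := ⟨k⁻¹ * k₂, mul_mem (inv_mem hk) (eGroup_mono perp_le hk₂)⟩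
  refine ⟨g, ?_⟩
  have hgu : act g.1 u = a := by
    show act (k⁻¹ * k₂) u = a
    rw [act_mul, eGroup_fix hk₂ fun s hs => perp_left hs, ← hka, Spinor.act_inv_cancel]
  rw [el_conj g C.p.hu (perp_left he) C.hu (perp_le he), hgu]
  refine Subtype.ext ?_
  have hge : act g.1 e = c + (-(B (act k c) v)) • a := by
    show act (k⁻¹ * k₂) e = _
    rw [act_mul, hk₂z, show z = act k c + (-(B (act k c) v)) • u by
      conv_rhs => arg 1; rw [hdec]
      module, map_add, map_smul, Spinor.act_inv_cancel, ← hka, Spinor.act_inv_cancel]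
  rw [el_val h3 (by rw [hge, QuadraticMap.polar_add_right, QuadraticMap.polar_smul_right, h5,
      polar_self_zero h3, smul_zero, add_zero]) h1 (act_mem g.2 (perp_le he)),
    el_val h3 h5 h1 h2, eich_congr hge, eich_add_self _ h3 h5]

theorem card_linear_fibre (α β : F) (h0 : (α, β) ≠ 0) :
    Nat.card {p : F × F // α * p.2 - β * p.1 = 1} = Fintype.card F := by
  rw [← Nat.card_eq_fintype_card (α := F)]
  by_cases ha : α = 0
  · have hb : β ≠ 0 := fun hb => h0 (by simp [ha, hb])
    refine Nat.card_congr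
      { toFun := fun p => p.1.2
        invFun := fun d => ⟨(-β⁻¹, d), by simp [ha, hb]⟩
        left_inv := fun p => Subtype.ext (Prod.ext ?_ rfl)
        right_inv := fun d => rfl }
    have := p.2
    simp only [ha, zero_mul, zero_sub] at this
    show -β⁻¹ = p.1.1
    field_simp
    linear_combination this
  · refine Nat.card_congr
      { toFun := fun p => p.1.1
        invFun := fun g => ⟨(g, (1 + β * g) / α), by field_simp; ring⟩
        left_inv := fun p => Subtype.ext (Prod.ext rfl ?_)
        right_inv := fun g => rfl }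
    have := p.2
    show (1 + β * p.1.1) / α = p.1.2
    rw [div_eq_iff ha]
    linear_combination -this

theorem card_sl_quad :
    Nat.card {m : (F × F) × (F × F) // m.1.1 * m.2.2 - m.1.2 * m.2.1 = 1} =
      (Fintype.card F ^ 2 - 1) * Fintype.card F := by
  classical
  let e : {m : (F × F) × (F × F) // m.1.1 * m.2.2 - m.1.2 * m.2.1 = 1} ≃
      Σ x : {x : F × F // x ≠ 0}, {p : F × F // x.1.1 * p.2 - x.1.2 * p.1 = 1} :=
    { toFun := fun m => ⟨⟨m.1.1, fun h => by simpa [h] using m.2⟩, ⟨m.1.2, m.2⟩⟩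
      invFun := fun s => ⟨(s.1.1, s.2.1), s.2.2⟩
      left_inv := fun m => rfl
      right_inv := fun s => rfl }
  rw [Nat.card_congr e, Nat.card_sigma, Finset.sum_congr rfl fun x _ => card_linear_fibre _ _ x.2,
    Finset.sum_const, Finset.card_univ, smul_eq_mul, Fintype.card_subtype_compl,
    Fintype.card_subtype_eq, Fintype.card_prod, sq]

theorem card_root_fibre (C : Cfg Q S u v) (hp : IsPair Q e e') (he : e ∈ perp Q S u v)
    (he' : e' ∈ perp Q S u v) :
    Nat.card {p : RootPair Q S // rootEl p = el Q S u e} =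
      (Fintype.card F ^ 2 - 1) * Fintype.card F := by
  classical
  rw [← card_sl_quad (F := F)]
  have hue : B u e = 0 := perp_left he
  have heu : B e u = 0 := perp_left' he
  have hve : B v e = 0 := perp_right he
  have heS : e ∈ S := perp_le he
  have hcoord : ∀ x y : F, B v (x • u + y • e) = x ∧ B e' (x • u + y • e) = y := fun x y => by
    constructor <;> simp [QuadraticMap.polar_add_right, QuadraticMap.polar_smul_right, C.p.hvu, hve,
      hp.hvu, perp_left' he']
  refine Nat.card_congr
    { toFun := fun p => ⟨((B v p.1.1.1, B e' p.1.1.1), (B v p.1.1.2, B e' p.1.1.2)), ?_⟩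
      invFun := fun m => ⟨⟨(m.1.1.1 • u + m.1.1.2 • e, m.1.2.1 • u + m.1.2.2 • e), ?_⟩, ?_⟩
      left_inv := ?_
      right_inv := fun m => Subtype.ext (Prod.ext (Prod.ext (hcoord _ _).1 (hcoord _ _).2)
        (Prod.ext (hcoord _ _).1 (hcoord _ _).2)) }
  · -- the determinant is one
    obtain ⟨⟨⟨a, c⟩, hr⟩, hpe⟩ := p
    have key : ∀ x, x + B x a • c - B x c • a = x + B x u • e - B x e • u := by
      intro x
      have h := congrArg (fun g : eGroup Q S => act g.1 x) hpe
      simp only [rootEl] at h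
      rw [el_val hr.2.2.1 hr.2.2.2.2.1 hr.1 hr.2.1, el_val C.p.hu hue C.hu heS, act_eich, act_eich,
        hr.2.2.2.1, hp.hu, zero_mul, zero_smul, zero_mul, zero_smul, sub_zero, sub_zero] at h
      exact h
    have k1 : B v a • c - B v c • a = e := by
      have h := key v
      rw [C.p.hvu, hve, one_smul, zero_smul, sub_zero, add_sub_assoc, add_right_inj] at h
      exact h
    have k2 : B e' a • c - B e' c • a = -u := by
      have h := key e'
      rw [hp.hvu, perp_left' he', zero_smul, one_smul, add_zero] at h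
      linear_combination (norm := module) h
    obtain ⟨Δ, hΔ⟩ : ∃ Δ, Δ = B v a * B e' c - B e' a * B v c := ⟨_, rfl⟩
    show B v a * B e' c - B e' a * B v c = 1
    rw [← hΔ]
    have h3 : Δ • a = B v a • u + B e' a • e := by
      rw [← k1, show u = -(-u) from (neg_neg u).symm, ← k2, hΔ]
      module
    have h4 : Δ * B v a = B v a ∧ Δ * B e' a = B e' a := by
      have h5 := congrArg (B v) h3
      have h6 := congrArg (B e') h3
      rw [QuadraticMap.polar_smul_right, (hcoord _ _).1, smul_eq_mul] at h5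
      rw [QuadraticMap.polar_smul_right, (hcoord _ _).2, smul_eq_mul] at h6
      exact ⟨h5, h6⟩
    by_contra hne
    have hz : ∀ x, Δ * x = x → x = 0 := fun x hx =>
      (mul_eq_zero.1 (show (Δ - 1) * x = 0 by linear_combination hx)).resolve_left
        (sub_ne_zero.2 hne)
    have ha1 := hz _ h4.1
    have ha2 := hz _ h4.2
    rw [ha1, zero_smul, zero_sub] at k1
    rw [ha2, zero_smul, zero_sub, neg_inj] at k2
    have h7 := congrArg (fun x => B x e') k1
    have h8 := congrArg (fun x => B x e') k2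
    simp [QuadraticMap.polar_neg_left, QuadraticMap.polar_smul_left, hp.huv, perp_left he'] at h7 h8
    rcases h8 with h8 | h8
    · rw [h8, zero_smul] at k2
      exact pair_ne_zero C.p k2.symm
    · rw [h8, mul_zero, neg_zero] at h7
      exact zero_ne_one h7
  · obtain ⟨⟨⟨α, β⟩, γ, δ⟩, hdet⟩ := m
    show IsRoot Q S (α • u + β • e) (γ • u + δ • e)
    refine ⟨S.add_mem (S.smul_mem _ C.hu) (S.smul_mem _ heS),
      S.add_mem (S.smul_mem _ C.hu) (S.smul_mem _ heS), ?_, ?_, ?_, ?_, ?_⟩
    · simp [map_add', map_smul', C.p.hu, hp.hu, hue, QuadraticMap.polar_smul_left,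
        QuadraticMap.polar_smul_right]
    · simp [map_add', map_smul', C.p.hu, hp.hu, hue, QuadraticMap.polar_smul_left,
        QuadraticMap.polar_smul_right]
    · simp [QuadraticMap.polar_add_left, QuadraticMap.polar_add_right, QuadraticMap.polar_smul_left,
        QuadraticMap.polar_smul_right, polar_self_zero C.p.hu, polar_self_zero hp.hu, hue, heu]
    · intro h
      have h1 := (hcoord α β).1
      have h2 := (hcoord α β).2
      rw [h, QuadraticMap.polar_zero_right] at h1 h2
      simp [← h1, ← h2] at hdet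
    · intro t h
      have h1 := congrArg (B v) h
      have h2 := congrArg (B e') h
      rw [(hcoord γ δ).1, QuadraticMap.polar_smul_right, (hcoord α β).1, smul_eq_mul] at h1
      rw [(hcoord γ δ).2, QuadraticMap.polar_smul_right, (hcoord α β).2, smul_eq_mul] at h2
      simp only [h1, h2] at hdet
      exact zero_ne_one (by linear_combination hdet : (0 : F) = 1)
  · obtain ⟨⟨⟨α, β⟩, γ, δ⟩, hdet⟩ := m
    refine Subtype.ext ?_
    show (el Q S (α • u + β • e) (γ • u + δ • e) : Cfsg.isometryGroup F ⇑Q) = el Q S u e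
    rw [el_val (by simp [map_add', map_smul', C.p.hu, hp.hu, hue, QuadraticMap.polar_smul_left,
        QuadraticMap.polar_smul_right])
      (by simp [QuadraticMap.polar_add_left, QuadraticMap.polar_add_right,
        QuadraticMap.polar_smul_left, QuadraticMap.polar_smul_right, polar_self_zero C.p.hu,
        polar_self_zero hp.hu, hue, heu])
      (S.add_mem (S.smul_mem _ C.hu) (S.smul_mem _ heS))
      (S.add_mem (S.smul_mem _ C.hu) (S.smul_mem _ heS)), el_val C.p.hu hue C.hu heS]
    refine act_ext fun x => ?_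
    simp only [act_eich, map_add', map_smul', QuadraticMap.polar_add_right,
      QuadraticMap.polar_smul_right, QuadraticMap.polar_smul_left, C.p.hu, hp.hu, hue, smul_eq_mul]
    have hd : α * δ - β * γ = 1 := hdet
    match_scalars <;> grind
  · rintro ⟨⟨⟨a, c⟩, hr⟩, hpe⟩
    refine Subtype.ext (Subtype.ext ?_)
    show (B v a • u + B e' a • e, B v c • u + B e' c • e) = (a, c)
    have key : ∀ x, x + B x a • c - B x c • a = x + B x u • e - B x e • u := by
      intro x
      have h := congrArg (fun g : eGroup Q S => act g.1 x) hpe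
      simp only [rootEl] at h
      rw [el_val hr.2.2.1 hr.2.2.2.2.1 hr.1 hr.2.1, el_val C.p.hu hue C.hu heS, act_eich, act_eich,
        hr.2.2.2.1, hp.hu, zero_mul, zero_smul, zero_mul, zero_smul, sub_zero, sub_zero] at h
      exact h
    -- both vectors lie in the span of `u` and `e`
    have inspan : ∀ y, (∃ x, B x a • c - B x c • a = y) → y = B v y • u + B e' y • e := by
      rintro y ⟨x, rfl⟩
      have h := key x
      rw [add_sub_assoc, add_sub_assoc, add_right_inj] at h
      rw [h, show B x u • e - B x e • u = (-B x e) • u + B x u • e by module, (hcoord _ _).1,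
        (hcoord _ _).2]
    obtain ⟨x₁, hx₁, hx₁'⟩ : ∃ x, B x a = 0 ∧ B x c ≠ 0 := by
      by_contra hcon
      push Not at hcon
      obtain ⟨z, hz, haz⟩ := exists_one C.nd hr.1 hr.2.2.2.2.2.1
      refine hr.2.2.2.2.2.2 (B z c) (sub_eq_zero.1 (C.nd _ (S.sub_mem hr.2.1 (S.smul_mem _ hr.1))
        fun s hs => ?_))
      have h0 := hcon (s - B s a • z) (by
        rw [QuadraticMap.polar_sub_left, QuadraticMap.polar_smul_left, QuadraticMap.polar_comm _ z a,
          haz, smul_eq_mul, mul_one, sub_self])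
      rw [QuadraticMap.polar_sub_left, QuadraticMap.polar_smul_left, smul_eq_mul] at h0
      rw [QuadraticMap.polar_sub_left, QuadraticMap.polar_smul_left, smul_eq_mul,
        QuadraticMap.polar_comm _ c s, QuadraticMap.polar_comm _ a s]
      linear_combination h0
    obtain ⟨x₂, hx₂⟩ : ∃ x, B x a = 1 := by
      obtain ⟨z, -, haz⟩ := exists_one C.nd hr.1 hr.2.2.2.2.2.1
      exact ⟨z, by rw [QuadraticMap.polar_comm, haz]⟩
    have ha : a = B v a • u + B e' a • e :=
      inspan a ⟨(-(B x₁ c)⁻¹) • x₁, by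
        rw [QuadraticMap.polar_smul_left, QuadraticMap.polar_smul_left, hx₁, smul_zero, zero_smul,
          zero_sub, smul_eq_mul, ← neg_smul, neg_mul, neg_neg, inv_mul_cancel₀ hx₁', one_smul]⟩
    have hc : c = B v c • u + B e' c • e :=
      inspan c ⟨x₂ + (-(B x₂ c / B x₁ c)) • x₁, by
        rw [QuadraticMap.polar_add_left, QuadraticMap.polar_add_left, QuadraticMap.polar_smul_left,
          QuadraticMap.polar_smul_left, hx₁, hx₂, smul_zero, add_zero, one_smul, smul_eq_mul,
          neg_mul, div_mul_cancel₀ _ hx₁', add_neg_cancel, zero_smul, sub_zero]⟩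
    rw [← ha, ← hc]

/-- The number of long root elements. -/
theorem card_rootSet (C : Cfg Q S u v) (hv₁ : ∀ t : F, ∃ w ∈ perp Q S u v, Q w = t)
    (hv₂ : ∀ t : F, ∃ w ∈ perp Q (perp Q S u v) e e', Q w = t)
    (hp : IsPair Q e e')
    (he : e ∈ perp Q S u v) (he' : e' ∈ perp Q S u v) :
    (rootSet Q S).card * (Fintype.card F ^ 2 - 1) =
      (cnt Q S 0 - 1) * (cnt Q (perp Q S u v) 0 - 1) := by
  classical
  -- by the elements
  have h1 : Nat.card (RootPair Q S) =
      (rootSet Q S).card * ((Fintype.card F ^ 2 - 1) * Fintype.card F) := by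
    rw [Nat.card_eq_fintype_card, ← Finset.card_univ,
      Finset.card_eq_sum_card_fiberwise (f := rootEl) (t := rootSet Q S)
        (fun p _ => mem_rootSet.2 ⟨p, rfl⟩),
      Finset.sum_congr rfl (g := fun _ => (Fintype.card F ^ 2 - 1) * Fintype.card F) fun g hg => ?_,
      Finset.sum_const, smul_eq_mul]
    obtain ⟨⟨⟨a, c⟩, hr⟩, rfl⟩ := mem_rootSet.1 hg
    obtain ⟨k, hk⟩ := exists_move_root C hv₁ hv₂ hp he he' hr
    rw [← card_root_fibre C hp he he', ← Fintype.card_subtype, ← Nat.card_eq_fintype_card]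
    have hconj : ∀ (k : eGroup Q S) (p : RootPair Q S),
        rootEl (⟨(act k.1 p.1.1, act k.1 p.1.2), p.2.map k⟩ : RootPair Q S) =
          k * rootEl p * k⁻¹ :=
      fun k p => (el_conj k p.2.2.2.1 p.2.2.2.2.2.1 p.2.1 p.2.2.1).symm
    refine Nat.card_congr
      { toFun := fun p => ⟨⟨(act k⁻¹.1 p.1.1.1, act k⁻¹.1 p.1.1.2), p.1.2.map k⁻¹⟩, by
          rw [hconj k⁻¹ p.1, p.2, show rootEl (⟨(a, c), hr⟩ : RootPair Q S) = el Q S a c from rfl,
            ← hk]
          group⟩
        invFun := fun p => ⟨⟨(act k.1 p.1.1.1, act k.1 p.1.1.2), p.1.2.map k⟩, by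
          rw [hconj k p.1, p.2, hk]
          rfl⟩
        left_inv := fun p => ?_
        right_inv := fun p => ?_ }
    · refine Subtype.ext (Subtype.ext (Prod.ext ?_ ?_)) <;>
        simp [← act_mul, act_one]
    · refine Subtype.ext (Subtype.ext (Prod.ext ?_ ?_)) <;>
        simp [← act_mul, act_one]
  -- by the first vector
  have h2 : Nat.card (RootPair Q S) =
      (cnt Q S 0 - 1) * (Fintype.card F * (cnt Q (perp Q S u v) 0 - 1)) := by
    let e₂ : RootPair Q S ≃
        Σ a : {a : S // a.1 ≠ 0 ∧ Q a.1 = 0}, {c : ι → F // IsRoot Q S a.1.1 c} :=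
      { toFun := fun p => ⟨⟨⟨p.1.1, p.2.1⟩, p.2.2.2.2.2.2.1, p.2.2.2.1⟩, p.1.2, p.2⟩
        invFun := fun s => ⟨(s.1.1.1, s.2.1), s.2.2⟩
        left_inv := fun p => rfl
        right_inv := fun s => rfl }
    have hzero : ∀ (T : Submodule F (ι → F)),
        Nat.card {a : T // a.1 ≠ 0 ∧ Q a.1 = 0} = cnt Q T 0 - 1 := by
      intro T
      rw [cnt, Nat.card_eq_fintype_card, Nat.card_eq_fintype_card, Fintype.card_subtype,
        Fintype.card_subtype, ← Finset.card_erase_of_mem
          (s := Finset.univ.filter fun a : T => Q a.1 = 0) (a := 0) (by simp)]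
      congr 1
      ext a
      simp
    rw [Nat.card_congr e₂, Nat.card_sigma, Finset.sum_congr rfl
      (g := fun _ => Fintype.card F * (cnt Q (perp Q S u v) 0 - 1)) fun a _ => ?_, Finset.sum_const,
      Finset.card_univ, ← Nat.card_eq_fintype_card, hzero, smul_eq_mul]
    obtain ⟨⟨a, haS⟩, ha0, hQa⟩ := a
    obtain ⟨k, hk, hka⟩ := vec_move C.p C.hu C.hv C.nd hv₁ C.hu haS (pair_ne_zero C.p)
      ha0 (C.p.hu.trans hQa.symm)
    have step1 : Nat.card {c : ι → F // IsRoot Q S a c} =
        Nat.card {c : ι → F // IsRoot Q S u c} := by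
      refine Nat.card_congr
        { toFun := fun c => ⟨act k⁻¹ c.1, ?_⟩
          invFun := fun c => ⟨act k c.1, ?_⟩
          left_inv := fun c => Subtype.ext (by simp [← act_mul, act_one])
          right_inv := fun c => Subtype.ext (by simp [← act_mul, act_one]) }
      · have := c.2.map ⟨k⁻¹, inv_mem hk⟩
        rwa [show act (⟨k⁻¹, inv_mem hk⟩ : eGroup Q S).1 a = u by
          rw [← hka, Spinor.act_inv_cancel]] at this
      · have := c.2.map ⟨k, hk⟩
        rwa [show act (⟨k, hk⟩ : eGroup Q S).1 u = a from hka] at this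
    show Nat.card {c : ι → F // IsRoot Q S a c} = _
    rw [step1, ← hzero, ← Nat.card_eq_fintype_card (α := F), ← Nat.card_prod]
    refine Nat.card_congr
      { toFun := fun c => (B c.1 v, ⟨⟨proj Q u v c.1, proj_mem_perp C.p C.hu C.hv c.2.2.1⟩, ?_⟩)
        invFun := fun p => ⟨p.1 • u + p.2.1.1, ?_⟩
        left_inv := fun c => Subtype.ext ?_
        right_inv := fun p => ?_ }
    · obtain ⟨c, -, hcS, -, hQc, huc, -, hind⟩ := c
      show proj Q u v c ≠ 0 ∧ Q (proj Q u v c) = 0
      have hcu : B c u = 0 := by rw [QuadraticMap.polar_comm]; exact huc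
      have hd := proj_add (Q := Q) u v c
      rw [hcu, zero_smul, add_zero] at hd
      refine ⟨fun h0 => hind (B c v) (by rwa [h0, add_zero] at hd), ?_⟩
      have hW := proj_mem_perp C.p C.hu C.hv hcS
      rw [hd, map_add', map_smul', QuadraticMap.polar_smul_left, C.p.hu, perp_left hW] at hQc
      simpa using hQc
    · obtain ⟨t, ⟨z, hz⟩, hz0, hQz⟩ := p
      refine ⟨C.hu, S.add_mem (S.smul_mem _ C.hu) (perp_le hz), C.p.hu, ?_, ?_, pair_ne_zero C.p,
        fun s hs => hz0 ?_⟩
      · simp [map_add', map_smul', QuadraticMap.polar_smul_left, C.p.hu, perp_left hz, hQz]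
      · simp [QuadraticMap.polar_add_right, QuadraticMap.polar_smul_right, polar_self_zero C.p.hu,
          perp_left hz]
      · have h1 := congrArg (fun x => B x v) hs
        simp [QuadraticMap.polar_add_left, QuadraticMap.polar_smul_left, C.p.huv,
          perp_right' hz] at h1
        rw [h1] at hs
        simpa using hs
    · obtain ⟨c, -, hcS, -, hQc, huc, -⟩ := c
      show B c v • u + proj Q u v c = c
      have hd := proj_add (Q := Q) u v c
      rw [QuadraticMap.polar_comm _ c u, huc, zero_smul, add_zero] at hd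
      exact hd.symm
    · obtain ⟨t, ⟨z, hz⟩, hz0, hQz⟩ := p
      have hv' : B (t • u + z) v = t := by
        simp [QuadraticMap.polar_add_left, QuadraticMap.polar_smul_left, C.p.huv, perp_right' hz]
      have hu' : B (t • u + z) u = 0 := by
        simp [QuadraticMap.polar_add_left, QuadraticMap.polar_smul_left, polar_self_zero C.p.hu,
          perp_left' hz]
      refine Prod.ext hv' (Subtype.ext (Subtype.ext ?_))
      show proj Q u v (t • u + z) = z
      rw [proj, hv', hu']
      module
  refine Nat.eq_of_mul_eq_mul_right (Fintype.card_pos : 0 < Fintype.card F) ?_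
  rw [mul_assoc, ← h1, h2]
  ring

/-- The degree divides the number of long root elements times the defect of the character. -/
theorem dvd_rootSet [ρ.IsIrreducible] (C : Cfg Q S u v) (hv₁ : ∀ t : F, ∃ w ∈ perp Q S u v, Q w = t)
    (hv₂ : ∀ t : F, ∃ w ∈ perp Q (perp Q S u v) e e', Q w = t)
    (hp : IsPair Q e e') (he : e ∈ perp Q S u v) (he' : e' ∈ perp Q S u v) {M : ℕ}
    (htr : LinearMap.trace ℂ V (ρ (el Q S u e)) = (Module.finrank ℂ V : ℂ) - M) :
    Module.finrank ℂ V ∣ (rootSet Q S).card * M := by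
  have hk : Module.finrank ℂ V ≠ 0 := (Cfsg.Agent.Characters.finrank_pos_of_isIrreducible ρ).ne'
  have h := Cfsg.Agent.Characters.central_char_isIntegral ρ (rootSet Q S)
    (fun g k hg => rootSet_conj g k hg)
  rw [Finset.sum_congr rfl (g := fun _ => (Module.finrank ℂ V : ℂ) - M) fun g hg => ?_,
    Finset.sum_const, nsmul_eq_mul] at h
  · refine Cfsg.Agent.Characters.dvd_of_isIntegral_div hk ?_
    have hk' : (Module.finrank ℂ V : ℂ) ≠ 0 := Nat.cast_ne_zero.2 hk
    have e1 : (((rootSet Q S).card * M : ℕ) : ℂ) / (Module.finrank ℂ V : ℂ) =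
        ((rootSet Q S).card : ℂ) - ((rootSet Q S).card : ℂ) *
          ((Module.finrank ℂ V : ℂ) - M) / (Module.finrank ℂ V : ℂ) := by
      push_cast; field_simp; ring
    rw [e1]
    refine IsIntegral.sub ?_ h
    exact isIntegral_algebraMap (x := ((rootSet Q S).card : ℤ))
  · obtain ⟨⟨⟨a, c⟩, hr⟩, rfl⟩ := mem_rootSet.1 hg
    obtain ⟨k, hk'⟩ := exists_move_root C hv₁ hv₂ hp he he' hr
    show ρ.character (el Q S a c) = _
    rw [← hk', ρ.char_conj]
    exact htr

end Cfsg.Agent.SimpleFacts.MinDegOrth
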