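import Mathlib
import Cfsg.Agent.SimpleFacts.MinDegOrth.Fourier
import Cfsg.Agent.SimpleFacts.MinDegOrth.Lev

/-!
A long root element of the complement fixes the one-dimensional eigenspaces whose characters it
fixes.
-/

set_option autoImplicit false
set_option linter.unusedSectionVars false
set_option linter.unusedSimpArgs false

namespace Cfsg.Agent.SimpleFacts.MinDegOrth

open Cfsg.Agent.Forms Cfsg.Agent.Forms.QuadStd Cfsg.Agent.Forms.Reflections
open Cfsg.Agent.Classical.Orth
open scoped commutatorElement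

variable {F : Type*} [Field F] [Fintype F] {ι : Type} [Fintype ι] [DecidableEq ι]
variable {Q : QuadraticForm F (ι → F)}

local notation "Vec" => (ι → F)
local notation "B" => QuadraticMap.polar Q

variable {S : Submodule F (ι → F)} {u v : ι → F}
variable {V : Type*} [AddCommGroup V] [Module ℂ V] [FiniteDimensional ℂ V]
variable (ρ : Representation ℂ (eGroup Q S) V) {ψ : AddChar F ℂ}

theorem el_smul_left {a w : Vec} (t : F) (ha : Q a = 0) (hw : B a w = 0) (h1 : a ∈ S)
    (h2 : w ∈ S) : el Q S (t • a) w = el Q S a (t • w) := el_smul t ha hw h1 h2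

theorem Pairs.he {W : Submodule F Vec} {e e' b b' : Vec} (P : Pairs Q W e e' b b') : Q e = 0 :=
  P.p.hu

theorem Pairs.be {W : Submodule F Vec} {e e' b b' : Vec} (P : Pairs Q W e e' b b') :
    B b e = 0 := by rw [QuadraticMap.polar_comm]; exact P.ac

/-- Change of the first vector along the second. -/
theorem el_add_left {b e : Vec} (ν κ t : F) (hb : Q b = 0) (he : Q e = 0) (hbe : B b e = 0)
    (h1 : b ∈ S) (h2 : e ∈ S) :
    el Q S (ν • b + κ • e) (t • e) = el Q S b ((ν * t) • e) := by
  have h0 : Q (ν • b + κ • e) = 0 := by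
    simp [map_add', map_smul', QuadraticMap.polar_smul_left, QuadraticMap.polar_smul_right, hb, he,
      hbe]
  have h01 : B (ν • b + κ • e) (t • e) = 0 := by
    simp [QuadraticMap.polar_smul_right, QuadraticMap.polar_add_left, QuadraticMap.polar_smul_left,
      hbe, polar_self_zero he]
  have h02 : B b ((ν * t) • e) = 0 := by rw [QuadraticMap.polar_smul_right, hbe, smul_zero]
  refine Subtype.ext ?_
  rw [el_val h0 h01 (S.add_mem (S.smul_mem _ h1) (S.smul_mem _ h2)) (S.smul_mem _ h2),
    el_val hb h02 h1 (S.smul_mem _ h2)]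
  refine act_ext fun x => ?_
  simp only [act_eich, map_smul', QuadraticMap.polar_add_right, QuadraticMap.polar_smul_right, he,
    smul_eq_mul]
  module

/-- An element scaling the root line and fixing the character fixes its eigenline. -/
theorem phase_of_scaling (C : Cfg Q S u v) (hψ : ψ ≠ 1) {e e' b b' y : Vec}
    (P : Pairs Q (perp Q S u v) e e' b b') (hy : y ∈ perp Q S u v) (hye : B y e = 0)
    (hyb : B y b = 0) (hm : mult ρ ψ u v y = 1) {g : Cfsg.isometryGroup F ⇑Q}
    (hg : g ∈ eGroup Q (perp Q S u v)) (hgy : act g y = y) {μ ν κ : F} (hge : act g e = μ • e)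
    (hgb : act g b = ν • b + κ • e) (hne : ν * μ ≠ 1) :
    ρ (el Q S b e) * pr ρ ψ u v y = pr ρ ψ u v y := by
  have hb : b ∈ S := perp_le P.hc
  have he : e ∈ S := perp_le P.ha
  let a : eGroup Q S := ⟨g, eGroup_mono perp_le hg⟩
  obtain ⟨t, ht⟩ : ∃ t : F, t * (ν * μ - 1) = 1 :=
    ⟨(ν * μ - 1)⁻¹, inv_mul_cancel₀ (sub_ne_zero.2 hne)⟩
  have hbt : B b (t • e) = 0 := by rw [QuadraticMap.polar_smul_right, P.be, smul_zero]
  have hc : el Q S b e = ⁅a, el Q S b (t • e)⁆ := by
    rw [commutatorElement_def, el_conj a P.p'.hu hbt hb (S.smul_mem _ he), eq_mul_inv_iff_mul_eq,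
      show act a.1 b = ν • b + κ • e from hgb, map_smul,
      show act a.1 e = μ • e from hge, smul_smul, el_add_left ν κ (t * μ) P.p'.hu P.he P.be hb he,
      ← el_add P.p'.hu P.be hbt hb he (S.smul_mem _ he)]
    congr 1
    rw [show ν * (t * μ) = 1 + t by linear_combination ht]
    module
  rw [hc]
  refine commutator_on_line ρ (C.pr_idem ρ hψ hy) (by rw [C.trace_pr ρ hψ hy, hm]; simp) ?_ ?_
  · exact C.commute_pr ρ (act_fix_perp C hg).1 (act_fix_perp C hg).2 hgy
  · refine C.commute_pr ρ ?_ ?_ ?_ <;> rw [el_val P.p'.hu hbt hb (S.smul_mem _ he)]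
    · exact act_eich_fix _ _ (perp_left P.hc)
        (by rw [QuadraticMap.polar_smul_right, perp_left P.ha, smul_zero])
    · exact act_eich_fix _ _ (perp_right P.hc)
        (by rw [QuadraticMap.polar_smul_right, perp_right P.ha, smul_zero])
    · exact act_eich_fix _ _ hyb (by rw [QuadraticMap.polar_smul_right, hye, smul_zero])

/-- The phases are trivial when `q ≥ 4`. -/
theorem phase_torus (C : Cfg Q S u v) (hψ : ψ ≠ 1) {e e' b b' y : Vec}
    (P : Pairs Q (perp Q S u v) e e' b b') {s : F} (hs : s ≠ 0) (hs2 : s * s ≠ 1)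
    (hy : y ∈ perp Q S u v) (hye : B y e = 0) (hyb : B y b = 0) (hm : mult ρ ψ u v y = 1) :
    ρ (el Q S b e) * pr ρ ψ u v y = pr ρ ψ u v y := by
  set W := perp Q S u v with hW
  set z := proj Q b b' (proj Q e e' y) with hz
  have hyb' : B (proj Q e e' y) b' = B y b' := by
    simp [proj, QuadraticMap.polar_sub_left, QuadraticMap.polar_smul_left, P.ac', P.a'c']
  have hyb0 : B (proj Q e e' y) b = 0 := by
    simp [proj, QuadraticMap.polar_sub_left, QuadraticMap.polar_smul_left, P.ac, P.a'c, hyb]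
  have hzW : z ∈ perp Q (perp Q W e e') b b' :=
    proj_mem_perp P.p' (mem_perp.2 ⟨P.hc, P.ac, P.a'c⟩) (mem_perp.2 ⟨P.hc', P.ac', P.a'c'⟩)
      (proj_mem_perp P.p P.ha P.ha' hy)
  obtain ⟨α, hα⟩ : ∃ α, α = B y e' := ⟨_, rfl⟩
  obtain ⟨β, hβ⟩ : ∃ β, β = B y b' := ⟨_, rfl⟩
  have hdec : y = α • e + β • b + z := by
    have h2 := proj_add (Q := Q) b b' (proj Q e e' y)
    rw [hyb', hyb0, ← hβ, zero_smul, add_zero, ← hz] at h2
    conv_lhs => rw [proj_add (Q := Q) e e' y, hye, ← hα, zero_smul, add_zero, h2]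
    abel
  have hze : B z e = 0 := perp_left' (perp_le hzW)
  have hze' : B z e' = 0 := perp_right' (perp_le hzW)
  have hzb : B z b = 0 := perp_left' hzW
  have hzb' : B z b' = 0 := perp_right' hzW
  obtain ⟨H, hH, He, Hb, -, -, Hfix⟩ := torus P hs
  by_cases hz0 : z = 0
  · obtain ⟨H', hH', He2, -, -, Hb2, -⟩ := torus P.flip (inv_ne_zero hs)
    by_cases hβ0 : β = 0
    · refine phase_of_scaling ρ C hψ P hy hye hyb hm (g := H * H') (mul_mem hH hH') ?_
        (μ := 1) (ν := s * s) (κ := 0) ?_ ?_ (by rw [mul_one]; exact hs2)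
      · rw [hdec, hz0, hβ0, zero_smul, add_zero, add_zero, map_smul, act_mul, He2, map_smul, He,
          smul_smul s⁻¹, inv_mul_cancel₀ hs, one_smul]
      · rw [act_mul, He2, map_smul, He, smul_smul, inv_mul_cancel₀ hs]
      · rw [act_mul, Hb2, map_smul, Hb, smul_smul, inv_inv, zero_smul, add_zero]
    · obtain ⟨H'', hH'', He3, -, -, Hb3, -⟩ := torus P.flip hs
      have hk : B e ((-α / β) • b') = 0 := by
        rw [QuadraticMap.polar_smul_right, P.ac', smul_zero]
      set k := eich e ((-α / β) • b') P.p.hu hk with hkdef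
      have hkmem : k ∈ eGroup Q W := eich_mem _ _ P.ha (W.smul_mem _ P.hc')
      have hke : act k e = e := act_eich_self _ _
      have hkb : act k b = b + (α / β) • e := by
        rw [hkdef, act_eich, P.be, QuadraticMap.polar_smul_right, P.p'.huv, smul_eq_mul]
        match_scalars <;> ring
      have hky : act k (β • b) = y := by
        rw [map_smul, hkb, hdec, hz0, add_zero, smul_add, smul_smul, mul_div_cancel₀ _ hβ0]
        abel
      have hgb : act (H * H'') b = b := by
        rw [act_mul, Hb3, map_smul, Hb, smul_smul, inv_mul_cancel₀ hs, one_smul]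
      have hge : act (H * H'') e = (s * s) • e := by
        rw [act_mul, He3, map_smul, He, smul_smul]
      refine phase_of_scaling ρ C hψ P hy hye hyb hm (g := k * (H * H'') * k⁻¹)
        (mul_mem (mul_mem hkmem (mul_mem hH hH'')) (inv_mem hkmem)) ?_
        (μ := s * s) (ν := 1) (κ := α / β * (1 - s * s)) ?_ ?_ (by rw [one_mul]; exact hs2)
      · have h1 : act k⁻¹ y = β • b := by rw [← hky, Spinor.act_inv_cancel]
        rw [act_mul, act_mul, h1, map_smul (act (H * H'')), hgb, hky]
      · have h1 : act k⁻¹ e = e := by conv_lhs => rw [← hke, Spinor.act_inv_cancel]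
        rw [act_mul, act_mul, h1, hge, map_smul, hke]
      · have h1 : act k⁻¹ b = b - (α / β) • e := by
          have h := congrArg (act k⁻¹) hkb
          rw [Spinor.act_inv_cancel, map_add, map_smul,
            show act k⁻¹ e = e by conv_lhs => rw [← hke, Spinor.act_inv_cancel]] at h
          exact eq_sub_of_add_eq h.symm
        rw [act_mul, act_mul, h1, map_sub, map_smul, hgb, hge, map_sub, map_smul, map_smul, hkb,
          hke, one_smul]
        module
  · obtain ⟨x₀, hx₀, hzx⟩ := exists_one (perp_nd P.p' (mem_perp.2 ⟨P.hc, P.ac, P.a'c⟩)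
      (mem_perp.2 ⟨P.hc', P.ac', P.a'c'⟩) (perp_nd P.p P.ha P.ha' (perp_nd C.p C.hu C.hv C.nd)))
      hzW hz0
    have hx0W : x₀ ∈ W := perp_le (perp_le hx₀)
    have hex : B e x₀ = 0 := perp_left (perp_le hx₀)
    have hbx : B b x₀ = 0 := perp_left hx₀
    have h1 : B e ((-α) • x₀) = 0 := by rw [QuadraticMap.polar_smul_right, hex, smul_zero]
    have h2 : B b ((-β) • x₀) = 0 := by rw [QuadraticMap.polar_smul_right, hbx, smul_zero]
    set k := eich b ((-β) • x₀) P.p'.hu h2 * eich e ((-α) • x₀) P.p.hu h1 with hkdef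
    have hkmem : k ∈ eGroup Q W :=
      mul_mem (eich_mem _ _ P.hc (W.smul_mem _ hx0W)) (eich_mem _ _ P.ha (W.smul_mem _ hx0W))
    have hke : act k e = e := by
      rw [hkdef, act_mul, act_eich_self, act_eich_fix _ _ P.ac
        (by rw [QuadraticMap.polar_smul_right, hex, smul_zero])]
    have hkb : act k b = b := by
      rw [hkdef, act_mul, act_eich_fix _ _ P.be
        (by rw [QuadraticMap.polar_smul_right, hbx, smul_zero]), act_eich_self]
    have hkz : act k z = y := by
      have e1 : act (eich e ((-α) • x₀) P.p.hu h1) z = z + α • e := by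
        rw [act_eich, hze, QuadraticMap.polar_smul_right, hzx, smul_eq_mul]
        module
      have e2 : act (eich b ((-β) • x₀) P.p'.hu h2) z = z + β • b := by
        rw [act_eich, hzb, QuadraticMap.polar_smul_right, hzx, smul_eq_mul]
        module
      have e3 : act (eich b ((-β) • x₀) P.p'.hu h2) e = e :=
        act_eich_fix _ _ P.ac (by rw [QuadraticMap.polar_smul_right, hex, smul_zero])
      rw [hkdef, act_mul, e1, map_add, map_smul, e2, e3, hdec]
      abel
    have hHz : act H z = z := Hfix z hze hze' hzb hzb'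
    refine phase_of_scaling ρ C hψ P hy hye hyb hm (g := k * H * k⁻¹)
      (mul_mem (mul_mem hkmem hH) (inv_mem hkmem)) ?_ (μ := s) (ν := s) (κ := 0) ?_ ?_ hs2
    · have h : act k⁻¹ y = z := by rw [← hkz, Spinor.act_inv_cancel]
      rw [act_mul, act_mul, h, hHz, hkz]
    · have h : act k⁻¹ e = e := by conv_lhs => rw [← hke, Spinor.act_inv_cancel]
      rw [act_mul, act_mul, h, He, map_smul, hke]
    · have h : act k⁻¹ b = b := by conv_lhs => rw [← hkb, Spinor.act_inv_cancel]
      rw [act_mul, act_mul, h, Hb, map_smul, hkb, zero_smul, add_zero]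

/-- The phases are trivial when the stabiliser contains a commutator giving the root element. -/
theorem phase_comm (C : Cfg Q S u v) (hψ : ψ ≠ 1) {e e' b b' y x z : Vec}
    (P : Pairs Q (perp Q S u v) e e' b b') (hy : y ∈ perp Q S u v) (hye : B y e = 0)
    (hyb : B y b = 0) (hm : mult ρ ψ u v y = 1)
    (hx : x ∈ perp Q (perp Q (perp Q S u v) e e') b b')
    (hz : z ∈ perp Q (perp Q (perp Q S u v) e e') b b')
    (hyx : B y x = 0) (hyz : B y z = 0) (hzx : B z x = -1) :
    ρ (el Q S b e) * pr ρ ψ u v y = pr ρ ψ u v y := by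
  have hxW := perp_le (perp_le hx)
  have hzW := perp_le (perp_le hz)
  have hex := perp_left (perp_le hx)
  have hbz := perp_left hz
  have hb : b ∈ S := perp_le P.hc
  have he : e ∈ S := perp_le P.ha
  have hbm : B b ((-B z x) • e) = 0 := by rw [QuadraticMap.polar_smul_right, P.be, smul_zero]
  have hc : el Q S b e = ⁅el Q S e x, el Q S b z⁆ := by
    refine Subtype.ext ?_
    show (el Q S b e : Cfsg.isometryGroup F ⇑Q) =
      ⁅(el Q S e x : Cfsg.isometryGroup F ⇑Q), (el Q S b z : Cfsg.isometryGroup F ⇑Q)⁆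
    rw [el_val P.p'.hu P.be hb he, el_val P.p.hu hex he (perp_le hxW),
      el_val P.p'.hu hbz hb (perp_le hzW),
      eich_comm P.p.hu P.p'.hu hex hbz P.be (perp_left hx) (perp_left' (perp_le hz)) hbm]
    exact eich_congr (by rw [hzx, neg_neg, one_smul]) _ _
  rw [hc]
  refine commutator_on_line ρ (C.pr_idem ρ hψ hy) (by rw [C.trace_pr ρ hψ hy, hm]; simp) ?_ ?_
  · refine C.commute_pr ρ ?_ ?_ ?_ <;> rw [el_val P.p.hu hex he (perp_le hxW)]
    · exact act_eich_fix _ _ (perp_left P.ha) (perp_left hxW)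
    · exact act_eich_fix _ _ (perp_right P.ha) (perp_right hxW)
    · exact act_eich_fix _ _ hye hyx
  · refine C.commute_pr ρ ?_ ?_ ?_ <;> rw [el_val P.p'.hu hbz hb (perp_le hzW)]
    · exact act_eich_fix _ _ (perp_left P.hc) (perp_left hzW)
    · exact act_eich_fix _ _ (perp_right P.hc) (perp_right hzW)
    · exact act_eich_fix _ _ hyb hyz

/-- Two vectors orthogonal to a given one and not to each other. -/
theorem exists_comm_vectors {U : Submodule F Vec} (hU : ND Q U) {y : Vec} (hy : y ∈ U)
    (h : (y = 0 ∧ 1 < Nat.card U) ∨ Fintype.card F ^ 2 < Nat.card U) :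
    ∃ x ∈ U, ∃ z ∈ U, B y x = 0 ∧ B y z = 0 ∧ B z x = -1 := by
  classical
  obtain ⟨x, hxU, hyx, hx⟩ : ∃ x ∈ U, B y x = 0 ∧ ∀ c : F, x ≠ c • y := by
    rcases h with ⟨rfl, h⟩ | h
    · have : Nontrivial U := Finite.one_lt_card_iff_nontrivial.1 h
      obtain ⟨x, hx⟩ := exists_ne (0 : U)
      exact ⟨x.1, x.2, QuadraticMap.polar_zero_left _ _,
        fun c hc => hx (Subtype.ext (by rw [hc, smul_zero]; rfl))⟩
    · by_contra hcon
      push Not at hcon
      refine (lt_irrefl _ : ¬ Nat.card U < Nat.card U) (lt_of_le_of_lt ?_ h)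
      obtain ⟨x₀, hx₀U, hyx₀⟩ : ∃ x₀ ∈ U, ∀ x ∈ U, B y (x - B y x • x₀) = 0 := by
        by_cases hy0 : y = 0
        · exact ⟨0, U.zero_mem, fun x _ => by rw [hy0, QuadraticMap.polar_zero_left]⟩
        · obtain ⟨x₀, h1, h2⟩ := exists_one hU hy hy0
          exact ⟨x₀, h1, fun x _ => by
            rw [QuadraticMap.polar_sub_right, QuadraticMap.polar_smul_right, h2, smul_eq_mul,
              mul_one, sub_self]⟩
      choose c hc using fun x : U => hcon (x.1 - B y x.1 • x₀)
        (U.sub_mem x.2 (U.smul_mem _ hx₀U)) (hyx₀ x.1 x.2)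
      have hinj : Function.Injective fun x : U => (B y x.1, c x) := by
        intro a b hab
        simp only [Prod.mk.injEq] at hab
        have h1 := hc a
        have h2 := hc b
        rw [hab.1, hab.2, ← h2, sub_left_inj] at h1
        exact Subtype.ext h1
      refine (Nat.card_le_card_of_injective _ hinj).trans ?_
      rw [Nat.card_prod, Nat.card_eq_fintype_card, sq]
  have hex : ∃ z ∈ U, B y z = 0 ∧ B x z ≠ 0 := by
    by_contra hcon
    push Not at hcon
    by_cases hy0 : y = 0
    · exact hx 0 (by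
        rw [zero_smul]
        exact hU x hxU fun s hs => hcon s hs (by rw [hy0, QuadraticMap.polar_zero_left]))
    obtain ⟨z₀, hz₀, hyz₀⟩ := exists_one hU hy hy0
    refine hx (B x z₀) (sub_eq_zero.1 (hU _ (U.sub_mem hxU (U.smul_mem _ hy)) fun s hs => ?_))
    have h0 := hcon (s - B y s • z₀) (U.sub_mem hs (U.smul_mem _ hz₀)) (by
      rw [QuadraticMap.polar_sub_right, QuadraticMap.polar_smul_right, hyz₀, smul_eq_mul, mul_one,
        sub_self])
    rw [QuadraticMap.polar_sub_right, QuadraticMap.polar_smul_right, smul_eq_mul] at h0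
    rw [QuadraticMap.polar_sub_left, QuadraticMap.polar_smul_left, smul_eq_mul]
    linear_combination h0
  obtain ⟨z, hzU, hyz, hxz⟩ := hex
  refine ⟨x, hxU, (-(B x z)⁻¹) • z, U.smul_mem _ hzU, hyx, ?_, ?_⟩
  · rw [QuadraticMap.polar_smul_right, hyz, smul_zero]
  · rw [QuadraticMap.polar_smul_left, QuadraticMap.polar_comm _ z x, smul_eq_mul, neg_mul,
      inv_mul_cancel₀ hxz]

end Cfsg.Agent.SimpleFacts.MinDegOrth
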