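import Mathlib
import Cfsg.Agent.SimpleFacts.MinDegOrth.Phases

/-!
The traces of a long root element when the characters of one value occur, each once.
-/

set_option autoImplicit false
set_option linter.unusedSectionVars false
set_option linter.unusedSimpArgs false

namespace Cfsg.Agent.SimpleFacts.MinDegOrth

open Cfsg.Agent.Forms Cfsg.Agent.Forms.QuadStd Cfsg.Agent.Forms.Reflections
open Cfsg.Agent.Classical.Orth

variable {F : Type*} [Field F] [Fintype F] {ι : Type} [Fintype ι] [DecidableEq ι]
variable {Q : QuadraticForm F (ι → F)}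

local notation "Vec" => (ι → F)
local notation "B" => QuadraticMap.polar Q

variable {S : Submodule F (ι → F)} {u v : ι → F}
variable {V : Type*} [AddCommGroup V] [Module ℂ V] [FiniteDimensional ℂ V]
variable (ρ : Representation ℂ (eGroup Q S) V) {ψ : AddChar F ℂ}

/-- The characters of value `c` occur once, and no other non-trivial one. -/
def Single (ψ : AddChar F ℂ) (u v : ι → F) (c : F) : Prop :=
  ∀ y ∈ perp Q S u v, y ≠ 0 →
    (Q y = c → mult ρ ψ u v y = 1) ∧ (Q y ≠ c → mult ρ ψ u v y = 0)

open _root_.Classical in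
/-- The non-zero vectors of value `c` in the complement. -/
noncomputable def levSet (Q : QuadraticForm F (ι → F)) (S : Submodule F (ι → F)) (u v : ι → F)
    (c : F) : Finset (perp Q S u v) :=
  Finset.univ.filter fun y => y.1 ≠ 0 ∧ Q y.1 = c

theorem fibre_sums {α : Type*} (s : Finset α) [DecidableEq F] (f : α → F) (N : ℕ)
    (hψ : ψ ≠ 1) (hN : ∀ t ≠ 0, (s.filter fun a => f a = t).card = N) :
    s.card = (s.filter fun a => f a = 0).card + (Fintype.card F - 1) * N ∧
      ∑ a ∈ s, ψ (f a) = ((s.filter fun a => f a = 0).card : ℂ) - N := by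
  constructor
  · conv_lhs => rw [Finset.card_eq_sum_card_fiberwise (f := f) (t := Finset.univ)
      (fun a _ => Finset.mem_univ _)]
    rw [← Finset.add_sum_erase _ _ (Finset.mem_univ (0 : F)),
      Finset.sum_congr rfl fun t ht => hN t (Finset.ne_of_mem_erase ht), Finset.sum_const,
      Finset.card_erase_of_mem (Finset.mem_univ _), Finset.card_univ, smul_eq_mul]
  · rw [← Finset.sum_fiberwise s f, Finset.sum_congr rfl (g := fun t =>
      ((s.filter fun a => f a = t).card : ℂ) * ψ t) fun t _ => by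
        rw [Finset.sum_congr rfl fun a ha => by rw [(Finset.mem_filter.1 ha).2], Finset.sum_const,
          nsmul_eq_mul],
      ← Finset.add_sum_erase _ _ (Finset.mem_univ (0 : F)), AddChar.map_zero_eq_one, mul_one,
      Finset.sum_congr rfl fun t ht => by rw [hN t (Finset.ne_of_mem_erase ht)],
      ← Finset.mul_sum, Finset.sum_erase_eq_sub (Finset.mem_univ _), AddChar.map_zero_eq_one,
      AddChar.sum_eq_zero_of_ne_one hψ]
    ring

theorem card_levSet (c : F) [DecidableEq F] :
    (levSet Q S u v c).card + (if c = 0 then 1 else 0) = cnt Q (perp Q S u v) c := by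
  classical
  rw [cnt, Nat.card_eq_fintype_card, Fintype.card_subtype, levSet]
  split_ifs with hc
  · subst hc
    rw [← Finset.card_erase_add_one (s := Finset.univ.filter fun y : perp Q S u v => Q y.1 = 0)
      (a := 0) (by simp)]
    congr 2
    ext y
    simp
  · rw [add_zero]
    congr 1
    ext y
    simp only [Finset.mem_filter, Finset.mem_univ, true_and, and_iff_right_iff_imp]
    intro h h0
    exact hc (by rw [← h, h0, QuadraticMap.map_zero])

theorem Single.sum_split {c : F} (hs : Single ρ ψ u v c) (f : perp Q S u v → ℂ) :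
    ∑ y : perp Q S u v, (mult ρ ψ u v y.1 : ℂ) * f y =
      (mult ρ ψ u v 0 : ℂ) * f 0 + ∑ y ∈ levSet Q S u v c, f y := by
  classical
  rw [← Finset.add_sum_erase _ _ (Finset.mem_univ (0 : perp Q S u v)), levSet, Finset.sum_filter]
  congr 1
  rw [← Finset.add_sum_erase _ (fun y : perp Q S u v => if y.1 ≠ 0 ∧ Q y.1 = c then f y else 0)
    (Finset.mem_univ (0 : perp Q S u v))]
  simp only [Submodule.coe_zero, ne_eq, not_true, false_and, if_false, zero_add]
  refine Finset.sum_congr rfl fun y hy => ?_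
  have hy0 : y.1 ≠ 0 := fun h => Finset.ne_of_mem_erase hy (Subtype.ext h)
  by_cases hc : Q y.1 = c
  · rw [(hs y.1 y.2 hy0).1 hc, if_pos ⟨hy0, hc⟩, Nat.cast_one, one_mul]
  · rw [(hs y.1 y.2 hy0).2 hc, if_neg (fun h => hc h.2), Nat.cast_zero, zero_mul]

variable {e e' b b' : ι → F}

theorem Single.finrank_eq (C : Cfg Q S u v) (hψ : ψ ≠ 1) {c : F} (hs : Single ρ ψ u v c) :
    Module.finrank ℂ V = mult ρ ψ u v 0 + (levSet Q S u v c).card := by
  have h := hs.sum_split ρ (fun _ => (1 : ℂ))
  simp only [mul_one, Finset.sum_const, nsmul_eq_mul] at h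
  rw [← Nat.cast_sum, C.sum_mult ρ hψ] at h
  exact_mod_cast h

theorem trace_root_conj (C : Cfg Q S u v) (P : Pairs Q (perp Q S u v) e e' b b') :
    LinearMap.trace ℂ V (ρ (el Q S u e)) = LinearMap.trace ℂ V (ρ (el Q S b e)) := by
  have hvb : B v b = 0 := perp_right P.hc
  have hbu : B b' (-u) = 0 := by rw [QuadraticMap.polar_neg_right, perp_left' P.hc', neg_zero]
  have hbS : b ∈ S := perp_le P.hc
  have hb'S : b' ∈ S := perp_le P.hc'
  set g : eGroup Q S := el Q S b' (-u) * el Q S v b with hg
  have hgval : (g : Cfsg.isometryGroup F ⇑Q) =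
      eich b' (-u) P.p'.hv hbu * eich v b C.p.hv hvb := by
    rw [hg, Subgroup.coe_mul, el_val P.p'.hv hbu hb'S (S.neg_mem C.hu), el_val C.p.hv hvb C.hv hbS]
  have hgu : act g.1 u = b := by
    rw [hgval, act_mul]
    have h1 : act (eich v b C.p.hv hvb) u = u + b := by
      rw [act_eich, C.p.huv, perp_left P.hc, P.p'.hu]
      module
    rw [h1, map_add, act_eich, act_eich]
    simp only [QuadraticMap.polar_neg_right, QuadraticMap.map_neg, C.p.hu,
      polar_self_zero C.p.hu, perp_left P.hc', P.p'.huv, perp_left' P.hc]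
    module
  have hge : act g.1 e = e := by
    rw [hgval, act_mul, act_eich_fix _ _ (perp_right' P.ha) P.ac,
      act_eich_fix _ _ P.ac' (by rw [QuadraticMap.polar_neg_right, perp_left' P.ha, neg_zero])]
  have hconj : g * el Q S u e * g⁻¹ = el Q S b e := by
    rw [el_conj g C.p.hu (perp_left P.ha) C.hu (perp_le P.ha), hgu, hge]
  rw [← hconj]
  exact (ρ.char_conj _ _).symm

/-- The trace of a root element of the radical. -/
theorem Single.trace_root (C : Cfg Q S u v) (hψ : ψ ≠ 1)
    (hp : IsPair Q e e') (he : e ∈ perp Q S u v) (he' : e' ∈ perp Q S u v) {c : F}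
    (hs : Single ρ ψ u v c) :
    LinearMap.trace ℂ V (ρ (el Q S u e)) =
      (Module.finrank ℂ V : ℂ) -
        ((Fintype.card F * Nat.card (perp Q (perp Q S u v) e e') : ℕ) : ℂ) := by
  classical
  rw [C.trace_el ρ hψ he, hs.sum_split, hs.finrank_eq ρ C hψ]
  obtain ⟨h1, h2⟩ := fibre_sums (ψ := ψ) (levSet Q S u v c) (fun y => B y.1 e)
    (Nat.card (perp Q (perp Q S u v) e e')) hψ (fun t ht => by
      rw [← card_slice hp he he' c ht, Nat.card_eq_fintype_card, Fintype.card_subtype, levSet,
        Finset.filter_filter]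
      congr 1
      ext y
      simp only [Finset.mem_filter, Finset.mem_univ, true_and, and_assoc, and_iff_right_iff_imp]
      intro hy h0
      exact ht (by rw [← hy.2, h0, QuadraticMap.polar_zero_left]))
  rw [h2, h1]
  have hq : 1 ≤ Fintype.card F := Fintype.card_pos
  push_cast [Nat.cast_sub hq]
  simp
  ring

/-- The trace of a root element of the complement on the fixed space of the radical. -/
theorem Single.trace_fix (C : Cfg Q S u v) (hψ : ψ ≠ 1)
    (P : Pairs Q (perp Q S u v) e e' b b') {c : F} (hs : Single ρ ψ u v c)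
    (hph : ∀ y ∈ perp Q S u v, y ≠ 0 → Q y = c → B y e = 0 → B y b = 0 →
      ρ (el Q S b e) * pr ρ ψ u v y = pr ρ ψ u v y) :
    LinearMap.trace ℂ V (ρ (el Q S b e) * pr ρ ψ u v 0) =
      (mult ρ ψ u v 0 : ℂ) - ((Fintype.card F *
        Nat.card (perp Q (perp Q (perp Q S u v) e e') b b') : ℕ) : ℂ) := by
  classical
  set W := perp Q S u v with hW
  have hbS : b ∈ S := perp_le P.hc
  have heS : e ∈ S := perp_le P.ha
  set X := el Q S b e with hX
  have hXv : (X : Cfsg.isometryGroup F ⇑Q) = eich b e P.p'.hu P.be :=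
    el_val P.p'.hu P.be hbS heS
  have hXu : act X.1 u = u := by rw [hXv]; exact act_eich_fix _ _ (perp_left P.hc) (perp_left P.ha)
  have hXw : act X.1 v = v := by
    rw [hXv]; exact act_eich_fix _ _ (perp_right P.hc) (perp_right P.ha)
  have hfix : ∀ y : W, act X.1 y.1 = y.1 ↔ B y.1 e = 0 ∧ B y.1 b = 0 := by
    intro y
    refine ⟨fun hy => ?_, fun hy => by rw [hXv]; exact act_eich_fix _ _ hy.2 hy.1⟩
    rw [hXv, act_eich, P.he, zero_mul, zero_smul, sub_zero] at hy
    have h1 : B y.1 b • e - B y.1 e • b = 0 := by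
      rw [add_sub_assoc, add_eq_left] at hy; exact hy
    have h2 := congrArg (fun x => B x e') h1
    have h3 := congrArg (fun x => B x b') h1
    simp [QuadraticMap.polar_sub_left, QuadraticMap.polar_smul_left, P.p.huv, P.p'.huv, P.ac',
      QuadraticMap.polar_comm _ b e', P.a'c] at h2 h3
    exact ⟨h3, h2⟩
  have hterm : ∀ y : W, y.1 ≠ 0 → LinearMap.trace ℂ V (ρ X * pr ρ ψ u v y.1) =
      if Q y.1 = c ∧ B y.1 e = 0 ∧ B y.1 b = 0 then 1 else 0 := by
    intro y hy0
    by_cases hf : act X.1 y.1 = y.1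
    · by_cases hc : Q y.1 = c
      · rw [if_pos ⟨hc, (hfix y).1 hf⟩, hX, hph y.1 y.2 hy0 hc ((hfix y).1 hf).1 ((hfix y).1 hf).2,
          C.trace_pr ρ hψ y.2, (hs y.1 y.2 hy0).1 hc, Nat.cast_one]
      · have h0 : pr ρ ψ u v y.1 = 0 := by
          have := (hs y.1 y.2 hy0).2 hc
          rw [mult, Submodule.finrank_eq_zero, LinearMap.range_eq_bot] at this
          exact this
        rw [if_neg (fun h' => hc h'.1), h0, mul_zero, map_zero]
    · rw [if_neg (fun h' => hf ((hfix y).2 h'.2)), C.trace_moved ρ hψ hXu hXw y.2 hf]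
  have hsum := C.trace_eq ρ hψ (ρ X)
  rw [← trace_root_conj ρ C P,
    hs.trace_root ρ C hψ (e' := e') P.p P.ha P.ha',
    ← Finset.add_sum_erase _ _ (Finset.mem_univ (0 : W))] at hsum
  have hrest : ∑ y ∈ Finset.univ.erase (0 : W), LinearMap.trace ℂ V (ρ X * pr ρ ψ u v y.1) =
      (((levSet Q S u v c).filter fun y => B y.1 e = 0 ∧ B y.1 b = 0).card : ℂ) := by
    rw [Finset.sum_congr rfl fun y hy => hterm y fun h0 =>
      Finset.ne_of_mem_erase hy (Subtype.ext h0), Finset.sum_boole, levSet, Finset.filter_filter]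
    congr 2
    ext y
    simp only [Finset.mem_filter, Finset.mem_erase, Finset.mem_univ, ne_eq, true_and, and_true, ZeroMemClass.coe_eq_zero]
    tauto
  rw [hrest, Submodule.coe_zero] at hsum
  obtain ⟨n1, -⟩ := fibre_sums (ψ := ψ) (levSet Q S u v c) (fun y => B y.1 e)
    (Nat.card (perp Q W e e')) hψ (fun t ht => by
      rw [← card_slice P.p P.ha P.ha' c ht, Nat.card_eq_fintype_card, Fintype.card_subtype,
        levSet, Finset.filter_filter]
      congr 1
      ext y
      simp only [Finset.mem_filter, Finset.mem_univ, true_and, and_assoc, and_iff_right_iff_imp]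
      intro hy h0
      exact ht (by rw [← hy.2, h0, QuadraticMap.polar_zero_left]))
  obtain ⟨n2, -⟩ := fibre_sums (ψ := ψ) ((levSet Q S u v c).filter fun y => B y.1 e = 0)
    (fun y => B y.1 b) (Fintype.card F * Nat.card (perp Q (perp Q W e e') b b')) hψ (fun t ht => by
      rw [← card_slice₂ P c ht, Nat.card_eq_fintype_card, Fintype.card_subtype, levSet,
        Finset.filter_filter, Finset.filter_filter]
      congr 1
      ext y
      simp only [Finset.mem_filter, Finset.mem_univ, true_and, and_assoc, and_iff_right_iff_imp]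
      intro hy h0
      exact ht (by rw [← hy.2.2, h0, QuadraticMap.polar_zero_left]))
  rw [Finset.filter_filter] at n2
  have hsplit : Nat.card (perp Q W e e') =
      Fintype.card F * (Fintype.card F * Nat.card (perp Q (perp Q W e e') b b')) :=
    card_split P.p' (mem_perp.2 ⟨P.hc, P.ac, P.a'c⟩) (mem_perp.2 ⟨P.hc', P.ac', P.a'c'⟩)
  rw [hs.finrank_eq ρ C hψ, n1, n2, hsplit] at hsum
  have hq : 1 ≤ Fintype.card F := Fintype.card_pos
  push_cast [Nat.cast_sub hq] at hsum ⊢
  linear_combination -hsum

end Cfsg.Agent.SimpleFacts.MinDegOrth
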