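import Mathlib
import Cfsg.Agent.SimpleFacts.MinDegOrth.Trace
import Cfsg.Agent.SimpleFacts.MinDegOrth.Roots
import Cfsg.Agent.SimpleFacts.MinDegOrth.Arith

/-!
The facts used at each step of the induction: the characters that occur, the fixed space, and the
divisibility.
-/

set_option autoImplicit false
set_option linter.unusedSectionVars false
set_option linter.unusedSimpArgs false

namespace Cfsg.Agent.SimpleFacts.MinDegOrth

open Cfsg.Agent.Forms Cfsg.Agent.Forms.QuadStd Cfsg.Agent.Forms.Reflections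
open Cfsg.Agent.Classical.Orth

variable {F : Type*} [Field F] [Fintype F] {ι : Type} [Fintype ι] [DecidableEq ι]
variable {Q : QuadraticForm F (ι → F)}

local notation "Vec" => (ι → F)
local notation "B" => QuadraticMap.polar Q

variable {S : Submodule F (ι → F)} {u v : ι → F}
variable {V : Type*} [AddCommGroup V] [Module ℂ V] [FiniteDimensional ℂ V]
variable (ρ : Representation ℂ (eGroup Q S) V) {ψ : AddChar F ℂ} {ε : ℤ} {h : ℕ}

theorem exists_psi_ne : ∃ ψ : AddChar F ℂ, ψ ≠ 1 := by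
  obtain ⟨ψ, hψ⟩ := AddChar.exists_apply_ne_zero.2 (one_ne_zero (α := F))
  exact ⟨ψ, fun e => hψ (by rw [e]; rfl)⟩

theorem exists_square_ne (h4 : 4 ≤ Fintype.card F) : ∃ s : F, s ≠ 0 ∧ s * s ≠ 1 := by
  classical
  by_contra hcon
  push Not at hcon
  have hsub : (Finset.univ : Finset F) ⊆ {0, 1, -1} := by
    intro s _
    by_cases hs : s = 0
    · simp [hs]
    · rcases mul_self_eq_one_iff.1 (hcon s hs) with e | e <;> simp [e]
  have := (Finset.card_le_card hsub).trans Finset.card_le_three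
  rw [Finset.card_univ] at this
  omega

theorem Lev.sing_count {m : ℕ} {T : Submodule F Vec} (L : Lev Q ε (m + 1) T) :
    (cnt Q T 0 : ℤ) - 1 =
      ((Fintype.card F : ℤ) ^ (m + 1) - ε) * ((Fintype.card F : ℤ) ^ m + ε) := by
  have hq : (Fintype.card F : ℤ) ≠ 0 := by exact_mod_cast Fintype.card_ne_zero
  refine mul_left_cancel₀ hq ?_
  rw [mul_sub, L.levZero]
  rcases L.sign with e | e <;> subst e <;> ring

theorem card_levSet_zero {m : ℕ} (L : Lev Q ε (m + 1) (perp Q S u v)) :
    ((levSet Q S u v 0).card : ℤ) =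
      ((Fintype.card F : ℤ) ^ (m + 1) - ε) * ((Fintype.card F : ℤ) ^ m + ε) := by
  classical
  rw [← L.sing_count, ← card_levSet 0, if_pos rfl]
  push_cast
  ring

theorem card_levSet_ne {m : ℕ} (L : Lev Q ε (m + 1) (perp Q S u v)) {c : F} (hc : c ≠ 0) :
    ((levSet Q S u v c).card : ℤ) =
      (Fintype.card F : ℤ) ^ (2 * m + 1) - ε * (Fintype.card F : ℤ) ^ m := by
  classical
  have h := card_levSet (Q := Q) (S := S) (u := u) (v := v) c
  rw [if_neg hc, add_zero] at h
  have hq : (Fintype.card F : ℤ) ≠ 0 := by exact_mod_cast Fintype.card_ne_zero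
  refine mul_left_cancel₀ hq ?_
  rw [h, L.levNe c hc]
  ring

theorem levSet_bound (hε : ε = 1 → 4 ≤ Fintype.card F) (L : Lev Q ε (h + 2) (perp Q S u v))
    (c : F) :
    dg (Fintype.card F) ε (h + 1) ≤ 2 * ((levSet Q S u v c).card : ℤ) := by
  obtain ⟨h1, h2⟩ := level_bounds (q := Fintype.card F) L.sign Fintype.one_lt_card hε h
  by_cases hc : c = 0
  · rw [hc, card_levSet_zero L]; exact h1
  · rw [card_levSet_ne L hc, show 2 * (h + 1) + 1 = 2 * h + 3 by ring]; exact h2

/-- The multiplicity depends only on the value. -/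
theorem mult_level (C : Cfg Q S u v) (hψ : ψ ≠ 1) (L : Lev Q ε (h + 2) (perp Q S u v))
    {e e' : Vec} (hp : IsPair Q e e') (he : e ∈ perp Q S u v) (he' : e' ∈ perp Q S u v)
    {y y' : Vec} (hy : y ∈ perp Q S u v) (hy' : y' ∈ perp Q S u v) (hy0 : y ≠ 0) (hy0' : y' ≠ 0)
    (hQ : Q y = Q y') : mult ρ ψ u v y = mult ρ ψ u v y' := by
  obtain ⟨g, hg, hgy⟩ := vec_move hp he he' (perp_nd C.p C.hu C.hv C.nd)
    (L.perp hp he he').exists_value hy hy' hy0 hy0' hQ
  have h := C.mult_move ρ hψ (g := ⟨g, eGroup_mono perp_le hg⟩) one_ne_zero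
    (by rw [one_smul]; exact (act_fix_perp C hg).1)
    (by rw [inv_one, one_smul]; exact (act_fix_perp C hg).2) hy
  rw [inv_one, one_smul, show act (⟨g, eGroup_mono perp_le hg⟩ : eGroup Q S).1 y = y' from hgy] at h
  exact h.symm

/-- Either the bound holds, or the characters of one value occur, each once. -/
theorem single_or_bound (C : Cfg Q S u v) (hψ : ψ ≠ 1) (L : Lev Q ε (h + 2) (perp Q S u v))
    (hε : ε = 1 → 4 ≤ Fintype.card F) {e e' : Vec} (hp : IsPair Q e e')
    (he : e ∈ perp Q S u v) (he' : e' ∈ perp Q S u v) (hne : ∃ g, ρ g ≠ 1) :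
    dg (Fintype.card F) ε (h + 1) ≤ Module.finrank ℂ V ∨
      ∃ c : F, Single ρ ψ u v c ∧ (ε = 1 → c = 0) := by
  classical
  set W := perp Q S u v with hW
  obtain ⟨y₀, hy₀, hy₀0, hm₀⟩ : ∃ y ∈ W, y ≠ 0 ∧ mult ρ ψ u v y ≠ 0 := by
    by_contra hcon
    push Not at hcon
    obtain ⟨g, hg⟩ := hne
    refine hg (trivial_of_radical ρ C L.exists_value (fun w hw => ?_) g)
    have hsum : pr ρ ψ u v (0 : Vec) = 1 := by
      rw [← C.sum_pr ρ (ψ := ψ) hψ, Finset.sum_eq_single (0 : W)]
      · rfl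
      · intro y _ hy
        have h0 := hcon y.1 y.2 (fun e0 => hy (Subtype.ext e0))
        rw [mult, Submodule.finrank_eq_zero, LinearMap.range_eq_bot] at h0
        exact h0
      · intro h'; exact absurd (Finset.mem_univ _) h'
    have h' := C.el_mul_pr ρ (ψ := ψ) hw 0
    rwa [hsum, mul_one, QuadraticMap.polar_zero_left, AddChar.map_zero_eq_one, one_smul] at h'
  -- a level whose multiplicity is positive contributes its size
  have hlev : ∀ c : F, ∀ y ∈ W, y ≠ 0 → Q y = c →
      ∑ z ∈ levSet Q S u v c, mult ρ ψ u v z.1 = (levSet Q S u v c).card * mult ρ ψ u v y := by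
    intro c y hy hy0 hQ
    rw [Finset.sum_congr rfl (g := fun _ => mult ρ ψ u v y) fun z hz => by
      simp only [levSet, Finset.mem_filter, Finset.mem_univ, true_and] at hz
      exact mult_level ρ C hψ L hp he he' z.2 hy hz.1 hy0 (hz.2.trans hQ.symm), Finset.sum_const,
      smul_eq_mul]
  have htot := C.sum_mult ρ (ψ := ψ) hψ
  by_cases hsingle : Single ρ ψ u v (Q y₀)
  · by_cases hc : ε = 1 ∧ Q y₀ ≠ 0
    · -- another level with the same multiplicity
      exfalso
      obtain ⟨s, hs, hs2⟩ := exists_square_ne (hε hc.1)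
      have hP : Pairs Q S u v e e' := ⟨C.p, hp, perp_left he, perp_left he', perp_right he,
        perp_right he', C.hu, C.hv, perp_le he, perp_le he'⟩
      obtain ⟨g, hg, gu, -, gv, -, -⟩ := torus hP hs
      have hy' : s⁻¹ • act g y₀ ∈ W :=
        W.smul_mem _ (C.act_perp (g := ⟨g, hg⟩) hs gu gv hy₀)
      have hm := C.mult_move ρ (ψ := ψ) hψ (g := ⟨g, hg⟩) hs gu gv hy₀
      have hQ' : Q (s⁻¹ • act g y₀) = s⁻¹ * s⁻¹ * Q y₀ := by rw [map_smul', act_map]
      have hne' : Q (s⁻¹ • act g y₀) ≠ Q y₀ := fun h' => by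
        rw [hQ'] at h'
        refine hs2 ?_
        have h1 := mul_right_cancel₀ hc.2 (h'.trans (one_mul _).symm)
        field_simp at h1
        linear_combination -h1
      have h0 : s⁻¹ • act g y₀ ≠ 0 := fun h' => by
        rw [h', QuadraticMap.map_zero] at hQ'
        rcases mul_eq_zero.1 hQ'.symm with h1 | h1
        · exact inv_ne_zero hs (mul_self_eq_zero.1 h1)
        · exact hc.2 h1
      have := (hsingle _ hy' h0).2 hne'
      rw [show act (⟨g, hg⟩ : eGroup Q S).1 y₀ = act g y₀ from rfl] at hm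
      exact hm₀ (hm.symm.trans this)
    · refine Or.inr ⟨_, hsingle, fun e1 => ?_⟩
      by_contra h0
      exact hc ⟨e1, h0⟩
  · left
    simp only [Single, not_forall] at hsingle
    obtain ⟨y, hy, hy0, hy'⟩ := hsingle
    rw [← htot]
    by_cases hQ : Q y = Q y₀
    · -- multiplicity at least two
      have hm : mult ρ ψ u v y = mult ρ ψ u v y₀ := mult_level ρ C hψ L hp he he' hy hy₀ hy0 hy₀0 hQ
      have hm2 : 2 ≤ mult ρ ψ u v y₀ := by
        by_contra h2
        exact hy' ⟨fun _ => by omega, fun h3 => absurd hQ h3⟩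
      have h1 : (levSet Q S u v (Q y₀)).card * 2 ≤ ∑ z : W, mult ρ ψ u v z.1 := by
        refine le_trans (Nat.mul_le_mul_left _ hm2) ?_
        rw [← hlev _ y₀ hy₀ hy₀0 rfl]
        exact Finset.sum_le_sum_of_subset (Finset.subset_univ _)
      have h2 := levSet_bound hε L (Q y₀)
      have h3 : ((levSet Q S u v (Q y₀)).card : ℤ) * 2 ≤
          ((∑ z : W, mult ρ ψ u v z.1 : ℕ) : ℤ) := by exact_mod_cast h1
      linarith
    · -- two levels
      have hm : mult ρ ψ u v y ≠ 0 := fun h0 => hy' ⟨fun h3 => absurd h3 hQ, fun _ => h0⟩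
      have hd : Disjoint (levSet Q S u v (Q y₀)) (levSet Q S u v (Q y)) := by
        rw [Finset.disjoint_left]
        intro z hz hz'
        simp only [levSet, Finset.mem_filter] at hz hz'
        exact hQ (hz'.2.2.symm.trans hz.2.2)
      have h1 : (levSet Q S u v (Q y₀)).card + (levSet Q S u v (Q y)).card ≤
          ∑ z : W, mult ρ ψ u v z.1 := by
        refine le_trans ?_ (Finset.sum_le_sum_of_subset (Finset.subset_univ
          (levSet Q S u v (Q y₀) ∪ levSet Q S u v (Q y))))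
        rw [Finset.sum_union hd, hlev _ y₀ hy₀ hy₀0 rfl, hlev _ y hy hy0 rfl]
        exact add_le_add (Nat.le_mul_of_pos_right _ (Nat.pos_of_ne_zero hm₀))
          (Nat.le_mul_of_pos_right _ (Nat.pos_of_ne_zero hm))
      have h2 := levSet_bound hε L (Q y₀)
      have h2' := levSet_bound hε L (Q y)
      have h3 : ((levSet Q S u v (Q y₀)).card : ℤ) + (levSet Q S u v (Q y)).card ≤
          ((∑ z : W, mult ρ ψ u v z.1 : ℕ) : ℤ) := by exact_mod_cast h1
      linarith

/-- The phases for the minus type. -/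
theorem phase_minus (C : Cfg Q S u v) (hψ : ψ ≠ 1) (L : Lev Q (-1) (h + 2) (perp Q S u v))
    {e e' b b' : Vec} (P : Pairs Q (perp Q S u v) e e' b b') {y : Vec} (hy : y ∈ perp Q S u v)
    (hye : B y e = 0) (hyb : B y b = 0) (hm : mult ρ ψ u v y = 1)
    (hh : 2 ≤ h ∨ (h = 1 ∧ Q y = 0)) :
    ρ (el Q S b e) * pr ρ ψ u v y = pr ρ ψ u v y := by
  set W := perp Q S u v with hW
  have hc : b ∈ perp Q W e e' := mem_perp.2 ⟨P.hc, P.ac, P.a'c⟩
  have hc' : b' ∈ perp Q W e e' := mem_perp.2 ⟨P.hc', P.ac', P.a'c'⟩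
  have L2 := (L.perp P.p P.ha P.ha').perp P.p' hc hc'
  set z := proj Q b b' (proj Q e e' y) with hz
  have hzW : z ∈ perp Q (perp Q W e e') b b' :=
    proj_mem_perp P.p' hc hc' (proj_mem_perp P.p P.ha P.ha' hy)
  have hyb0 : B (proj Q e e' y) b = 0 := by
    simp [proj, QuadraticMap.polar_sub_left, QuadraticMap.polar_smul_left, P.ac, P.a'c, hyb]
  have hdec : y = B y e' • e + B (proj Q e e' y) b' • b + z := by
    have h2 := proj_add (Q := Q) b b' (proj Q e e' y)
    rw [hyb0, zero_smul, add_zero, ← hz] at h2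
    conv_lhs => rw [proj_add (Q := Q) e e' y, hye, zero_smul, add_zero, h2]
    abel
  have hperp : ∀ w ∈ perp Q (perp Q W e e') b b', B z w = 0 → B y w = 0 := by
    intro w hw hzw
    rw [hdec, QuadraticMap.polar_add_left, QuadraticMap.polar_add_left,
      QuadraticMap.polar_smul_left, QuadraticMap.polar_smul_left, perp_left (perp_le hw),
      perp_left hw, hzw]
    simp
  have hcond : (z = 0 ∧ 1 < Nat.card (perp Q (perp Q W e e') b b')) ∨
      Fintype.card F ^ 2 < Nat.card (perp Q (perp Q W e e') b b') := by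
    rw [L2.card]
    rcases hh with h2 | ⟨rfl, hQy⟩
    · exact Or.inr (Nat.pow_lt_pow_right Fintype.one_lt_card (by omega))
    · refine Or.inl ⟨L2.no_sing hzW ?_, Nat.one_lt_pow (by norm_num) Fintype.one_lt_card⟩
      rw [hdec] at hQy
      simpa [map_add', map_smul', QuadraticMap.polar_add_left, QuadraticMap.polar_smul_left,
        P.p.hu, P.p'.hu, P.ac, perp_left (perp_le hzW), perp_left hzW] using hQy
  obtain ⟨x, hx, x', hx', hzx, hzx', hxx⟩ := exists_comm_vectors L2.nd hzW hcond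
  exact phase_comm ρ C hψ P hy hye hyb hm hx hx' (hperp x hx hzx) (hperp x' hx' hzx') hxx

/-- The fixed space of the radical is a non-trivial representation. -/
theorem fix_nontriv (C : Cfg Q S u v) (hψ : ψ ≠ 1)
    {e e' b b' : Vec} (P : Pairs Q (perp Q S u v) e e' b b') {c : F} (hs : Single ρ ψ u v c)
    (hph : ∀ y ∈ perp Q S u v, y ≠ 0 → Q y = c → B y e = 0 → B y b = 0 →
      ρ (el Q S b e) * pr ρ ψ u v y = pr ρ ψ u v y) :
    ∃ g, fixRep ρ (ψ := ψ) C g ≠ 1 := by
  by_contra hcon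
  push Not at hcon
  have hfix := fixRep_triv ρ C hψ (hcon (el Q (perp Q S u v) b e))
  rw [show Subgroup.inclusion (eGroup_mono perp_le) (el Q (perp Q S u v) b e) = el Q S b e from
    Subtype.ext (by
      rw [Subgroup.coe_inclusion, el_val P.p'.hu P.be P.hc P.ha,
        el_val P.p'.hu P.be (perp_le P.hc) (perp_le P.ha)])] at hfix
  have h' := hs.trace_fix ρ C hψ P hph
  rw [hfix, C.trace_pr ρ hψ (perp Q S u v).zero_mem] at h'
  have h0 : ((Fintype.card F *
      Nat.card (perp Q (perp Q (perp Q S u v) e e') b b') : ℕ) : ℂ) = 0 := by linear_combination h'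
  exact absurd (Nat.cast_eq_zero.1 h0) (Nat.mul_ne_zero Fintype.card_ne_zero Nat.card_pos.ne')

/-- The divisibility satisfied by the degree of an irreducible representation of this kind. -/
theorem degree_dvd [ρ.IsIrreducible] (LS : Lev Q ε (h + 3) S) (C : Cfg Q S u v) (hψ : ψ ≠ 1)
    {e e' : Vec} (hp : IsPair Q e e') (he : e ∈ perp Q S u v) (he' : e' ∈ perp Q S u v) {c : F}
    (hs : Single ρ ψ u v c) :
    (Module.finrank ℂ V : ℤ) ∣ dg (Fintype.card F) ε (h + 1) *
      ((Fintype.card F : ℤ) ^ (2 * h + 4) - 1) * (Fintype.card F : ℤ) ^ (2 * h + 2) := by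
  set q := Fintype.card F with hq
  have L : Lev Q ε (h + 2) (perp Q S u v) := LS.perp C.p C.hu C.hv
  have htr := hs.trace_root ρ C hψ hp he he'
  rw [(L.perp hp he he').card, ← hq] at htr
  have hd := dvd_rootSet ρ C L.exists_value (L.perp hp he he').exists_value hp he he' htr
  have hcard := card_rootSet C L.exists_value (L.perp hp he he').exists_value hp he he'
  have h1 : 1 ≤ q ^ 2 := Nat.one_le_pow _ _ Fintype.card_pos
  have hn1 : 1 ≤ cnt Q S 0 := LS.cnt_pos 0
  have hn2 : 1 ≤ cnt Q (perp Q S u v) 0 := L.cnt_pos 0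
  have hcard' : ((rootSet Q S).card : ℤ) * ((q : ℤ) ^ 2 - 1) =
      ((cnt Q S 0 : ℤ) - 1) * ((cnt Q (perp Q S u v) 0 : ℤ) - 1) := by
    have := congrArg (fun x : ℕ => (x : ℤ)) hcard
    rw [Nat.cast_mul, Nat.cast_mul, Nat.cast_sub h1, Nat.cast_sub hn1, Nat.cast_sub hn2] at this
    push_cast at this
    exact this
  rw [LS.sing_count, L.sing_count] at hcard'
  have hne : ((q : ℤ) ^ 2 - 1) ≠ 0 := by
    have h2 : (2 : ℤ) ≤ q := by exact_mod_cast (Fintype.one_lt_card : 1 < q)
    nlinarith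
  have hkey : ((rootSet Q S).card : ℤ) * q =
      dg q ε (h + 1) * ((q : ℤ) ^ (2 * h + 4) - 1) := by
    refine mul_right_cancel₀ hne ?_
    have hc := dg_closed (q := q) L.sign (h + 1)
    rw [show (q : ℤ) ^ (h + 1 + 2) = (q : ℤ) ^ (h + 3) from rfl] at hc
    rcases L.sign with e0 | e0 <;> subst e0 <;>
      linear_combination (q : ℤ) * hcard' - ((q : ℤ) ^ (2 * h + 4) - 1) * hc
  have hd' := Int.natCast_dvd_natCast.2 hd
  refine hd'.trans (dvd_of_eq ?_)
  push_cast
  rw [← hkey]
  ring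

/-- A non-trivial representation has a non-trivial irreducible constituent. -/
theorem exists_irred_part (hne : ∃ g, ρ g ≠ 1) :
    ∃ (U : Submodule ℂ V) (hU : Cfsg.Agent.Characters.IsInvariantUnder ρ U),
      (Cfsg.Agent.Characters.subRep ρ U hU).IsIrreducible ∧
        ∃ g, Cfsg.Agent.Characters.subRep ρ U hU g ≠ 1 := by
  let Fix : Submodule ℂ V := ⨅ g : eGroup Q S, LinearMap.ker (ρ g - 1)
  have hFix : ∀ x, x ∈ Fix ↔ ∀ g, ρ g x = x := fun x => by simp [Fix, sub_eq_zero]
  have hinv : Cfsg.Agent.Characters.IsInvariantUnder ρ Fix := fun g x hx => by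
    rw [(hFix x).1 hx g]; exact hx
  obtain ⟨D, hD, hc⟩ := Cfsg.Agent.Characters.exists_invariant_compl ρ hinv
  have hD0 : D ≠ ⊥ := by
    intro h0
    obtain ⟨g, hg⟩ := hne
    refine hg (LinearMap.ext fun x => ?_)
    have htop : Fix = ⊤ := by
      have := hc.sup_eq_top
      rwa [h0, sup_bot_eq] at this
    exact (hFix x).1 (htop ▸ Submodule.mem_top) g
  obtain ⟨U, hU, hle, hU0, hirr⟩ := Cfsg.Agent.Characters.exists_irreducible_le ρ hD hD0
  refine ⟨U, hU, hirr, ?_⟩
  by_contra hcon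
  push Not at hcon
  refine hU0 (le_bot_iff.1 fun x hx => hc.disjoint.le_bot ⟨(hFix x).2 fun g => ?_, hle hx⟩)
  exact congrArg Subtype.val (LinearMap.congr_fun (hcon g) ⟨x, hx⟩)

end Cfsg.Agent.SimpleFacts.MinDegOrth
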