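import Mathlib
import Cfsg.Agent.SimpleFacts.MinDegOrth.Steps

/-!
Non-degenerate subspaces of odd dimension: numbers of vectors of each value, and an element acting as
`-1` on a hyperplane.
-/

set_option autoImplicit false
set_option linter.unusedSectionVars false
set_option linter.unusedSimpArgs false

namespace Cfsg.Agent.SimpleFacts.MinDegOrth

open Cfsg.Agent.Forms Cfsg.Agent.Forms.QuadStd Cfsg.Agent.Forms.Reflections
open Cfsg.Agent.Forms.PlusStd
open Cfsg.Agent.Classical.Orth Cfsg.Agent.Classical.OrthCount Cfsg.Agent.Classical.OrthForms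

variable {F : Type*} [Field F] [Fintype F] {ι : Type} [Fintype ι] [DecidableEq ι]
variable {Q : QuadraticForm F (ι → F)}

local notation "Vec" => (ι → F)
local notation "B" => QuadraticMap.polar Q

/-- The number of square roots of `c / d`. -/
noncomputable def sqc (d c : F) : ℕ := Nat.card {t : F // t * t * d = c}

theorem sqc_zero {d : F} (hd : d ≠ 0) : sqc d 0 = 1 := by
  rw [sqc, Nat.card_eq_one_iff_unique]
  exact ⟨⟨fun a b => Subtype.ext ((mul_self_eq_zero.1 ((mul_eq_zero.1 a.2).resolve_right hd)).trans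
    (mul_self_eq_zero.1 ((mul_eq_zero.1 b.2).resolve_right hd)).symm)⟩, ⟨⟨0, by simp⟩⟩⟩

/-- A space of dimension `2m + 1`. -/
structure OLev (Q : QuadraticForm F (ι → F)) (d : F) (m : ℕ) (S : Submodule F (ι → F)) : Prop where
  two : (2 : F) ≠ 0
  d0 : d ≠ 0
  nd : ND Q S
  card : Nat.card S = Fintype.card F ^ (2 * m + 1)
  lev : ∀ c, (cnt Q S c : ℤ) = (Fintype.card F : ℤ) ^ (2 * m) +
    (Fintype.card F : ℤ) ^ m * ((sqc d c : ℤ) - 1)

theorem OLev.perp {d : F} {m : ℕ} {S : Submodule F Vec} (L : OLev Q d (m + 1) S) {u v : Vec}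
    (hp : IsPair Q u v) (hu : u ∈ S) (hv : v ∈ S) : OLev Q d m (MinDegOrth.perp Q S u v) := by
  have hq0 : 0 < Fintype.card F := Fintype.card_pos
  have hW : Nat.card (MinDegOrth.perp Q S u v) = Fintype.card F ^ (2 * m + 1) := by
    have h1 := card_split hp hu hv
    rw [L.card] at h1
    refine Nat.eq_of_mul_eq_mul_left (Nat.mul_pos hq0 hq0) ?_
    rw [mul_assoc, ← h1]; ring
  refine ⟨L.two, L.d0, perp_nd hp hu hv L.nd, hW, fun c => ?_⟩
  have h1 := L.lev c
  rw [cnt_split hp hu hv, hW] at h1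
  obtain ⟨q, hq⟩ : ∃ q, q = Fintype.card F := ⟨_, rfl⟩
  rw [← hq] at h1 hq0 ⊢
  push_cast [Nat.cast_sub (show 1 ≤ q from hq0)] at h1
  refine mul_left_cancel₀ (show (q : ℤ) ≠ 0 by exact_mod_cast hq0.ne') ?_
  linear_combination h1

theorem OLev.cnt_zero {d : F} {m : ℕ} {S : Submodule F Vec} (L : OLev Q d m S) :
    (cnt Q S 0 : ℤ) = (Fintype.card F : ℤ) ^ (2 * m) := by
  rw [L.lev, sqc_zero L.d0]; simp

theorem OLev.cnt_pos {d : F} {m : ℕ} {S : Submodule F Vec} (L : OLev Q d (m + 1) S) (c : F) :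
    0 < cnt Q S c := by
  have h := L.lev c
  have hq := Lev.one_lt (F := F)
  have hp1 : (Fintype.card F : ℤ) ^ (m + 1) < (Fintype.card F : ℤ) ^ (2 * (m + 1)) :=
    pow_lt_pow_right₀ hq (by omega)
  have hp0 : (0 : ℤ) ≤ (Fintype.card F : ℤ) ^ (m + 1) := by positivity
  have hs : (0 : ℤ) ≤ (Fintype.card F : ℤ) ^ (m + 1) * (sqc d c : ℤ) :=
    mul_nonneg hp0 (Int.natCast_nonneg _)
  refine Nat.pos_of_ne_zero fun h0 => ?_
  rw [h0, Nat.cast_zero] at h
  linarith

theorem OLev.exists_value {d : F} {m : ℕ} {S : Submodule F Vec} (L : OLev Q d (m + 1) S) (c : F) :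
    ∃ w ∈ S, Q w = c := by
  obtain ⟨⟨w, hw⟩, e⟩ := (Nat.card_pos_iff.1 (L.cnt_pos c)).1
  exact ⟨w, hw, e⟩

theorem OLev.exists_pair {d : F} {m : ℕ} {S : Submodule F Vec} (L : OLev Q d (m + 1) S) :
    ∃ u v, u ∈ S ∧ v ∈ S ∧ IsPair Q u v := by
  have hone : 1 < cnt Q S 0 := by
    have h := L.cnt_zero
    have hq := Lev.one_lt (F := F)
    have h1 : (1 : ℤ) < (Fintype.card F : ℤ) ^ (2 * (m + 1)) := one_lt_pow₀ hq (by omega)
    rw [← h] at h1
    exact_mod_cast h1
  have : Nontrivial {x : S // Q x.1 = 0} := (Finite.one_lt_card_iff_nontrivial).1 hone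
  obtain ⟨⟨⟨u, hu⟩, hQ⟩, hne⟩ := exists_ne (⟨0, by simp⟩ : {x : S // Q x.1 = 0})
  obtain ⟨v, hv, hp⟩ := exists_partner L.nd hu (fun e => hne (Subtype.ext (Subtype.ext e))) hQ
  exact ⟨u, v, hu, hv, hp⟩

theorem OLev.line {d : F} {S : Submodule F Vec} (L : OLev Q d 0 S) :
    ∃ x ∈ S, Q x ≠ 0 ∧ ∀ z ∈ S, ∃ t : F, z = t • x := by
  have hcard : Nat.card S = Fintype.card F := by rw [L.card, Nat.mul_zero, zero_add, pow_one]
  have : Nontrivial S := Finite.one_lt_card_iff_nontrivial.1 (hcard ▸ Fintype.one_lt_card)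
  obtain ⟨⟨x, hx⟩, hx0⟩ := exists_ne (0 : S)
  have hx0' : x ≠ 0 := fun e => hx0 (Subtype.ext e)
  have hspan : ∀ z ∈ S, ∃ t : F, z = t • x := by
    have hbij : Function.Bijective (fun t : F => (⟨t • x, S.smul_mem t hx⟩ : S)) := by
      rw [Fintype.bijective_iff_injective_and_card]
      refine ⟨fun a b h => smul_left_injective F hx0' (congrArg Subtype.val h), ?_⟩
      rw [← Nat.card_eq_fintype_card, ← Nat.card_eq_fintype_card, hcard,
        Nat.card_eq_fintype_card]
    intro z hz
    obtain ⟨t, ht⟩ := hbij.2 ⟨z, hz⟩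
    exact ⟨t, (congrArg Subtype.val ht).symm⟩
  refine ⟨x, hx, fun h0 => hx0' (L.nd x hx fun z hz => ?_), hspan⟩
  obtain ⟨t, rfl⟩ := hspan z hz
  rw [QuadraticMap.polar_smul_right, polar_self_zero h0, smul_zero]

theorem lev_oddQ (h2 : (2 : F) ≠ 0) (n : ℕ) : OLev (oddQ F n) (1 : F) n ⊤ := by
  classical
  have hlev : ∀ (m : ℕ) (c : F), (levels ⇑(oddQ F m) c : ℤ) = (Fintype.card F : ℤ) ^ (2 * m) +
      (Fintype.card F : ℤ) ^ m * ((sqc (1 : F) c : ℤ) - 1) := by
    intro m c
    induction m with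
    | zero =>
      have h : levels ⇑(oddQ F 0) c = sqc (1 : F) c := by
        refine Nat.card_congr
          { toFun := fun v => ⟨v.1 (Sum.inl ()), ?_⟩
            invFun := fun t => ⟨Sum.elim (fun _ => t.1) 0, ?_⟩
            left_inv := fun v => Subtype.ext (funext fun i => ?_)
            right_inv := fun t => rfl }
        · conv_rhs => rw [← v.2, oddQ_apply, show v.1 ∘ Sum.inr = 0 from
            funext fun i => isEmptyElim i, QuadraticMap.map_zero, add_zero]
          ring
        · rw [oddQ_apply, Sum.elim_comp_inr, QuadraticMap.map_zero, add_zero]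
          conv_rhs => rw [← t.2]
          simp [sq]
        · rcases i with i | i
          · rfl
          · exact isEmptyElim i
      rw [h]; ring
    | succ m ih =>
      rw [levels_congr (oddIdx m) _ _ (odd_split m), levels_hypQ, Fintype.card_sum, Fintype.card_unit,
        Fintype.card_sum, Fintype.card_fin]
      push_cast [Nat.cast_sub (show 1 ≤ Fintype.card F from Fintype.card_pos)]
      rw [ih]
      ring
  refine ⟨h2, one_ne_zero, nondeg_top (oddQ_nondeg h2 n), ?_, fun c => ?_⟩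
  · rw [Nat.card_congr (Submodule.topEquiv (R := F)).toEquiv, Nat.card_eq_fintype_card,
      Fintype.card_fun]
    simp
    ring
  · rw [show cnt (oddQ F n) ⊤ c = levels ⇑(oddQ F n) c from Nat.card_congr
      ((Submodule.topEquiv (R := F)).toEquiv.subtypeEquiv fun x => Iff.rfl)]
    exact hlev n c

/-- An even space from the complement of a pair. -/
theorem Lev.up {ε : ℤ} {h : ℕ} {S : Submodule F Vec} {u v : Vec} (hp : IsPair Q u v) (hu : u ∈ S)
    (hv : v ∈ S) (L : Lev Q ε h (MinDegOrth.perp Q S u v)) : Lev Q ε (h + 1) S := by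
  have hq0 : 0 < Fintype.card F := Fintype.card_pos
  obtain ⟨q, hq⟩ : ∃ q, q = Fintype.card F := ⟨_, rfl⟩
  have hcard : Nat.card S = Fintype.card F ^ (2 * (h + 1)) := by
    rw [card_split hp hu hv, L.card]; ring
  have step : ∀ c X, (Fintype.card F : ℤ) * cnt Q (MinDegOrth.perp Q S u v) c =
      (Fintype.card F : ℤ) ^ (2 * h) + X →
      (Fintype.card F : ℤ) * cnt Q S c =
        (Fintype.card F : ℤ) ^ (2 * (h + 1)) + (Fintype.card F : ℤ) * X := by
    intro c X hc
    rw [cnt_split hp hu hv, L.card]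
    rw [← hq] at hc hq0 ⊢
    push_cast [Nat.cast_sub (show 1 ≤ q from hq0)]
    linear_combination (q : ℤ) * hc
  refine ⟨L.sign, fun z hz hzS => ?_, hcard, ?_, fun c hc => ?_⟩
  · have h1 := hzS u hu
    have h2 := hzS v hv
    have hzW : z ∈ MinDegOrth.perp Q S u v := mem_perp.2
      ⟨hz, by rw [QuadraticMap.polar_comm, h1], by rw [QuadraticMap.polar_comm, h2]⟩
    exact L.nd z hzW fun s hs => hzS s (perp_le hs)
  · rw [step 0 (-ε * (Fintype.card F : ℤ) ^ h + ε * (Fintype.card F : ℤ) ^ (h + 1))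
      (by rw [L.levZero]; ring)]
    ring
  · rw [step c (-ε * (Fintype.card F : ℤ) ^ h) (by rw [L.levNe c hc]; ring)]
    ring

/-! ### An element acting as `-1` on a hyperplane -/

/-- The vectors of `S` orthogonal to `x`. -/
noncomputable def hyp (Q : QuadraticForm F (ι → F)) (S : Submodule F (ι → F)) (x : ι → F) :
    Submodule F (ι → F) :=
  S ⊓ LinearMap.ker (polB Q x)

theorem mem_hyp {S : Submodule F Vec} {x z : Vec} : z ∈ hyp Q S x ↔ z ∈ S ∧ B x z = 0 := by
  simp [hyp, polB_apply]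

theorem hyp_le {S : Submodule F Vec} {x : Vec} : hyp Q S x ≤ S := inf_le_left

theorem hyp_perp {S : Submodule F Vec} {u v x : Vec} :
    hyp Q (MinDegOrth.perp Q S u v) x = MinDegOrth.perp Q (hyp Q S x) u v := by
  ext z
  simp only [mem_hyp, mem_perp]
  tauto

/-- An isometry fixing `x` and negating the rest of `S`. -/
structure Inv (Q : QuadraticForm F (ι → F)) (g : Cfsg.isometryGroup F ⇑Q) (x : ι → F) (η : ℤ)
    (d : F) (m : ℕ) (S : Submodule F (ι → F)) : Prop where
  olev : OLev Q d m S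
  hev : Lev Q η m (hyp Q S x)
  hx : x ∈ S
  hQx : Q x ≠ 0
  fixx : act g x = x
  neg : ∀ z ∈ hyp Q S x, act g z = -z

theorem Inv.perp {g : Cfsg.isometryGroup F ⇑Q} {x : Vec} {η : ℤ} {d : F} {m : ℕ}
    {S : Submodule F Vec} (I : Inv Q g x η d (m + 1) S) {u v : Vec} (hp : IsPair Q u v)
    (hu : u ∈ hyp Q S x) (hv : v ∈ hyp Q S x) : Inv Q g x η d m (MinDegOrth.perp Q S u v) := by
  refine ⟨I.olev.perp hp (hyp_le hu) (hyp_le hv), ?_, mem_perp.2 ⟨I.hx,
    by rw [QuadraticMap.polar_comm]; exact (mem_hyp.1 hu).2,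
    by rw [QuadraticMap.polar_comm]; exact (mem_hyp.1 hv).2⟩, I.hQx, I.fixx, fun z hz => ?_⟩
  · rw [hyp_perp]; exact I.hev.perp hp hu hv
  · obtain ⟨h1, h2⟩ := mem_hyp.1 hz
    exact I.neg z (mem_hyp.2 ⟨perp_le h1, h2⟩)

/-- The Weyl element of an orthogonal triple. -/
theorem weyl_three {S : Submodule F Vec} {u v y : Vec} (hp : IsPair Q u v) (hu : u ∈ S) (hv : v ∈ S)
    (hy : y ∈ MinDegOrth.perp Q S u v) (hQy : Q y ≠ 0) :
    ∃ g ∈ eGroup Q S, act g u = (-Q y) • v ∧ act g v = (-(Q y)⁻¹) • u ∧ act g y = -y ∧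
      ∀ z, B z u = 0 → B z v = 0 → B z y = 0 → act g z = z := by
  have h1 : B v y = 0 := perp_right hy
  have h2 : B u ((Q y)⁻¹ • y) = 0 := by
    rw [QuadraticMap.polar_smul_right, perp_left hy, smul_zero]
  refine ⟨eich v y hp.hv h1 * eich u ((Q y)⁻¹ • y) hp.hu h2 * eich v y hp.hv h1,
    mul_mem (mul_mem (eich_mem _ _ hv (perp_le hy)) (eich_mem _ _ hu (S.smul_mem _ (perp_le hy))))
      (eich_mem _ _ hv (perp_le hy)), ?_, ?_, ?_, fun z k1 k2 k3 => ?_⟩
  all_goals
    simp only [act_mul, act_eich, map_smul', QuadraticMap.polar_smul_left,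
      QuadraticMap.polar_smul_right, QuadraticMap.polar_add_left, QuadraticMap.polar_sub_left,
      hp.huv, hp.hvu, polar_self_zero hp.hu, polar_self_zero hp.hv, polar_self' y,
      perp_left hy, perp_right hy, perp_left' hy, perp_right' hy, smul_eq_mul, *]
    match_scalars <;> field_simp <;> ring

/-- The hyperplane element exists. -/
theorem exists_inv {d : F} : ∀ (m : ℕ) (S : Submodule F Vec), OLev Q d m S →
    ∃ g ∈ eGroup Q S, ∃ x η, Inv Q g x η d m S ∧ (η = -1 → Odd m ∧ ¬ IsSquare (-1 : F))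
  | 0, S, L => by
    classical
    obtain ⟨x, hx, hQx, hspan⟩ := L.line
    have hbot : ∀ z ∈ hyp Q S x, z = 0 := by
      intro z hz
      obtain ⟨t, rfl⟩ := hspan z (hyp_le hz)
      have h := (mem_hyp.1 hz).2
      rw [QuadraticMap.polar_smul_right, polar_self', smul_eq_mul, mul_eq_zero, mul_eq_zero] at h
      rw [h.resolve_right (fun h' => h'.elim L.two hQx), zero_smul]
    have hone : Nat.card (hyp Q S x) = 1 := by
      rw [Nat.card_eq_one_iff_unique]
      exact ⟨⟨fun a b => Subtype.ext ((hbot _ a.2).trans (hbot _ b.2).symm)⟩, inferInstance⟩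
    refine ⟨1, one_mem _, x, 1, ⟨L, ⟨Or.inl rfl, fun z hz _ => hbot z hz, ?_, ?_, fun c hc => ?_⟩,
      hx, hQx, act_one _, fun z hz => ?_⟩, fun h => by norm_num at h⟩
    · rw [hone]; rfl
    · have h1 : cnt Q (hyp Q S x) 0 = 1 := by
        rw [cnt, Nat.card_eq_one_iff_unique]
        exact ⟨⟨fun a b => Subtype.ext (Subtype.ext ((hbot _ a.1.2).trans (hbot _ b.1.2).symm))⟩,
          ⟨⟨0, by simp⟩⟩⟩
      rw [h1]; simp
    · have h1 : cnt Q (hyp Q S x) c = 0 := by
        rw [cnt, Nat.card_eq_zero]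
        refine Or.inl ⟨fun a => hc ?_⟩
        rw [← a.2, hbot _ a.1.2, QuadraticMap.map_zero]
      rw [h1]; simp
    · rw [act_one, hbot z hz, neg_zero]
  | 1, S, L => by
    classical
    obtain ⟨u, v, hu, hv, hp⟩ := L.exists_pair
    have L0 := L.perp hp hu hv
    obtain ⟨y, hy, hQy, hspan⟩ := L0.line
    have hy_u : B y u = 0 := perp_left' hy
    have hy_v : B y v = 0 := perp_right' hy
    -- every vector of `S` in coordinates
    have hcoord : ∀ z ∈ S, ∃ t : F, z = B z v • u + B z u • v + t • y := by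
      intro z hz
      obtain ⟨t, ht⟩ := hspan _ (proj_mem_perp hp hu hv hz)
      exact ⟨t, by rw [← ht]; exact proj_add u v z⟩
    by_cases hsq : IsSquare (-1 : F)
    · -- plus type
      obtain ⟨i, hi⟩ := hsq
      obtain ⟨g₁, hg₁, e₁, f₁, k₁, -⟩ := weyl_three hp hu hv hy hQy
      have hiy : i • y ∈ MinDegOrth.perp Q S u v := (MinDegOrth.perp Q S u v).smul_mem i hy
      have hQiy : Q (i • y) = -Q y := by rw [map_smul', ← hi]; ring
      obtain ⟨g₂, hg₂, e₂, f₂, k₂, -⟩ := weyl_three hp hu hv hiy (by rw [hQiy]; exact neg_ne_zero.2 hQy)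
      have hi0 : i ≠ 0 := fun h0 => by simp [h0] at hi
      have k₂' : act g₂ y = -y := by
        rw [map_smul, ← smul_neg] at k₂
        exact smul_right_injective _ hi0 k₂
      have gu : act (g₂ * g₁) u = -u := by
        rw [act_mul, e₁, map_smul, f₂, hQiy, smul_smul, inv_neg, neg_neg, neg_mul,
          mul_inv_cancel₀ hQy, neg_one_smul]
      have gv : act (g₂ * g₁) v = -v := by
        rw [act_mul, f₁, map_smul, e₂, hQiy, smul_smul, neg_neg, neg_mul, inv_mul_cancel₀ hQy,
          neg_one_smul]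
      have gy : act (g₂ * g₁) y = y := by rw [act_mul, k₁, map_neg, k₂', neg_neg]
      have huH : u ∈ hyp Q S y := mem_hyp.2 ⟨hu, hy_u⟩
      have hvH : v ∈ hyp Q S y := mem_hyp.2 ⟨hv, hy_v⟩
      refine ⟨g₂ * g₁, mul_mem hg₂ hg₁, y, 1, ⟨L, ?_, perp_le hy, hQy, gy, fun z hz => ?_⟩,
        fun h => by norm_num at h⟩
      · refine Lev.up hp huH hvH ?_
        have hbot : ∀ z ∈ MinDegOrth.perp Q (hyp Q S y) u v, z = 0 := by
          intro z hz
          obtain ⟨hzS, hzy⟩ := mem_hyp.1 (perp_le hz)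
          obtain ⟨t, ht⟩ := hcoord z hzS
          rw [perp_left' hz, perp_right' hz, zero_smul, zero_smul, add_zero, zero_add] at ht
          rw [ht, QuadraticMap.polar_smul_right, polar_self', smul_eq_mul, mul_eq_zero,
            mul_eq_zero] at hzy
          rw [ht, hzy.resolve_right (fun h' => h'.elim L.two hQy), zero_smul]
        refine ⟨Or.inl rfl, fun z hz _ => hbot z hz, ?_, ?_, fun c hc => ?_⟩
        · rw [Nat.mul_zero, pow_zero, Nat.card_eq_one_iff_unique]
          exact ⟨⟨fun a b => Subtype.ext ((hbot _ a.2).trans (hbot _ b.2).symm)⟩, inferInstance⟩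
        · have h1 : cnt Q (MinDegOrth.perp Q (hyp Q S y) u v) 0 = 1 := by
            rw [cnt, Nat.card_eq_one_iff_unique]
            exact ⟨⟨fun a b => Subtype.ext (Subtype.ext ((hbot _ a.1.2).trans (hbot _ b.1.2).symm))⟩,
              ⟨⟨0, by simp⟩⟩⟩
          rw [h1]; simp
        · have h1 : cnt Q (MinDegOrth.perp Q (hyp Q S y) u v) c = 0 := by
            rw [cnt, Nat.card_eq_zero]
            refine Or.inl ⟨fun a => hc ?_⟩
            rw [← a.2, hbot _ a.1.2, QuadraticMap.map_zero]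
          rw [h1]; simp
      · obtain ⟨hzS, hzy⟩ := mem_hyp.1 hz
        obtain ⟨t, ht⟩ := hcoord z hzS
        have ht0 : t = 0 := by
          have h := hzy
          rw [ht] at h
          simp [QuadraticMap.polar_add_right, QuadraticMap.polar_smul_right, hy_u, hy_v,
            polar_self', L.two, hQy] at h
          exact h
        rw [ht, ht0, zero_smul, add_zero, map_add, map_smul, map_smul, gu, gv]
        module
    · -- minus type
      obtain ⟨c, hc⟩ : ∃ c, c = Q y := ⟨_, rfl⟩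
      obtain ⟨g, hg, eu, ev, ey, -⟩ := weyl_three hp hu hv hy hQy
      rw [← hc] at eu ev hQy
      have huy : B u y = 0 := perp_left hy
      have hvy : B v y = 0 := perp_right hy
      set x := u - c • v with hx
      set z₀ := u + c • v with hz₀
      have hxS : x ∈ S := S.sub_mem hu (S.smul_mem _ hv)
      have hQx : Q x = -c := by
        rw [hx, Cfsg.Agent.Classical.Orth.map_sub', map_smul', QuadraticMap.polar_smul_right, hp.hu, hp.hv, hp.huv,
          smul_eq_mul]
        ring
      have gx : act g x = x := by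
        rw [hx, map_sub, map_smul, eu, ev, smul_smul, mul_neg, mul_inv_cancel₀ hQy]
        module
      have gz : act g z₀ = -z₀ := by
        rw [hz₀, map_add, map_smul, eu, ev, smul_smul, mul_neg, mul_inv_cancel₀ hQy]
        module
      have hxy : B x y = 0 := by
        simp [hx, QuadraticMap.polar_sub_left, QuadraticMap.polar_smul_left, huy, hvy]
      have hxz : B x z₀ = 0 := by
        simp [hx, hz₀, QuadraticMap.polar_sub_left, QuadraticMap.polar_smul_left,
          QuadraticMap.polar_add_right, QuadraticMap.polar_smul_right, polar_self_zero hp.hu,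
          polar_self_zero hp.hv, hp.huv, hp.hvu]
      -- coordinates on the hyperplane
      let φ : F × F → hyp Q S x := fun p =>
        ⟨p.1 • y + p.2 • z₀, mem_hyp.2 ⟨S.add_mem (S.smul_mem _ (perp_le hy))
          (S.smul_mem _ (S.add_mem hu (S.smul_mem _ hv))), by
          rw [QuadraticMap.polar_add_right, QuadraticMap.polar_smul_right,
            QuadraticMap.polar_smul_right, hxy, hxz, smul_zero, smul_zero, add_zero]⟩⟩
      have hval : ∀ p, Q (φ p).1 = c * (p.1 ^ 2 + 0 * p.1 * p.2 + 1 * p.2 ^ 2) := by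
        intro p
        show Q (p.1 • y + p.2 • (u + c • v)) = _
        simp only [map_add', map_smul', QuadraticMap.polar_smul_left, QuadraticMap.polar_smul_right,
          QuadraticMap.polar_add_right, hp.hu, hp.hv, hp.huv, hy_u, hy_v, smul_eq_mul, ← hc]
        ring
      have hab : ∀ z₁ z₂ : F, z₁ ^ 2 + 0 * z₁ * z₂ + 1 * z₂ ^ 2 = 0 → z₁ = 0 ∧ z₂ = 0 := by
        intro z₁ z₂ h
        by_cases h2 : z₂ = 0
        · exact ⟨eq_zero_of_pow_eq_zero (n := 2) (by linear_combination h - z₂ * h2), h2⟩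
        · exfalso
          refine hsq ⟨z₁ / z₂, ?_⟩
          field_simp
          linear_combination -h
      have hbij : Function.Bijective φ := by
        refine ⟨fun p p' h => ?_, fun z => ?_⟩
        · have h0 : φ (p - p') = 0 := by
            refine Subtype.ext ?_
            have h' : p.1 • y + p.2 • z₀ = p'.1 • y + p'.2 • z₀ := congrArg Subtype.val h
            show (p.1 - p'.1) • y + (p.2 - p'.2) • z₀ = 0
            linear_combination (norm := module) h'
          have hv0 := hval (p - p')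
          rw [h0, Submodule.coe_zero, QuadraticMap.map_zero] at hv0
          obtain ⟨a1, a2⟩ := hab _ _ ((mul_eq_zero.1 hv0.symm).resolve_left hQy)
          exact sub_eq_zero.1 (Prod.ext a1 a2)
        · obtain ⟨hzS, hzx⟩ := mem_hyp.1 z.2
          obtain ⟨t, ht⟩ := hcoord z.1 hzS
          have hrel : B z.1 u = c * B z.1 v := by
            have h : B (u - c • v) z.1 = 0 := hzx
            rw [QuadraticMap.polar_sub_left, QuadraticMap.polar_smul_left,
              QuadraticMap.polar_comm _ u, QuadraticMap.polar_comm _ v, smul_eq_mul] at h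
            linear_combination h
          refine ⟨(t, B z.1 v), Subtype.ext ?_⟩
          show t • y + B z.1 v • (u + c • v) = z.1
          conv_rhs => rw [ht, hrel]
          module
      let E := Equiv.ofBijective φ hbij
      have hcard : Nat.card (hyp Q S x) = Fintype.card F ^ (2 * 1) := by
        rw [← Nat.card_congr E, Nat.card_prod, Nat.card_eq_fintype_card, sq]
      have hcnt : ∀ c', cnt Q (hyp Q S x) c' =
          Nat.card {p : F × F // p.1 ^ 2 + 0 * p.1 * p.2 + 1 * p.2 ^ 2 = c' / c} := by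
        intro c'
        refine (Nat.card_congr (E.subtypeEquiv fun p => ?_)).symm
        show p.1 ^ 2 + 0 * p.1 * p.2 + 1 * p.2 ^ 2 = c' / c ↔ Q (φ p).1 = c'
        rw [hval, eq_div_iff hQy, mul_comm]
      refine ⟨g, hg, x, -1, ⟨L, ⟨Or.inr rfl, ?_, hcard, ?_, fun c' hc' => ?_⟩, hxS,
        by rw [hQx]; exact neg_ne_zero.2 hQy, gx, fun z hz => ?_⟩, fun _ => ⟨odd_one, hsq⟩⟩
      · intro z hz h0
        by_contra hz0
        have hQz : Q z = 0 := by
          have h := h0 z hz
          rw [polar_self'] at h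
          exact (mul_eq_zero.1 h).resolve_left L.two
        obtain ⟨p, hp'⟩ := hbij.2 ⟨z, hz⟩
        have hv0 := hval p
        rw [hp', hQz] at hv0
        obtain ⟨a1, a2⟩ := hab _ _ ((mul_eq_zero.1 hv0.symm).resolve_left hQy)
        refine hz0 ?_
        have h : p.1 • y + p.2 • z₀ = z := congrArg Subtype.val hp'
        rw [← h]
        rw [a1, a2]; simp
      · have h1 : Nat.card {p : F × F // p.1 ^ 2 + 0 * p.1 * p.2 + 1 * p.2 ^ 2 = 0 / c} = 1 := by
          rw [Nat.card_eq_one_iff_unique]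
          refine ⟨⟨fun a b => Subtype.ext ?_⟩, ⟨⟨0, by simp⟩⟩⟩
          obtain ⟨a1, a2⟩ := hab _ _ (a.2.trans (zero_div c))
          obtain ⟨b1, b2⟩ := hab _ _ (b.2.trans (zero_div c))
          exact Prod.ext (a1.trans b1.symm) (a2.trans b2.symm)
        rw [hcnt, h1]; push_cast; ring
      · rw [hcnt, levels_plane hab (div_ne_zero hc' hQy)]; push_cast; ring
      · obtain ⟨p, hp'⟩ := hbij.2 ⟨z, hz⟩
        have h : p.1 • y + p.2 • z₀ = z := congrArg Subtype.val hp'
        rw [← h, map_add, map_smul, map_smul, ey, gz]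
        module
  | m + 2, S, L => by
    obtain ⟨u, v, hu, hv, hp⟩ := L.exists_pair
    have L1 := L.perp hp hu hv
    obtain ⟨e, e', he, he', hpe⟩ := L1.exists_pair
    have L2 := L1.perp hpe he he'
    obtain ⟨g', hg', x, η, I, hη⟩ := exists_inv m _ L2
    have P : Pairs Q S u v e e' := ⟨hp, hpe, perp_left he, perp_left he', perp_right he,
      perp_right he', hu, hv, perp_le he, perp_le he'⟩
    obtain ⟨h, hh, hu', he1, hv', he1', hfix⟩ := torus P (s := (-1 : F)) (by norm_num)
    have hxS2 := I.hx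
    have hxu : B x u = 0 := perp_left' (perp_le hxS2)
    have hxv : B x v = 0 := perp_right' (perp_le hxS2)
    have hxe : B x e = 0 := perp_left' hxS2
    have hxe' : B x e' = 0 := perp_right' hxS2
    have huH : u ∈ hyp Q S x := mem_hyp.2 ⟨hu, hxu⟩
    have hvH : v ∈ hyp Q S x := mem_hyp.2 ⟨hv, hxv⟩
    have heH : e ∈ MinDegOrth.perp Q (hyp Q S x) u v :=
      mem_perp.2 ⟨mem_hyp.2 ⟨perp_le he, hxe⟩, perp_left he, perp_right he⟩
    have heH' : e' ∈ MinDegOrth.perp Q (hyp Q S x) u v :=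
      mem_perp.2 ⟨mem_hyp.2 ⟨perp_le he', hxe'⟩, perp_left he', perp_right he'⟩
    have fixg : ∀ z, B z u = 0 ∧ B z v = 0 → B z e = 0 ∧ B z e' = 0 → act h z = z :=
      fun z k k' => hfix z k.1 k.2 k'.1 k'.2
    have g'fix : ∀ z, (∀ w ∈ MinDegOrth.perp Q (MinDegOrth.perp Q S u v) e e', B z w = 0) →
        act g' z = z := fun z hz => eGroup_fix hg' hz
    refine ⟨h * g', mul_mem hh (eGroup_mono (perp_le.trans perp_le) hg'), x, η,
      ⟨L, ?_, perp_le (perp_le hxS2), I.hQx, ?_, fun z hz => ?_⟩, fun h' => ?_⟩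
    · refine Lev.up hp huH hvH (Lev.up hpe heH heH' ?_)
      have := I.hev
      rwa [hyp_perp, hyp_perp] at this
    · rw [act_mul, I.fixx, hfix x hxu hxv hxe hxe']
    · obtain ⟨hzS, hzx⟩ := mem_hyp.1 hz
      have hz1 := proj_mem_perp hp hu hv hzS
      have hz2 := proj_mem_perp hpe he he' hz1
      set z₂ := proj Q e e' (proj Q u v z) with hz₂
      have hdec : z = B z v • u + B z u • v + (B (proj Q u v z) e' • e +
          B (proj Q u v z) e • e' + z₂) := by
        rw [hz₂, ← proj_add, ← proj_add]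
      have hz2H : z₂ ∈ hyp Q (MinDegOrth.perp Q (MinDegOrth.perp Q S u v) e e') x := by
        refine mem_hyp.2 ⟨hz2, ?_⟩
        have h := hzx
        rw [hdec] at h
        simpa [QuadraticMap.polar_add_right, QuadraticMap.polar_smul_right, hxu, hxv, hxe, hxe']
          using h
      have ga : act g' u = u := g'fix u fun w hw => perp_left (perp_le hw)
      have gb : act g' v = v := g'fix v fun w hw => perp_right (perp_le hw)
      have gc : act g' e = e := g'fix e fun w hw => perp_left hw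
      have gd : act g' e' = e' := g'fix e' fun w hw => perp_right hw
      conv_lhs => rw [hdec]
      conv_rhs => rw [hdec]
      simp only [act_mul, map_add, map_smul, ga, gb, gc, gd, I.neg z₂ hz2H, map_neg, hu', hv', he1,
        he1', fixg z₂ ⟨perp_left' (perp_le hz2), perp_right' (perp_le hz2)⟩
          ⟨perp_left' hz2, perp_right' hz2⟩, inv_neg, inv_one]
      module
    · obtain ⟨h1, h2⟩ := hη h'
      exact ⟨by rw [Nat.odd_add]; simp [h1], h2⟩

end Cfsg.Agent.SimpleFacts.MinDegOrth
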