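import Mathlib
import Cfsg.Agent.SimpleFacts.MinDegOrth.OddLev

/-!
Odd dimension: the traces of the long root elements determine the characters that occur on the radical,
and descend to the fixed space of the radical.
-/

set_option autoImplicit false
set_option linter.unusedSectionVars false
set_option linter.unusedSimpArgs false

namespace Cfsg.Agent.SimpleFacts.MinDegOrth

open Cfsg.Agent.Forms Cfsg.Agent.Forms.QuadStd Cfsg.Agent.Forms.Reflections
open Cfsg.Agent.Classical.Orth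

/-! ### The bound for the odd dimensions -/

/-- `1 + q² + ⋯ + q^{2(m-1)}`. -/
def tg (q : ℕ) : ℕ → ℤ
  | 0 => 0
  | m + 1 => tg q m + (q : ℤ) ^ (2 * m)

theorem tg_closed (q m : ℕ) : ((q : ℤ) ^ 2 - 1) * tg q m = (q : ℤ) ^ (2 * m) - 1 := by
  induction m with
  | zero => simp [tg]
  | succ m ih => simp only [tg, mul_add, ih]; ring

theorem tg_succ' (q m : ℕ) : tg q (m + 1) = 1 + (q : ℤ) ^ 2 * tg q m := by
  have h := tg_closed q m
  simp only [tg]
  linear_combination -h

theorem tg_nonneg (q m : ℕ) : 0 ≤ tg q m := by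
  induction m with
  | zero => simp [tg]
  | succ m ih => simp only [tg]; positivity

theorem dg_tg {q : ℕ} {η : ℤ} (hη : η = 1 ∨ η = -1) (h : ℕ) :
    dg q η h = q * tg q (h + 1) + η * (q : ℤ) ^ (h + 1) := by
  induction h with
  | zero => simp [dg, tg]
  | succ h ih =>
    simp only [dg, tg] at ih ⊢
    rw [ih]
    rcases hη with rfl | rfl <;> ring

variable {F : Type*} [Field F] [Fintype F] {ι : Type} [Fintype ι] [DecidableEq ι]
variable {Q : QuadraticForm F (ι → F)}

local notation "Vec" => (ι → F)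
local notation "B" => QuadraticMap.polar Q

variable {S : Submodule F (ι → F)} {u v : ι → F} {d : F}
variable {V : Type*} [AddCommGroup V] [Module ℂ V] [FiniteDimensional ℂ V]
variable (ρ : Representation ℂ (eGroup Q S) V) {ψ : AddChar F ℂ}

/-- Every long root element has the same deficit `q^{2h+2}`. -/
def Deficit (h : ℕ) : Prop :=
  ∀ a c, IsRoot Q S a c → LinearMap.trace ℂ V (ρ (el Q S a c)) =
    (Module.finrank ℂ V : ℂ) - (Fintype.card F : ℂ) ^ (2 * h + 2)

/-- The two pairs of a long root datum. -/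
theorem IsRoot.exists_pairs (hS : ND Q S) {a c : Vec} (hr : IsRoot Q S a c) :
    ∃ a' c', Pairs Q S c c' a a' := by
  obtain ⟨h1, h2, h3, h4, h5, h6, h7⟩ := hr
  obtain ⟨z, hz, haz, hcz⟩ : ∃ z ∈ S, B a z = 0 ∧ B c z ≠ 0 := by
    by_contra hcon
    push Not at hcon
    obtain ⟨z₀, hz₀, haz₀⟩ := exists_one hS h1 h6
    refine h7 (B c z₀) (sub_eq_zero.1 (hS _ (S.sub_mem h2 (S.smul_mem _ h1)) fun s hs => ?_))
    have h0 := hcon (s - B a s • z₀) (S.sub_mem hs (S.smul_mem _ hz₀)) (by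
      rw [QuadraticMap.polar_sub_right, QuadraticMap.polar_smul_right, haz₀, smul_eq_mul, mul_one,
        sub_self])
    rw [QuadraticMap.polar_sub_right, QuadraticMap.polar_smul_right, smul_eq_mul] at h0
    rw [QuadraticMap.polar_sub_left, QuadraticMap.polar_smul_left, smul_eq_mul]
    linear_combination h0
  obtain ⟨z', hz', haz', hcz'⟩ : ∃ z' ∈ S, B a z' = 0 ∧ B c z' = 1 :=
    ⟨(B c z)⁻¹ • z, S.smul_mem _ hz, by rw [QuadraticMap.polar_smul_right, haz, smul_zero],
      by rw [QuadraticMap.polar_smul_right, smul_eq_mul, inv_mul_cancel₀ hcz]⟩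
  obtain ⟨c', hc'⟩ : ∃ c', c' = z' + (-Q z') • c := ⟨_, rfl⟩
  have hc'S : c' ∈ S := hc' ▸ S.add_mem hz' (S.smul_mem _ h2)
  have hp : IsPair Q c c' := by
    refine ⟨h4, ?_, ?_⟩
    · rw [hc', map_add', map_smul', QuadraticMap.polar_smul_right, QuadraticMap.polar_comm _ z' c,
        hcz', h4, smul_eq_mul]
      ring
    · rw [hc', QuadraticMap.polar_add_right, QuadraticMap.polar_smul_right, polar_self_zero h4, hcz',
        smul_zero, add_zero]
  have haW : a ∈ perp Q S c c' := mem_perp.2 ⟨h1, by rw [QuadraticMap.polar_comm]; exact h5, by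
    rw [QuadraticMap.polar_comm, hc', QuadraticMap.polar_add_right, QuadraticMap.polar_smul_right,
      haz', h5, smul_zero, add_zero]⟩
  obtain ⟨a', ha', hpa⟩ := exists_partner (perp_nd hp h2 hc'S hS) haW h6 h3
  exact ⟨a', c', hp, hpa, perp_left haW, perp_left ha', perp_right haW, perp_right ha', h2, hc'S, h1,
    perp_le ha'⟩

theorem Cfg.isRoot (C : Cfg Q S u v) {e : Vec} (he : e ∈ perp Q S u v) (hQe : Q e = 0) (he0 : e ≠ 0) :
    IsRoot Q S u e := by
  refine ⟨C.hu, perp_le he, C.p.hu, hQe, perp_left he, pair_ne_zero C.p, fun t ht => he0 ?_⟩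
  have h := perp_right' he
  rw [ht, QuadraticMap.polar_smul_left, C.p.huv, smul_eq_mul, mul_one] at h
  rw [ht, h, zero_smul]

/-- Moving by the group of the complement. -/
theorem Cfg.mult_act (C : Cfg Q S u v) (hψ : ψ ≠ 1) {g : Cfsg.isometryGroup F ⇑Q}
    (hg : g ∈ eGroup Q (perp Q S u v)) {y : Vec} (hy : y ∈ perp Q S u v) :
    mult ρ ψ u v (act g y) = mult ρ ψ u v y := by
  have h := C.mult_move ρ hψ (g := ⟨g, eGroup_mono perp_le hg⟩) one_ne_zero
    (by rw [one_smul]; exact (act_fix_perp C hg).1)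
    (by rw [inv_one, one_smul]; exact (act_fix_perp C hg).2) hy
  rwa [inv_one, one_smul] at h

theorem sum_char_mul (hψ : ψ ≠ 1) (b : F) [DecidableEq F] :
    ∑ t : F, ψ (t * b) = if b = 0 then (Fintype.card F : ℂ) else 0 := by
  rw [AddChar.sum_mulShift b (AddChar.IsPrimitive.of_ne_one hψ)]
  split_ifs <;> simp

open _root_.Classical in
/-- The characters with a given product with a singular vector have total multiplicity `q^{2h+1}`. -/
theorem Deficit.slice_sum (C : Cfg Q S u v) (hψ : ψ ≠ 1) {h : ℕ} (hd : Deficit ρ h) {e : Vec}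
    (he : e ∈ perp Q S u v) (hQe : Q e = 0) (he0 : e ≠ 0) {c : F} (hc : c ≠ 0) :
    ∑ y ∈ (Finset.univ : Finset (perp Q S u v)).filter (fun y => B y.1 e = c), mult ρ ψ u v y.1 =
      Fintype.card F ^ (2 * h + 1) := by
  have htr : ∀ t : F, LinearMap.trace ℂ V (ρ (el Q S u (t • e))) =
      ((Module.finrank ℂ V : ℂ) - (Fintype.card F : ℂ) ^ (2 * h + 2)) +
        if t = 0 then (Fintype.card F : ℂ) ^ (2 * h + 2) else 0 := by
    intro t
    by_cases ht : t = 0
    · rw [ht, zero_smul, el_zero C.p.hu C.hu, map_one, LinearMap.trace_one, if_pos rfl,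
        sub_add_cancel]
    · rw [if_neg ht, add_zero]
      exact hd _ _ (C.isRoot ((perp Q S u v).smul_mem t he) (by rw [map_smul', hQe, mul_zero])
        (smul_ne_zero ht he0))
  have h1 : ∑ t : F, ψ (t * -c) * LinearMap.trace ℂ V (ρ (el Q S u (t • e))) =
      (Fintype.card F : ℂ) ^ (2 * h + 2) := by
    simp only [htr, mul_add, Finset.sum_add_distrib]
    rw [← Finset.sum_mul, sum_char_mul hψ, if_neg (neg_ne_zero.2 hc), zero_mul, zero_add,
      Finset.sum_eq_single (0 : F) (fun t _ ht => by rw [if_neg ht, mul_zero])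
        (fun h' => absurd (Finset.mem_univ _) h')]
    simp
  have h2 : ∑ t : F, ψ (t * -c) * LinearMap.trace ℂ V (ρ (el Q S u (t • e))) =
      (Fintype.card F : ℂ) *
        ((∑ y ∈ (Finset.univ : Finset (perp Q S u v)).filter (fun y => B y.1 e = c),
          mult ρ ψ u v y.1 : ℕ) : ℂ) := by
    simp only [C.trace_el ρ hψ ((perp Q S u v).smul_mem _ he), Finset.mul_sum]
    rw [Finset.sum_comm, Nat.cast_sum, Finset.mul_sum, Finset.sum_filter]
    refine Finset.sum_congr rfl fun y _ => ?_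
    have h3 : ∀ t : F, ψ (t * -c) * ((mult ρ ψ u v y.1 : ℂ) * ψ (B y.1 (t • e))) =
        (mult ρ ψ u v y.1 : ℂ) * ψ (t * (B y.1 e - c)) := by
      intro t
      rw [QuadraticMap.polar_smul_right, smul_eq_mul, show t * (B y.1 e - c) =
        t * -c + t * B y.1 e by ring, AddChar.map_add_eq_mul]
      ring
    rw [Finset.sum_congr rfl fun t _ => h3 t, ← Finset.mul_sum, sum_char_mul hψ]
    simp only [sub_eq_zero]
    split_ifs <;> ring
  rw [h1, pow_succ' (Fintype.card F : ℂ)] at h2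
  have h4 := mul_left_cancel₀ (Nat.cast_ne_zero.2 Fintype.card_ne_zero) h2
  exact_mod_cast h4.symm

theorem OLev.exists_nonsing : ∀ {m : ℕ} {T : Submodule F Vec}, OLev Q d m T → ∃ x ∈ T, Q x ≠ 0
  | 0, _, L => by
    obtain ⟨x, hx, hQx, -⟩ := L.line
    exact ⟨x, hx, hQx⟩
  | _ + 1, _, L => by
    obtain ⟨x, hx, hQx⟩ := L.exists_value 1
    exact ⟨x, hx, hQx ▸ one_ne_zero⟩

/-- A vector on a pair with given product and value. -/
theorem rep_vec {e e' : Vec} (hp : IsPair Q e e') {c : F} (hc : c ≠ 0) (t : F) :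
    Q ((t / c) • e + c • e') = t ∧ B ((t / c) • e + c • e') e = c := by
  constructor <;>
    simp [map_add', map_smul', QuadraticMap.polar_smul_left, QuadraticMap.polar_smul_right,
      QuadraticMap.polar_add_left, hp.hu, hp.hv, hp.huv, hp.hvu, polar_self_zero hp.hu, hc,
      mul_div_cancel₀]

/-- The characters not orthogonal to a singular vector: those of value `0`, each once. -/
theorem Deficit.offperp {h : ℕ} (L : OLev Q d (h + 2) S) (C : Cfg Q S u v) (hψ : ψ ≠ 1)
    (hd : Deficit ρ h) {s : F} (hs : s ≠ 0) (hs2 : s * s ≠ 1) {e e' : Vec} (hp : IsPair Q e e')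
    (he : e ∈ perp Q S u v) (he' : e' ∈ perp Q S u v) {y : Vec} (hy : y ∈ perp Q S u v)
    (hye : B y e ≠ 0) :
    (Q y = 0 → mult ρ ψ u v y = 1) ∧ (Q y ≠ 0 → mult ρ ψ u v y = 0) := by
  classical
  set W := perp Q S u v with hW
  have LW : OLev Q d (h + 1) W := L.perp C.p C.hu C.hv
  have L2 := LW.perp hp he he'
  let rep : F → F → Vec := fun c t => (t / c) • e + c • e'
  have hrep : ∀ c t, rep c t ∈ W := fun c t => W.add_mem (W.smul_mem _ he) (W.smul_mem _ he')
  -- the multiplicity depends only on the product and the value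
  have key : ∀ y ∈ W, ∀ c ≠ 0, B y e = c → mult ρ ψ u v y = mult ρ ψ u v (rep c (Q y)) := by
    intro y hy c hc hyc
    set z := proj Q e e' y with hz
    have hzW : z ∈ perp Q W e e' := proj_mem_perp hp he he' hy
    have hw : B e ((-c⁻¹) • z) = 0 := by
      rw [QuadraticMap.polar_smul_right, perp_left hzW, smul_zero]
    have hg : eich e ((-c⁻¹) • z) hp.hu hw ∈ eGroup Q W :=
      eich_mem _ _ he (W.smul_mem _ (perp_le hzW))
    rw [← C.mult_act ρ hψ hg hy]
    congr 1
    obtain ⟨κ, hκ⟩ : ∃ κ, κ = B y e' + -B y ((-c⁻¹) • z) + -(Q ((-c⁻¹) • z) * c) := ⟨_, rfl⟩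
    have hgy : act (eich e ((-c⁻¹) • z) hp.hu hw) y = κ • e + c • e' := by
      rw [act_eich, hκ, hyc]
      have hdec := proj_add (Q := Q) e e' y
      rw [hyc, ← hz] at hdec
      conv_lhs => arg 1; arg 1; arg 1; rw [hdec]
      rw [smul_smul, mul_neg, mul_inv_cancel₀ hc]
      module
    have hval : Q y = κ * c := by
      rw [← act_map (eich e ((-c⁻¹) • z) hp.hu hw) y, hgy]
      simp [map_add', map_smul', QuadraticMap.polar_smul_left, QuadraticMap.polar_smul_right,
        hp.hu, hp.hv, hp.huv]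
      ring
    rw [hgy]
    show _ = (Q y / c) • e + c • e'
    rw [hval, mul_div_assoc, div_self hc, mul_one]
  -- exactly one value for each product
  have hone : ∀ c ≠ 0, ∑ t : F, mult ρ ψ u v (rep c t) = 1 := by
    intro c hc
    have h1 := hd.slice_sum ρ C hψ he hp.hu (pair_ne_zero hp) hc
    rw [← Finset.sum_fiberwise _ (fun y : W => Q y.1), Finset.sum_congr rfl (g := fun t =>
      Fintype.card F ^ (2 * h + 1) * mult ρ ψ u v (rep c t)) fun t _ => ?_,
      ← Finset.mul_sum] at h1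
    · exact mul_left_cancel₀ (pow_ne_zero _ Fintype.card_ne_zero) (h1.trans (mul_one _).symm)
    rw [Finset.sum_congr rfl (g := fun _ => mult ρ ψ u v (rep c t)) fun y hy => by
      simp only [Finset.mem_filter] at hy
      rw [key y.1 y.2 c hc hy.1.2, hy.2], Finset.sum_const, smul_eq_mul,
      Finset.filter_filter, ← Fintype.card_subtype, ← Nat.card_eq_fintype_card]
    congr 1
    rw [← L2.card, ← card_slice hp he he' t hc]
    exact Nat.card_congr (Equiv.subtypeEquivRight fun y => and_comm)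
  have huniq : ∀ c ≠ 0, ∀ t t', mult ρ ψ u v (rep c t) ≠ 0 → mult ρ ψ u v (rep c t') ≠ 0 → t = t' := by
    intro c hc t t' h1 h2
    by_contra hne
    have h3 : ∑ x ∈ ({t, t'} : Finset F), mult ρ ψ u v (rep c x) ≤ 1 :=
      (hone c hc).le.trans' (Finset.sum_le_sum_of_subset (Finset.subset_univ _))
    rw [Finset.sum_pair hne] at h3
    omega
  -- only the value zero
  have hzero : ∀ c ≠ 0, ∀ t, mult ρ ψ u v (rep c t) ≠ 0 → t = 0 := by
    intro c hc t hne
    obtain ⟨x, hx, hQx⟩ := L2.exists_nonsing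
    obtain ⟨g₁, hg₁, e₁⟩ := scale hp he he' hx (z := s • x) ((perp Q W e e').smul_mem _ hx) hQx
      (by rw [map_smul']; exact mul_ne_zero (mul_ne_zero hs hs) hQx)
    rw [map_smul', mul_div_assoc, div_self hQx, mul_one] at e₁
    have hP : Pairs Q S u v e e' := ⟨C.p, hp, perp_left he, perp_left he', perp_right he,
      perp_right he', C.hu, C.hv, perp_le he, perp_le he'⟩
    obtain ⟨g₂, hg₂, gu, ge, gv, -, -⟩ := torus hP hs
    obtain ⟨hQr, hBr⟩ := rep_vec hp hc t
    have a1 : mult ρ ψ u v (act g₁ (rep c t)) = mult ρ ψ u v (rep c t) := C.mult_act ρ hψ hg₁ (hrep c t)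
    have b1 : B (act g₁ (rep c t)) e = c / (s * s) := by
      have h := act_polar g₁ (rep c t) e
      rw [e₁, QuadraticMap.polar_smul_right, hBr, smul_eq_mul] at h
      rw [eq_div_iff (mul_ne_zero hs hs), mul_comm]
      exact h
    have hy₂ : s⁻¹ • act g₂ (rep c t) ∈ W :=
      W.smul_mem _ (C.act_perp (g := ⟨g₂, hg₂⟩) hs gu gv (hrep c t))
    have a2 : mult ρ ψ u v (s⁻¹ • act g₂ (rep c t)) = mult ρ ψ u v (rep c t) :=
      C.mult_move ρ (ψ := ψ) hψ (g := ⟨g₂, hg₂⟩) hs gu gv (hrep c t)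
    have b2 : B (s⁻¹ • act g₂ (rep c t)) e = c / (s * s) := by
      have h := act_polar g₂ (rep c t) e
      rw [ge, QuadraticMap.polar_smul_right, hBr, smul_eq_mul] at h
      rw [QuadraticMap.polar_smul_left, smul_eq_mul, eq_div_iff (mul_ne_zero hs hs)]
      field_simp
      linear_combination h
    have hc' : c / (s * s) ≠ 0 := div_ne_zero hc (mul_ne_zero hs hs)
    rw [key _ (act_mem hg₁ (hrep c t)) _ hc' b1, act_map, hQr] at a1
    rw [key _ hy₂ _ hc' b2, map_smul', act_map, hQr] at a2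
    have h3 := huniq _ hc' t (s⁻¹ * s⁻¹ * t) (by rw [a1]; exact hne) (by rw [a2]; exact hne)
    by_contra ht
    refine hs2 ?_
    field_simp at h3
    linear_combination h3
  have hk := key y hy _ hye rfl
  refine ⟨fun hQ => ?_, fun hQ => ?_⟩
  · rw [hk, hQ]
    refine Eq.trans (Eq.symm ?_) (hone _ hye)
    exact Finset.sum_eq_single 0 (fun t _ ht => not_not.1 fun h' => ht (hzero _ hye t h'))
      (fun h' => absurd (Finset.mem_univ _) h')
  · rw [hk]
    exact not_not.1 fun h' => hQ (hzero _ hye _ h')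

/-- The deficit determines the characters that occur. -/
theorem Deficit.single {h : ℕ} (L : OLev Q d (h + 2) S) (C : Cfg Q S u v) (hψ : ψ ≠ 1)
    (h4 : 4 ≤ Fintype.card F) (hd : Deficit ρ h) : Single ρ ψ u v (0 : F) := by
  obtain ⟨s, hs, hs2⟩ := exists_square_ne h4
  have LW : OLev Q d (h + 1) (perp Q S u v) := L.perp C.p C.hu C.hv
  obtain ⟨e, e', he, he', hp⟩ := LW.exists_pair
  intro y hy hy0
  by_cases h1 : B y e = 0
  swap
  · exact hd.offperp ρ L C hψ hs hs2 hp he he' hy h1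
  by_cases h2 : B y e' = 0
  swap
  · exact hd.offperp ρ L C hψ hs hs2 hp.symm he' he hy h2
  have hyW : y ∈ perp Q (perp Q S u v) e e' :=
    mem_perp.2 ⟨hy, by rw [QuadraticMap.polar_comm]; exact h1, by rw [QuadraticMap.polar_comm]; exact h2⟩
  obtain ⟨z, hz, hyz⟩ := exists_one (perp_nd hp he he' LW.nd) hyW hy0
  have hw : B e' z = 0 := perp_right hz
  have hg : eich e' z hp.hv hw ∈ eGroup Q (perp Q S u v) := eich_mem _ _ he' (perp_le hz)
  have hgy : B (act (eich e' z hp.hv hw) y) e ≠ 0 := by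
    rw [act_eich, h2, hyz]
    simp [QuadraticMap.polar_sub_left, QuadraticMap.polar_add_left, QuadraticMap.polar_smul_left,
      h1, hp.hvu]
  have h3 := hd.offperp ρ L C hψ hs hs2 hp he he' (act_mem hg hy) hgy
  rwa [act_map, C.mult_act ρ hψ hg hy] at h3

theorem card_levSet_odd {m : ℕ} (L : OLev Q d m (perp Q S u v)) :
    ((levSet Q S u v (0 : F)).card : ℤ) = (Fintype.card F : ℤ) ^ (2 * m) - 1 := by
  classical
  rw [← L.cnt_zero, ← card_levSet 0, if_pos rfl]
  push_cast
  ring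

theorem Single.finrank_odd {h : ℕ} (L : OLev Q d (h + 2) S) (C : Cfg Q S u v) (hψ : ψ ≠ 1)
    (hs : Single ρ ψ u v (0 : F)) :
    (Module.finrank ℂ V : ℤ) =
      (mult ρ ψ u v 0 : ℤ) + ((Fintype.card F : ℤ) ^ (2 * h + 2) - 1) := by
  have h1 : (Module.finrank ℂ V : ℤ) =
      (mult ρ ψ u v 0 : ℤ) + ((levSet Q S u v (0 : F)).card : ℤ) := by
    exact_mod_cast hs.finrank_eq ρ C hψ
  rw [h1, card_levSet_odd (L.perp C.p C.hu C.hv)]
  ring

/-! ### The fixed space -/

theorem trace_on_range {P A : Module.End ℂ V} (hP : P * P = P) (hA : Commute A P)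
    (h : ∀ x ∈ LinearMap.range P, A x ∈ LinearMap.range P) :
    LinearMap.trace ℂ (LinearMap.range P) (LinearMap.restrict A h) =
      LinearMap.trace ℂ V (A * P) := by
  have hf : ∀ x, (A * P) x ∈ LinearMap.range P := fun x => h _ (LinearMap.mem_range_self P x)
  rw [← LinearMap.trace_restrict_eq_of_forall_mem (LinearMap.range P) (A * P) hf]
  congr 1
  refine LinearMap.ext fun x => Subtype.ext ?_
  obtain ⟨z, hz⟩ := x.2
  show A x.1 = A (P x.1)
  rw [← hz, ← Module.End.mul_apply P P, hP]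

theorem incl_el {T : Submodule F Vec} (hT : T ≤ S) {a c : Vec} (ha : Q a = 0) (hac : B a c = 0)
    (h1 : a ∈ T) (h2 : c ∈ T) :
    Subgroup.inclusion (eGroup_mono hT) (el Q T a c) = el Q S a c :=
  Subtype.ext (by rw [Subgroup.coe_inclusion, el_val ha hac h1 h2, el_val ha hac (hT h1) (hT h2)])

theorem fixRep_trace (C : Cfg Q S u v) (hψ : ψ ≠ 1) (g : eGroup Q (perp Q S u v)) :
    LinearMap.trace ℂ (LinearMap.range (pr ρ ψ u v 0)) (fixRep ρ (ψ := ψ) C g) =
      LinearMap.trace ℂ V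
        (ρ (Subgroup.inclusion (eGroup_mono perp_le) g) * pr ρ ψ u v 0) := by
  have hc : Commute (ρ (Subgroup.inclusion (eGroup_mono perp_le) g)) (pr ρ ψ u v 0) :=
    C.commute_pr ρ (act_fix_perp C g.2).1 (act_fix_perp C g.2).2 (map_zero _)
  refine Eq.trans ?_ (trace_on_range (C.pr_idem ρ hψ (perp Q S u v).zero_mem) hc ?_)
  · rfl
  · rintro x ⟨z, rfl⟩
    exact ⟨_, (LinearMap.congr_fun hc.eq z).symm⟩

/-- The deficit passes to the fixed space of the radical. -/
theorem Deficit.fix {h : ℕ} (L : OLev Q d (h + 3) S) (C : Cfg Q S u v) (hψ : ψ ≠ 1)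
    (h4 : 4 ≤ Fintype.card F) (hs : Single ρ ψ u v (0 : F)) :
    Deficit (fixRep ρ (ψ := ψ) C) h := by
  intro a c hr
  have LW : OLev Q d (h + 2) (perp Q S u v) := L.perp C.p C.hu C.hv
  obtain ⟨a', c', P⟩ := hr.exists_pairs LW.nd
  obtain ⟨s, hs0, hs2⟩ := exists_square_ne h4
  have ha : a ∈ perp Q (perp Q S u v) c c' := mem_perp.2 ⟨P.hc, P.ac, P.a'c⟩
  have ha' : a' ∈ perp Q (perp Q S u v) c c' := mem_perp.2 ⟨P.hc', P.ac', P.a'c'⟩
  have hcard := ((LW.perp P.p P.ha P.ha').perp P.p' ha ha').card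
  rw [fixRep_trace ρ C hψ, incl_el perp_le P.p'.hu P.be P.hc P.ha,
    hs.trace_fix ρ C hψ P (fun y hy hy0 hQ hye hyb =>
      phase_torus ρ C hψ P hs0 hs2 hy hye hyb ((hs y hy hy0).1 hQ)), hcard]
  push_cast
  rw [show mult ρ ψ u v 0 = Module.finrank ℂ (LinearMap.range (pr ρ ψ u v 0)) from rfl]
  ring

end Cfsg.Agent.SimpleFacts.MinDegOrth
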