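import Mathlib
import Cfsg.Agent.SimpleFacts.MinDegOrth.OddSingle

/-!
The trace of an operator that acts as the reflection negating a hyperplane, computed by descent to
the fixed spaces of radicals.
-/

set_option autoImplicit false
set_option linter.unusedSectionVars false
set_option linter.unusedSimpArgs false

namespace Cfsg.Agent.SimpleFacts.MinDegOrth

open Cfsg.Agent.Forms Cfsg.Agent.Forms.QuadStd Cfsg.Agent.Forms.Reflections
open Cfsg.Agent.Classical.Orth

variable {F : Type*} [Field F] [Fintype F] {ι : Type} [Fintype ι] [DecidableEq ι]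
variable {Q : QuadraticForm F (ι → F)}

local notation "Vec" => (ι → F)
local notation "B" => QuadraticMap.polar Q

variable {S : Submodule F (ι → F)} {u v : ι → F} {d : F}

/-! ### The geometry -/

variable {g : Cfsg.isometryGroup F ⇑Q} {x : ι → F} {η : ℤ} {m : ℕ}

theorem Inv.act_eq (I : Inv Q g x η d m S) {a : Vec} (ha : a ∈ S) :
    act g a = (B x a / Q x) • x - a := by
  obtain ⟨t, ht⟩ : ∃ t, t = B x a / (2 * Q x) := ⟨_, rfl⟩
  have hzH : a - t • x ∈ hyp Q S x := mem_hyp.2 ⟨S.sub_mem ha (S.smul_mem _ I.hx), by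
    rw [QuadraticMap.polar_sub_right, QuadraticMap.polar_smul_right, polar_self', smul_eq_mul, ht,
      div_mul_cancel₀ _ (mul_ne_zero I.olev.two I.hQx), sub_self]⟩
  have h := I.neg _ hzH
  rw [map_sub, map_smul, I.fixx] at h
  have h2 : B x a / Q x = t + t := by
    have h3 := I.olev.two
    have h4 := I.hQx
    rw [ht]; field_simp; ring
  rw [h2]
  linear_combination (norm := module) h

theorem Inv.act_mem' (I : Inv Q g x η d m S) {a : Vec} (ha : a ∈ S) : act g a ∈ S := by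
  rw [I.act_eq ha]; exact S.sub_mem (S.smul_mem _ I.hx) ha

theorem Inv.act_fixed (I : Inv Q g x η d m S) {a : Vec} (ha : a ∈ S) :
    -act g a = a ↔ B x a = 0 := by
  rw [I.act_eq ha]
  refine ⟨fun h => ?_, fun h => by rw [h]; simp⟩
  have h1 : (B x a / Q x) • x = 0 := by linear_combination (norm := module) -h
  rcases smul_eq_zero.1 h1 with h2 | h2
  · exact (div_eq_zero_iff.1 h2).resolve_right I.hQx
  · exact absurd (by rw [h2, QuadraticMap.map_zero]) I.hQx

theorem hyp_mono {T : Submodule F Vec} (h : T ≤ S) : hyp Q T x ≤ hyp Q S x := inf_le_inf_right _ h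

/-! ### Operators -/

/-- An element exchanging two pairs. -/
theorem swap_pairs {a a' c c' : Vec} (h : Pairs Q S a a' c c') :
    ∃ g ∈ eGroup Q S, act g a = c' ∧ act g c' = -a ∧ act g a' = c ∧ act g c = -a' ∧
      ∀ y, B y a = 0 → B y a' = 0 → B y c = 0 → B y c' = 0 → act g y = y := by
  refine ⟨eich a' c' h.p.hv h.a'c' * eich a c h.p.hu h.ac * eich a' c' h.p.hv h.a'c',
    mul_mem (mul_mem (eich_mem _ _ h.ha' h.hc') (eich_mem _ _ h.ha h.hc))
      (eich_mem _ _ h.ha' h.hc'), ?_, ?_, ?_, ?_, ?_⟩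
  all_goals
    intros
    simp only [act_mul, act_eich, map_smul', QuadraticMap.polar_smul_left,
      QuadraticMap.polar_smul_right, QuadraticMap.polar_add_left, QuadraticMap.polar_sub_left,
      h.p'.hu, h.p'.hv, h.p.huv, h.p.hvu, h.p'.huv, h.p'.hvu, polar_self_zero h.p.hu,
      polar_self_zero h.p.hv, polar_self_zero h.p'.hu, polar_self_zero h.p'.hv, h.ac, h.ac',
      h.a'c, h.a'c', QuadraticMap.polar_comm _ c a, QuadraticMap.polar_comm _ c' a,
      QuadraticMap.polar_comm _ c a', QuadraticMap.polar_comm _ c' a', smul_eq_mul, *]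
    match_scalars <;> ring

theorem el_neg_left {a w : Vec} (ha : Q a = 0) (hw : B a w = 0) (h1 : a ∈ S) (h2 : w ∈ S) :
    el Q S (-a) w = el Q S a (-w) := by
  rw [← neg_one_smul F a, el_smul (-1) ha hw h1 h2, neg_one_smul]

variable {V : Type*} [AddCommGroup V] [Module ℂ V] [FiniteDimensional ℂ V]
variable (ρ : Representation ℂ (eGroup Q S) V) {ψ : AddChar F ℂ}

/-- An involution inducing `g` on the group. -/
structure IsSop (g : Cfsg.isometryGroup F ⇑Q) (Sop : Module.End ℂ V) : Prop where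
  sq : Sop * Sop = 1
  conj : ∀ a c, Q a = 0 → QuadraticMap.polar Q a c = 0 → a ∈ S → c ∈ S →
    Sop * ρ (el Q S a c) = ρ (el Q S (act g a) (act g c)) * Sop

variable {Sop : Module.End ℂ V}

theorem IsSop.comm (H : IsSop ρ g Sop) (I : Inv Q g x η d m S) {k : Cfsg.isometryGroup F ⇑Q}
    (hk : k ∈ eGroup Q (hyp Q S x)) :
    Commute Sop (ρ ⟨k, eGroup_mono hyp_le hk⟩) := by
  induction hk using Subgroup.closure_induction with
  | mem k hk =>
    obtain ⟨a, c, ha, hac, h1, h2, rfl⟩ := hk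
    have e : (⟨eich a c ha hac, eGroup_mono hyp_le (eich_mem ha hac h1 h2)⟩ : eGroup Q S) =
        el Q S a c := Subtype.ext (el_val ha hac (hyp_le h1) (hyp_le h2)).symm
    rw [e]
    have h := H.conj a c ha hac (hyp_le h1) (hyp_le h2)
    rw [I.neg a h1, I.neg c h2, el_neg_left ha
      (by rw [QuadraticMap.polar_neg_right, hac, neg_zero]) (hyp_le h1) (S.neg_mem (hyp_le h2)),
      neg_neg] at h
    exact h
  | one => exact (map_one ρ).symm ▸ Commute.one_right _
  | mul a b ha hb iha ihb =>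
    rw [show (⟨a * b, _⟩ : eGroup Q S) = ⟨a, eGroup_mono hyp_le ha⟩ * ⟨b, eGroup_mono hyp_le hb⟩
      from rfl, map_mul]
    exact iha.mul_right ihb
  | inv a ha iha =>
    obtain ⟨k', hk'⟩ : ∃ k' : eGroup Q S, k' = ⟨a, eGroup_mono hyp_le ha⟩ := ⟨_, rfl⟩
    rw [← hk'] at iha
    rw [show (⟨a⁻¹, _⟩ : eGroup Q S) = k'⁻¹ by rw [hk']; rfl]
    have h1 : ρ k' * ρ k'⁻¹ = 1 := by rw [← map_mul, mul_inv_cancel, map_one]
    have h2 : ρ k'⁻¹ * ρ k' = 1 := by rw [← map_mul, inv_mul_cancel, map_one]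
    show Sop * ρ k'⁻¹ = ρ k'⁻¹ * Sop
    calc Sop * ρ k'⁻¹ = ρ k'⁻¹ * (ρ k' * Sop) * ρ k'⁻¹ := by
          rw [← mul_assoc (ρ k'⁻¹) (ρ k'), h2, one_mul]
      _ = ρ k'⁻¹ * Sop := by rw [← iha.eq, mul_assoc, mul_assoc, h1, mul_one]

/-- The operator permutes the characters of the radical. -/
theorem IsSop.mul_pr (H : IsSop ρ g Sop) (I : Inv Q g x η d m S) (C : Cfg Q S u v)
    (hu : u ∈ hyp Q S x) (hv : v ∈ hyp Q S x) (y : Vec) :
    Sop * pr ρ ψ u v y = pr ρ ψ u v (-act g y) * Sop := by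
  have hmem : ∀ w ∈ perp Q S u v, -act g w ∈ perp Q S u v := by
    intro w hw
    rw [I.act_eq (perp_le hw), neg_sub]
    exact (perp Q S u v).sub_mem hw ((perp Q S u v).smul_mem _ (mem_perp.2 ⟨I.hx,
      by rw [QuadraticMap.polar_comm]; exact (mem_hyp.1 hu).2,
      by rw [QuadraticMap.polar_comm]; exact (mem_hyp.1 hv).2⟩))
  simp only [pr, mul_smul_comm, smul_mul_assoc, Finset.mul_sum, Finset.sum_mul]
  congr 1
  let f : perp Q S u v → perp Q S u v := fun w => ⟨-act g w.1, hmem _ w.2⟩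
  have hf : Function.Bijective f := Finite.injective_iff_bijective.1 fun a b h => by
    exact Subtype.ext (act_inj g (neg_injective (congrArg Subtype.val h)))
  refine Fintype.sum_equiv (Equiv.ofBijective f hf) _ _ fun w => ?_
  show ψ (-B y w.1) • (Sop * ρ (el Q S u w.1)) =
    ψ (-B (-act g y) (-act g w.1)) • (ρ (el Q S u (-act g w.1)) * Sop)
  have hgw : B u (act g w.1) = 0 := by
    have h := act_polar g u w.1
    rw [I.neg u hu, perp_left w.2, QuadraticMap.polar_neg_left] at h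
    exact neg_eq_zero.1 h
  rw [QuadraticMap.polar_neg_left, QuadraticMap.polar_neg_right, neg_neg, act_polar,
    H.conj u w.1 C.p.hu (perp_left w.2) C.hu (perp_le w.2), I.neg u hu,
    el_neg_left C.p.hu hgw C.hu (I.act_mem' (perp_le w.2))]

theorem Cfg.mul_el (C : Cfg Q S u v) {w : Vec} (hw : w ∈ perp Q S u v) (y : Vec) :
    pr ρ ψ u v y * ρ (el Q S u w) = ρ (el Q S u w) * pr ρ ψ u v y := by
  simp only [pr, mul_smul_comm, smul_mul_assoc, Finset.mul_sum, Finset.sum_mul, ← map_mul]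
  congr 1
  refine Finset.sum_congr rfl fun z _ => ?_
  rw [← C.el_add' z.2 hw, ← C.el_add' hw z.2, add_comm]

/-- The trace of an involution. -/
theorem involution_trace {A : Module.End ℂ V} (hA : A * A = 1) :
    ∃ r : ℕ, r ≤ Module.finrank ℂ V ∧
      LinearMap.trace ℂ V A = (((Module.finrank ℂ V : ℤ) - 2 * r : ℤ) : ℂ) ∧
      LinearMap.det A = (-1) ^ r := by
  obtain ⟨P, hP⟩ : ∃ P : Module.End ℂ V, P = (2 : ℂ)⁻¹ • (1 - A) := ⟨_, rfl⟩
  have hPP : P * P = P := by
    rw [hP, smul_mul_assoc, mul_smul_comm, sub_mul, mul_sub, one_mul, mul_sub, hA, mul_one, one_mul]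
    module
  have hAP : A = 1 - (2 : ℂ) • P := by
    rw [hP, smul_smul, mul_inv_cancel₀ (two_ne_zero : (2 : ℂ) ≠ 0), one_smul, sub_sub_cancel]
  refine ⟨Module.finrank ℂ (LinearMap.range P), Submodule.finrank_le _, ?_, ?_⟩
  · rw [hAP, map_sub, map_smul, LinearMap.trace_one, trace_proj hPP, smul_eq_mul]
    push_cast
    ring
  · have hproj : LinearMap.IsProj (LinearMap.range P) P :=
      ⟨fun x => LinearMap.mem_range_self P x, fun x ⟨z, hz⟩ => by
        rw [← hz, ← Module.End.mul_apply, hPP]⟩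
    let e := Submodule.prodEquivOfIsCompl _ _ hproj.isCompl
    have hconj : (A : V →ₗ[ℂ] V) = (e : _ →ₗ[ℂ] V) ∘ₗ
        (LinearMap.prodMap ((-1 : ℂ) • (1 : Module.End ℂ (LinearMap.range P)))
          (1 : Module.End ℂ (LinearMap.ker P))) ∘ₗ (e.symm : V →ₗ[ℂ] _) := by
      refine LinearMap.ext fun z => ?_
      obtain ⟨⟨a, b⟩, rfl⟩ := e.surjective z
      simp only [LinearMap.coe_comp, LinearEquiv.coe_coe, Function.comp_apply,
        LinearEquiv.symm_apply_apply]
      show A (a.1 + b.1) = (((-1 : ℂ) • a : LinearMap.range P) : V) + b.1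
      rw [hAP, LinearMap.sub_apply, LinearMap.smul_apply, Module.End.one_apply, map_add,
        hproj.map_id a.1 a.2, LinearMap.mem_ker.1 b.2, add_zero, Submodule.coe_smul]
      module
    rw [hconj, LinearMap.det_conj, LinearMap.det_prodMap, LinearMap.det_smul, map_one, map_one]
    ring

theorem sum_signs {α : Type*} (s : Finset α) (σ : α → ℤ) (h : ∀ a ∈ s, σ a = 1 ∨ σ a = -1) :
    |∑ a ∈ s, σ a| ≤ s.card ∧ 2 ∣ ∑ a ∈ s, σ a - s.card := by
  refine ⟨(Finset.abs_sum_le_sum_abs _ _).trans ?_, ?_⟩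
  · rw [Finset.sum_congr rfl (g := fun _ => (1 : ℤ)) fun a ha => by
      rcases h a ha with e | e <;> rw [e] <;> rfl, Finset.sum_const, nsmul_eq_mul, mul_one]
  · rw [show (s.card : ℤ) = ∑ a ∈ s, 1 by simp, ← Finset.sum_sub_distrib]
    refine Finset.dvd_sum fun a ha => ?_
    rcases h a ha with e | e <;> rw [e] <;> norm_num

open _root_.Classical in
/-- The singular characters fixed by the operator. -/
noncomputable def fixedSet (Q : QuadraticForm F (ι → F)) (S : Submodule F (ι → F)) (u v x : ι → F) :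
    Finset (perp Q S u v) :=
  (levSet Q S u v 0).filter fun y => QuadraticMap.polar Q x y.1 = 0

theorem mem_fixedSet {y : perp Q S u v} :
    y ∈ fixedSet Q S u v x ↔ (y.1 ≠ 0 ∧ Q y.1 = 0) ∧ B x y.1 = 0 := by
  simp [fixedSet, levSet]

theorem card_fixedSet {h : ℕ} (L : Lev Q η (h + 1) (hyp Q (perp Q S u v) x)) :
    ((fixedSet Q S u v x).card : ℤ) =
      ((Fintype.card F : ℤ) ^ (h + 1) - η) * ((Fintype.card F : ℤ) ^ h + η) := by
  classical
  rw [← L.sing_count]
  have h1 : (fixedSet Q S u v x).card + 1 = cnt Q (hyp Q (perp Q S u v) x) 0 := by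
    have h2 : ((Finset.univ : Finset (perp Q S u v)).filter
        fun y => Q y.1 = 0 ∧ B x y.1 = 0).card = cnt Q (hyp Q (perp Q S u v) x) 0 := by
      rw [← Fintype.card_subtype, ← Nat.card_eq_fintype_card]
      exact Nat.card_congr
        { toFun := fun y => ⟨⟨y.1.1, mem_hyp.2 ⟨y.1.2, y.2.2⟩⟩, y.2.1⟩
          invFun := fun z => ⟨⟨z.1.1, hyp_le z.1.2⟩, z.2, (mem_hyp.1 z.1.2).2⟩
          left_inv := fun y => rfl
          right_inv := fun z => rfl }
    rw [← h2, ← Finset.card_erase_add_one (s := (Finset.univ : Finset (perp Q S u v)).filter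
      fun y => Q y.1 = 0 ∧ B x y.1 = 0) (a := 0) (by simp)]
    congr 2
    ext y
    simp only [mem_fixedSet, Finset.mem_erase, Finset.mem_filter, Finset.mem_univ, true_and, ne_eq,
      ZeroMemClass.coe_eq_zero, and_assoc]
  rw [← h1]
  push_cast
  ring

/-- The operator is a sign on each fixed singular character. -/
theorem IsSop.sign (H : IsSop ρ g Sop) (I : Inv Q g x η d m S) (C : Cfg Q S u v) (hψ : ψ ≠ 1)
    (hu : u ∈ hyp Q S x) (hv : v ∈ hyp Q S x) (hs : Single ρ ψ u v (0 : F))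
    {y : Vec} (hy : y ∈ perp Q S u v) (hy0 : y ≠ 0) (hQ : Q y = 0) (hxy : B x y = 0) :
    ∃ σ : ℤ, (σ = 1 ∨ σ = -1) ∧ Sop * pr ρ ψ u v y = (σ : ℂ) • pr ρ ψ u v y := by
  have htr : LinearMap.trace ℂ V (pr ρ ψ u v y) = 1 := by
    rw [C.trace_pr ρ hψ hy, (hs y hy hy0).1 hQ, Nat.cast_one]
  have hcomm : Commute Sop (pr ρ ψ u v y) := by
    show Sop * pr ρ ψ u v y = pr ρ ψ u v y * Sop
    rw [H.mul_pr ρ I C hu hv, (I.act_fixed (perp_le hy)).2 hxy]
  obtain ⟨α, hα⟩ := scalar_on_line (C.pr_idem ρ hψ hy) htr hcomm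
  have h2 : (α * α) • pr ρ ψ u v y = (1 : ℂ) • pr ρ ψ u v y := by
    calc (α * α) • pr ρ ψ u v y = α • (Sop * pr ρ ψ u v y) := by rw [hα, smul_smul]
      _ = Sop * (Sop * pr ρ ψ u v y) := by rw [← mul_smul_comm, ← hα]
      _ = (1 : ℂ) • pr ρ ψ u v y := by rw [← mul_assoc, H.sq, one_mul, one_smul]
  have hne : pr ρ ψ u v y ≠ 0 := fun h0 => by rw [h0, map_zero] at htr; exact zero_ne_one htr
  rcases mul_self_eq_one_iff.1 (smul_left_injective ℂ hne h2) with e | e
  · exact ⟨1, Or.inl rfl, by rw [hα, e]; simp⟩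
  · exact ⟨-1, Or.inr rfl, by rw [hα, e]; simp⟩

/-- The trace is the trace on the fixed space plus the signs. -/
theorem IsSop.trace_split (H : IsSop ρ g Sop) (I : Inv Q g x η d m S) (C : Cfg Q S u v) (hψ : ψ ≠ 1)
    (hu : u ∈ hyp Q S x) (hv : v ∈ hyp Q S x) (hs : Single ρ ψ u v (0 : F))
    (σ : perp Q S u v → ℤ)
    (hσ : ∀ y ∈ fixedSet Q S u v x, Sop * pr ρ ψ u v y.1 = (σ y : ℂ) • pr ρ ψ u v y.1) :
    LinearMap.trace ℂ V Sop = LinearMap.trace ℂ V (Sop * pr ρ ψ u v 0) +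
      ((∑ y ∈ fixedSet Q S u v x, σ y : ℤ) : ℂ) := by
  classical
  rw [C.trace_eq ρ hψ Sop, ← Finset.add_sum_erase _ _ (Finset.mem_univ (0 : perp Q S u v))]
  congr 1
  have hmem : ∀ y : perp Q S u v, -act g y.1 ∈ perp Q S u v := by
    intro y
    rw [I.act_eq (perp_le y.2), neg_sub]
    exact (perp Q S u v).sub_mem y.2 ((perp Q S u v).smul_mem _ (mem_perp.2 ⟨I.hx,
      by rw [QuadraticMap.polar_comm]; exact (mem_hyp.1 hu).2,
      by rw [QuadraticMap.polar_comm]; exact (mem_hyp.1 hv).2⟩))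
  rw [Int.cast_sum, Finset.sum_congr rfl (g := fun y : perp Q S u v =>
    if y ∈ fixedSet Q S u v x then (σ y : ℂ) else 0) fun y hy => ?_, ← Finset.sum_filter]
  · refine Finset.sum_congr ?_ fun y _ => rfl
    ext y
    simp only [Finset.mem_filter, Finset.mem_erase, Finset.mem_univ, and_true, ne_eq,
      and_iff_right_iff_imp]
    intro hy h0
    exact (mem_fixedSet.1 hy).1.1 (by rw [h0]; rfl)
  have hy0 : y.1 ≠ 0 := fun h0 => Finset.ne_of_mem_erase hy (Subtype.ext h0)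
  by_cases hQ : Q y.1 = 0
  · by_cases hxy : B x y.1 = 0
    · have hf : y ∈ fixedSet Q S u v x := mem_fixedSet.2 ⟨⟨hy0, hQ⟩, hxy⟩
      rw [if_pos hf, hσ y hf, map_smul, C.trace_pr ρ hψ y.2, (hs y.1 y.2 hy0).1 hQ, Nat.cast_one,
        smul_eq_mul, mul_one]
    · rw [if_neg (fun h' => hxy (mem_fixedSet.1 h').2), ← C.pr_idem ρ hψ y.2, ← mul_assoc,
        LinearMap.trace_mul_comm, H.mul_pr ρ I C hu hv, ← mul_assoc,
        C.pr_mul ρ hψ y.2 (hmem y),
        if_neg (fun h' : y.1 = -act g y.1 => hxy ((I.act_fixed (perp_le y.2)).1 h'.symm)), zero_mul, map_zero]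
  · have h0 := (hs y.1 y.2 hy0).2 hQ
    rw [mult, Submodule.finrank_eq_zero, LinearMap.range_eq_bot] at h0
    rw [if_neg (fun h' => hQ (mem_fixedSet.1 h').1.2), h0, mul_zero, map_zero]

/-- One sign for all the fixed singular characters. -/
theorem IsSop.const_sign {h : ℕ} (H : IsSop ρ g Sop) (I : Inv Q g x η d (h + 3) S)
    (C : Cfg Q S u v) (hψ : ψ ≠ 1) (hu : u ∈ hyp Q S x) (hv : v ∈ hyp Q S x)
    (hs : Single ρ ψ u v (0 : F)) :
    ∃ ω : ℤ, (ω = 1 ∨ ω = -1) ∧ ∀ y ∈ perp Q S u v, y ≠ 0 → Q y = 0 → B x y = 0 →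
      Sop * pr ρ ψ u v y = (ω : ℂ) • pr ρ ψ u v y := by
  have I1 := I.perp C.p hu hv
  obtain ⟨e, e', he, he', hp⟩ := I1.hev.exists_pair (Or.inl (by omega))
  obtain ⟨he1, he2⟩ := mem_hyp.1 he
  obtain ⟨ω, hω, hωe⟩ := H.sign ρ I C hψ hu hv hs he1 (pair_ne_zero hp) hp.hu he2
  refine ⟨ω, hω, fun y hy hy0 hQ hxy => ?_⟩
  obtain ⟨k, hk, hke⟩ := vec_move hp he he' I1.hev.nd (I1.hev.hval hp he he') he
    (mem_hyp.2 ⟨hy, hxy⟩) (pair_ne_zero hp) hy0 (hp.hu.trans hQ.symm)
  obtain ⟨k', hk'⟩ : ∃ k' : eGroup Q S,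
      k' = ⟨k, eGroup_mono hyp_le (eGroup_mono (hyp_mono perp_le) hk)⟩ := ⟨_, rfl⟩
  have hkW : k ∈ eGroup Q (perp Q S u v) := eGroup_mono hyp_le hk
  have hc : Commute Sop (ρ k') := by
    rw [hk']; exact H.comm ρ I (eGroup_mono (hyp_mono perp_le) hk)
  have h1 := C.fix_mul_pr ρ (ψ := ψ) (g := k') (by rw [hk']; exact (act_fix_perp C hkW).1)
    (by rw [hk']; exact (act_fix_perp C hkW).2) e
  rw [show act k'.1 e = y by rw [hk']; exact hke] at h1
  have h2 : Sop * pr ρ ψ u v y * ρ k' = (ω : ℂ) • pr ρ ψ u v y * ρ k' := by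
    rw [mul_assoc, ← h1, ← mul_assoc, hc.eq, mul_assoc, hωe, mul_smul_comm, h1, smul_mul_assoc]
  have h3 := congrArg (fun X => X * ρ k'⁻¹) h2
  simpa only [mul_assoc, ← map_mul, mul_inv_cancel, map_one, mul_one] using h3

/-! ### The fixed space -/

theorem Inv.act_perp (I : Inv Q g x η d m S) (hu : u ∈ hyp Q S x) (hv : v ∈ hyp Q S x) {a : Vec}
    (ha : a ∈ MinDegOrth.perp Q S u v) : act g a ∈ MinDegOrth.perp Q S u v := by
  rw [I.act_eq (perp_le ha)]
  exact (MinDegOrth.perp Q S u v).sub_mem ((MinDegOrth.perp Q S u v).smul_mem _ (mem_perp.2 ⟨I.hx,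
    by rw [QuadraticMap.polar_comm]; exact (mem_hyp.1 hu).2,
    by rw [QuadraticMap.polar_comm]; exact (mem_hyp.1 hv).2⟩)) ha

theorem IsSop.restrict_range (H : IsSop ρ g Sop) (I : Inv Q g x η d m S) (C : Cfg Q S u v)
    (hu : u ∈ hyp Q S x) (hv : v ∈ hyp Q S x) :
    Commute Sop (pr ρ ψ u v 0) ∧
      ∀ z ∈ LinearMap.range (pr ρ ψ u v 0), Sop z ∈ LinearMap.range (pr ρ ψ u v 0) := by
  have hc : Commute Sop (pr ρ ψ u v 0) := by
    show Sop * pr ρ ψ u v 0 = pr ρ ψ u v 0 * Sop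
    rw [H.mul_pr ρ I C hu hv, map_zero, neg_zero]
  exact ⟨hc, fun z ⟨w, hw⟩ => ⟨Sop w, by rw [← hw]; exact (LinearMap.congr_fun hc.eq w).symm⟩⟩

theorem IsSop.fix (H : IsSop ρ g Sop) (I : Inv Q g x η d m S) (C : Cfg Q S u v)
    (hu : u ∈ hyp Q S x) (hv : v ∈ hyp Q S x) :
    IsSop (fixRep ρ (ψ := ψ) C) g
      (LinearMap.restrict Sop (H.restrict_range ρ I C hu hv).2) := by
  refine ⟨LinearMap.ext fun z => Subtype.ext ?_, fun a c ha hac h1 h2 =>
    LinearMap.ext fun z => Subtype.ext ?_⟩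
  · exact LinearMap.congr_fun H.sq z.1
  · have h := LinearMap.congr_fun (H.conj a c ha hac (perp_le h1) (perp_le h2)) z.1
    show Sop (ρ (Subgroup.inclusion (eGroup_mono perp_le) (el Q (perp Q S u v) a c)) z.1) =
      ρ (Subgroup.inclusion (eGroup_mono perp_le) (el Q (perp Q S u v) (act g a) (act g c))) (Sop z.1)
    rw [incl_el perp_le ha hac h1 h2, incl_el perp_le (by rw [act_map]; exact ha)
      (by rw [act_polar]; exact hac) (I.act_perp hu hv h1) (I.act_perp hu hv h2)]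
    exact h

/-- The sign on the fixed space agrees with the sign outside it. -/
theorem IsSop.link {h : ℕ} (H : IsSop ρ g Sop) (I : Inv Q g x η d (h + 4) S)
    (C : Cfg Q S u v) (hψ : ψ ≠ 1) (hu : u ∈ hyp Q S x) (hv : v ∈ hyp Q S x) {e e' b : Vec}
    (hp : IsPair Q e e') (he : e ∈ hyp Q (perp Q S u v) x) (he' : e' ∈ hyp Q (perp Q S u v) x)
    (hb : b ∈ perp Q (perp Q S u v) e e') (hb0 : b ≠ 0) (hQb : Q b = 0) (hxb : B x b = 0)
    (hne : mult (fixRep ρ (ψ := ψ) C) ψ e e' b = 1) {ω ω' : ℤ}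
    (hω : ∀ y ∈ perp Q S u v, y ≠ 0 → Q y = 0 → B x y = 0 →
      Sop * pr ρ ψ u v y = (ω : ℂ) • pr ρ ψ u v y)
    (hω' : LinearMap.restrict Sop (H.restrict_range ρ I C hu hv).2 *
        pr (fixRep ρ (ψ := ψ) C) ψ e e' b = (ω' : ℂ) • pr (fixRep ρ (ψ := ψ) C) ψ e e' b) :
    ω = ω' := by
  classical
  set W := perp Q S u v with hW
  have C' : Cfg Q W e e' := ⟨perp_nd C.p C.hu C.hv C.nd, hp, hyp_le he, hyp_le he'⟩
  -- a vector of the fixed space on the line of `b`
  obtain ⟨r₀, hr0⟩ : ∃ z, pr (fixRep ρ (ψ := ψ) C) ψ e e' b z ≠ 0 := by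
    by_contra hcon
    push Not at hcon
    have h0 : pr (fixRep ρ (ψ := ψ) C) ψ e e' b = 0 := LinearMap.ext hcon
    rw [mult, h0, LinearMap.range_zero, finrank_bot] at hne
    exact zero_ne_one hne
  obtain ⟨r, hr⟩ : ∃ r, r = pr (fixRep ρ (ψ := ψ) C) ψ e e' b r₀ := ⟨_, rfl⟩
  rw [← hr] at hr0
  have hrz : r.1 ≠ 0 := fun h0 => hr0 (Subtype.ext h0)
  have hSr : Sop r.1 = (ω' : ℂ) • r.1 := by
    have h1 := congrArg Subtype.val (LinearMap.congr_fun hω' r₀)
    rw [hr]
    exact h1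
  have hrad : ∀ w ∈ W, ρ (el Q S u w) r.1 = r.1 := by
    intro w hw
    obtain ⟨z, hz⟩ := r.2
    have h1 := LinearMap.congr_fun (C.el_mul_pr ρ (ψ := ψ) hw 0) z
    rw [Module.End.mul_apply, QuadraticMap.polar_zero_left, AddChar.map_zero_eq_one, one_smul, hz] at h1
    exact h1
  have hrad' : ∀ w ∈ perp Q W e e', ρ (el Q S e w) r.1 = ψ (B b w) • r.1 := by
    intro w hw
    have h1 := LinearMap.congr_fun (C'.el_mul_pr (fixRep ρ (ψ := ψ) C) (ψ := ψ) hw b) r₀
    rw [Module.End.mul_apply, ← hr, LinearMap.smul_apply, ← hr] at h1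
    have h2 := congrArg Subtype.val h1
    rw [← incl_el (S := S) perp_le hp.hu (perp_left hw) (hyp_le he) (perp_le hw)]
    exact h2
  -- the element exchanging `u` and `e`
  have huH := hu
  have P : Pairs Q (hyp Q S x) u v e' e := ⟨C.p, hp.symm, perp_left (hyp_le he'),
    perp_left (hyp_le he), perp_right (hyp_le he'), perp_right (hyp_le he), hu, hv,
    hyp_mono perp_le he', hyp_mono perp_le he⟩
  obtain ⟨t, ht, htu, hte, htv, hte', htfix⟩ := swap_pairs P
  obtain ⟨t', ht'⟩ : ∃ t' : eGroup Q S, t' = ⟨t, eGroup_mono hyp_le ht⟩ := ⟨_, rfl⟩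
  have htc : Commute Sop (ρ t') := by rw [ht']; exact H.comm ρ I ht
  obtain ⟨r', hr'⟩ : ∃ r', r' = ρ t' r.1 := ⟨_, rfl⟩
  have hr'0 : r' ≠ 0 := by
    intro h0
    refine hrz ?_
    have h1 : ρ t'⁻¹ r' = r.1 := by
      rw [hr', ← Module.End.mul_apply, ← map_mul, inv_mul_cancel, map_one, Module.End.one_apply]
    rw [← h1, h0, map_zero]
  have hSr' : Sop r' = (ω' : ℂ) • r' := by
    rw [hr', ← Module.End.mul_apply, htc.eq, Module.End.mul_apply, hSr, map_smul]
  have heS : e ∈ S := perp_le (hyp_le he)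
  have hue : B u e = 0 := perp_left (hyp_le he)
  have hrad₂ : ∀ w ∈ perp Q W e e', ρ (el Q S u w) r' = ψ (-B b w) • r' := by
    intro w hw
    have hwS : w ∈ S := perp_le (perp_le hw)
    have hfix : act t w = w := htfix w (perp_left' (perp_le hw)) (perp_right' (perp_le hw))
      (perp_right' hw) (perp_left' hw)
    have hew : B (-e) w = 0 := by rw [QuadraticMap.polar_neg_left, perp_left hw, neg_zero]
    have h1 : el Q S u w = t' * el Q S (-e) w * t'⁻¹ := by
      rw [el_conj t' (by rw [QuadraticMap.map_neg]; exact hp.hu) hew (S.neg_mem heS) hwS]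
      subst ht'
      rw [map_neg, hte, hfix, neg_neg]
    have h2 : el Q S u w * t' = t' * el Q S e (-w) := by
      rw [h1, inv_mul_cancel_right, el_neg_left hp.hu (perp_left hw) heS hwS]
    have h3 := hrad' (-w) ((perp Q W e e').neg_mem hw)
    rw [QuadraticMap.polar_neg_right] at h3
    rw [hr', ← Module.End.mul_apply, ← map_mul, h2, map_mul, Module.End.mul_apply, h3, map_smul]
  have hline : ∀ s : F, ρ (el Q S u (s • e)) r' = r' := by
    intro s
    have hse : B u (s • e) = 0 := by rw [QuadraticMap.polar_smul_right, hue, smul_zero]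
    have hesu : B (-e) (s • u) = 0 := by
      rw [QuadraticMap.polar_neg_left, QuadraticMap.polar_smul_right,
        QuadraticMap.polar_comm _ e u, hue, smul_zero, neg_zero]
    have hne' : Q (-e) = 0 := by rw [QuadraticMap.map_neg]; exact hp.hu
    have e1 : el Q S (-e) (s • u) = el Q S u (s • e) := by
      refine Subtype.ext ?_
      rw [el_val hne' hesu (S.neg_mem heS) (S.smul_mem _ C.hu),
        el_val C.p.hu hse C.hu (S.smul_mem _ heS)]
      refine act_ext fun z => ?_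
      simp only [act_eich, QuadraticMap.polar_neg_right, QuadraticMap.polar_smul_right, map_smul',
        C.p.hu, hp.hu, smul_eq_mul]
      module
    have h1 : el Q S u (s • e) = t' * el Q S (-e) (s • u) * t'⁻¹ := by
      rw [el_conj t' hne' hesu (S.neg_mem heS) (S.smul_mem _ C.hu)]
      subst ht'
      rw [map_neg, hte, neg_neg, map_smul, htu]
    have h2 : el Q S u (s • e) * t' = t' * el Q S u (s • e) := by
      conv_lhs => rw [h1, inv_mul_cancel_right, e1]
    rw [hr', ← Module.End.mul_apply, ← map_mul, h2, map_mul, Module.End.mul_apply,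
      hrad _ (W.smul_mem _ (hyp_le he))]
  -- a component of `r'`
  obtain ⟨y, hyr⟩ : ∃ y : W, pr ρ ψ u v y.1 r' ≠ 0 := by
    by_contra hcon
    push Not at hcon
    refine hr'0 ?_
    have h1 := LinearMap.congr_fun (C.sum_pr ρ (ψ := ψ) hψ) r'
    rw [LinearMap.sum_apply, Module.End.one_apply, Finset.sum_eq_zero fun y _ => hcon y] at h1
    exact h1.symm
  have heq : ∀ w ∈ W, ∀ c : ℂ, ρ (el Q S u w) r' = c • r' → ψ (B y.1 w) = c := by
    intro w hw c hc
    have h2 := LinearMap.congr_fun (C.mul_el ρ (ψ := ψ) hw y.1) r'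
    rw [C.el_mul_pr ρ hw, Module.End.mul_apply, LinearMap.smul_apply, hc, map_smul] at h2
    exact smul_left_injective ℂ hyr h2.symm
  have hψeq : ∀ a a' : F, (∀ s : F, ψ (s * a) = ψ (s * a')) → a = a' := by
    intro a a' h1
    by_contra hne'
    have h2 := sum_char_mul hψ (a - a')
    rw [if_neg (sub_ne_zero.2 hne'), Finset.sum_congr rfl (g := fun _ => (1 : ℂ)) fun s _ => by
      rw [mul_sub, sub_eq_add_neg, AddChar.map_add_eq_mul, h1, ← AddChar.map_add_eq_mul,
        add_neg_cancel, AddChar.map_zero_eq_one]] at h2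
    simp at h2
  have hye : B y.1 e = 0 := hψeq _ _ fun s => by
    have h1 := heq _ (W.smul_mem s (hyp_le he)) 1 (by rw [hline, one_smul])
    rw [QuadraticMap.polar_smul_right, smul_eq_mul] at h1
    rw [h1, mul_zero, AddChar.map_zero_eq_one]
  have hyw : ∀ w ∈ perp Q W e e', B (y.1 + b) w = 0 := by
    intro w hw
    have hyw' : B y.1 w = -B b w := hψeq _ _ fun s => by
      have h1 := heq _ (W.smul_mem s (perp_le hw)) _
        (hrad₂ _ ((perp Q W e e').smul_mem s hw))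
      rw [QuadraticMap.polar_smul_right, QuadraticMap.polar_smul_right, smul_eq_mul,
        smul_eq_mul] at h1
      rw [h1, mul_neg]
    rw [QuadraticMap.polar_add_left, hyw', neg_add_cancel]
  have hbW : b ∈ W := perp_le hb
  have hyb : y.1 = B y.1 e' • e - b := by
    have hz : proj Q e e' (y.1 + b) = 0 := by
      refine (perp_nd hp (hyp_le he) (hyp_le he') C'.nd) _
        (proj_mem_perp hp (hyp_le he) (hyp_le he') (W.add_mem y.2 hbW)) fun w hw => ?_
      rw [proj, QuadraticMap.polar_sub_left, QuadraticMap.polar_sub_left,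
        QuadraticMap.polar_smul_left, QuadraticMap.polar_smul_left, hyw w hw, perp_left hw,
        perp_right hw]
      simp
    have h1 := proj_add (Q := Q) e e' (y.1 + b)
    rw [hz, QuadraticMap.polar_add_left, QuadraticMap.polar_add_left, hye, perp_left' hb,
      perp_right' hb] at h1
    simp only [add_zero, zero_smul] at h1
    exact eq_sub_of_add_eq h1
  have hy0 : y.1 ≠ 0 := by
    intro h0
    rw [h0, QuadraticMap.polar_zero_left, zero_smul, zero_sub] at hyb
    exact hb0 (neg_eq_zero.1 hyb.symm)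
  have hQy : Q y.1 = 0 := by
    rw [hyb, Cfsg.Agent.Classical.Orth.map_sub', map_smul', hp.hu, hQb,
      QuadraticMap.polar_smul_left, perp_left hb]
    simp
  have hxy : B x y.1 = 0 := by
    rw [hyb, QuadraticMap.polar_sub_right, QuadraticMap.polar_smul_right, (mem_hyp.1 he).2, hxb]
    simp
  have hk : (ω : ℂ) • pr ρ ψ u v y.1 r' = (ω' : ℂ) • pr ρ ψ u v y.1 r' := by
    rw [← map_smul (pr ρ ψ u v y.1) (ω' : ℂ), ← hSr', ← LinearMap.smul_apply, ← hω y.1 y.2 hy0 hQy hxy,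
      H.mul_pr ρ I C hu hv, (I.act_fixed (perp_le y.2)).2 hxy, Module.End.mul_apply]
  exact Int.cast_injective (smul_left_injective ℂ hyr hk)

/-! ### The recursion -/

/-- The part of the trace determined by the descent. -/
def mainTerm (q : ℕ) (η : ℤ) (h : ℕ) : ℤ := dg q η h - dg q η 0 - h

/-- The room left by the lower bound on the degree. -/
def room (q : ℕ) (η : ℤ) (h k : ℕ) : ℤ :=
  (k : ℤ) - (tg q (h + 2) - ((h : ℤ) + 2)) + ((q : ℤ) - η) * (1 + η)

theorem inv_spec (h4 : 4 ≤ Fintype.card F) (hψ : ψ ≠ 1) : ∀ (h : ℕ) {S : Submodule F Vec}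
    (_ : Inv Q g x η d (h + 2) S) {V : Type} [AddCommGroup V] [Module ℂ V] [FiniteDimensional ℂ V]
    (ρ : Representation ℂ (eGroup Q S) V) (Sop : Module.End ℂ V), Deficit ρ h → IsSop ρ g Sop →
    ∀ {u v : Vec}, IsPair Q u v → u ∈ hyp Q S x → v ∈ hyp Q S x →
      tg (Fintype.card F) (h + 2) - ((h : ℤ) + 2) ≤ Module.finrank ℂ V ∧
      ∃ ω E : ℤ, (ω = 1 ∨ ω = -1) ∧
        LinearMap.trace ℂ V Sop = ((ω * mainTerm (Fintype.card F) η h + E : ℤ) : ℂ) ∧
        |E| ≤ room (Fintype.card F) η h (Module.finrank ℂ V) ∧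
        2 ∣ E - room (Fintype.card F) η h (Module.finrank ℂ V) ∧
        (1 ≤ h → ∀ y ∈ perp Q S u v, y ≠ 0 → Q y = 0 → B x y = 0 →
          Sop * pr ρ ψ u v y = (ω : ℂ) • pr ρ ψ u v y) := by
  intro h
  induction h with
  | zero =>
    intro S I V _ _ _ ρ Sop hd H u v hp hu hv
    classical
    have C : Cfg Q S u v := ⟨I.olev.nd, hp, hyp_le hu, hyp_le hv⟩
    have hs := hd.single ρ I.olev C hψ h4
    have hk := hs.finrank_odd ρ I.olev C hψ
    obtain ⟨hc, hr⟩ := H.restrict_range ρ I C (ψ := ψ) hu hv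
    have I1 := I.perp hp hu hv
    choose σ hσ1 hσ2 using fun (y : perp Q S u v) (hy : y ∈ fixedSet Q S u v x) =>
      H.sign ρ I C hψ hu hv hs y.2 (mem_fixedSet.1 hy).1.1 (mem_fixedSet.1 hy).1.2
        (mem_fixedSet.1 hy).2
    let τ : perp Q S u v → ℤ := fun y => if hy : y ∈ fixedSet Q S u v x then σ y hy else 0
    have hτ : ∀ y (hy : y ∈ fixedSet Q S u v x), τ y = σ y hy := fun y hy => dif_pos hy
    have htr := H.trace_split ρ I C hψ hu hv hs τ fun y hy => by rw [hτ y hy]; exact hσ2 y hy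
    obtain ⟨h1, h2⟩ := sum_signs (fixedSet Q S u v x) τ fun y hy => by rw [hτ y hy]; exact hσ1 y hy
    rw [card_fixedSet I1.hev] at h1 h2
    obtain ⟨r, hr1, hr2, -⟩ := involution_trace (H.fix ρ I C (ψ := ψ) hu hv).sq
    rw [trace_on_range (C.pr_idem ρ hψ (perp Q S u v).zero_mem) hc hr] at hr2
    rw [show Module.finrank ℂ (LinearMap.range (pr ρ ψ u v 0)) = mult ρ ψ u v 0 from rfl] at hr1 hr2
    rw [hr2, ← Int.cast_add] at htr
    set q := Fintype.card F with hq
    have htg : tg q 2 = 1 + (q : ℤ) ^ 2 := by simp [tg]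
    have hroom : room q η 0 (Module.finrank ℂ V) =
        (mult ρ ψ u v 0 : ℤ) + ((q : ℤ) - η) * (1 + η) := by
      simp only [room, htg, Nat.zero_add, Nat.cast_zero, hk]
      ring
    simp only [Nat.zero_add, pow_zero, pow_one, Nat.mul_zero] at h1 h2 hk
    obtain ⟨E, hE⟩ : ∃ E, E = (mult ρ ψ u v 0 : ℤ) - 2 * r + ∑ y ∈ fixedSet Q S u v x, τ y :=
      ⟨_, rfl⟩
    refine ⟨?_, 1, E, Or.inl rfl, ?_, ?_, ?_, fun h' => absurd h' (by omega)⟩
    · simp only [Nat.zero_add, Nat.cast_zero, htg]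
      have : (0 : ℤ) ≤ (mult ρ ψ u v 0 : ℤ) := Int.natCast_nonneg _
      linarith
    · rw [htr, show (1 : ℤ) * mainTerm q η 0 + E = E by simp [mainTerm], hE]
    · rw [hroom, hE]
      refine (abs_add_le _ _).trans (add_le_add ?_ h1)
      rw [abs_le]
      constructor <;> omega
    · rw [hroom, hE]
      omega
  | succ h ih =>
    intro S I V _ _ _ ρ Sop hd H u v hp hu hv
    classical
    have C : Cfg Q S u v := ⟨I.olev.nd, hp, hyp_le hu, hyp_le hv⟩
    have hs := hd.single ρ I.olev C hψ h4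
    have hk := hs.finrank_odd ρ I.olev C hψ
    obtain ⟨hc, hr⟩ := H.restrict_range ρ I C (ψ := ψ) hu hv
    have I1 := I.perp hp hu hv
    obtain ⟨e, e', he, he', hpe⟩ := I1.hev.exists_pair (Or.inl (by omega))
    have hd' : Deficit (fixRep ρ (ψ := ψ) C) h := Deficit.fix ρ I.olev C hψ h4 hs
    obtain ⟨hlow, ω', E, hω', htr', hE1, hE2, hlink⟩ :=
      ih I1 (fixRep ρ (ψ := ψ) C) _ hd' (H.fix ρ I C hu hv) hpe he he'
    obtain ⟨ω, hω, hωy⟩ := H.const_sign ρ I C hψ hu hv hs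
    have htr := H.trace_split ρ I C hψ hu hv hs (fun _ => ω) fun y hy =>
      hωy y.1 y.2 (mem_fixedSet.1 hy).1.1 (mem_fixedSet.1 hy).1.2 (mem_fixedSet.1 hy).2
    rw [Finset.sum_const, nsmul_eq_mul, card_fixedSet I1.hev,
      ← trace_on_range (C.pr_idem ρ hψ (perp Q S u v).zero_mem) hc hr, htr', ← Int.cast_add] at htr
    set q := Fintype.card F with hq
    rw [show Module.finrank ℂ (LinearMap.range (pr ρ ψ u v 0)) = mult ρ ψ u v 0 from rfl] at hlow hE1 hE2
    have hroom : room q η (h + 1) (Module.finrank ℂ V) = room q η h (mult ρ ψ u v 0) := by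
      simp only [room, tg, hk]
      push_cast
      ring
    have hlw : ω' * mainTerm q η h = ω * mainTerm q η h := by
      rcases h with _ | h
      · simp [mainTerm]
      · obtain ⟨b, b', hb, -, hpb⟩ := (I1.hev.perp hpe he he').exists_pair (Or.inl (by omega))
        have hb1 : b ∈ perp Q (perp Q S u v) e e' := mem_perp.2
          ⟨hyp_le (perp_le hb), perp_left hb, perp_right hb⟩
        have hxb : B x b = 0 := (mem_hyp.1 (perp_le hb)).2
        have C' : Cfg Q (perp Q S u v) e e' := ⟨I1.olev.nd, hpe, hyp_le he, hyp_le he'⟩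
        have hs' := hd'.single _ I1.olev C' hψ h4
        rw [H.link ρ I C hψ hu hv hpe he he' hb1 (pair_ne_zero hpb) hpb.hu hxb
          ((hs' b hb1 (pair_ne_zero hpb)).1 hpb.hu) hωy
          (hlink (by omega) b hb1 (pair_ne_zero hpb) hpb.hu hxb)]
    refine ⟨?_, ω, E, hω, ?_, by rw [hroom]; exact hE1, by rw [hroom]; exact hE2, fun _ => hωy⟩
    · simp only [tg, hk] at hlow ⊢
      push_cast at hlow ⊢
      rw [show 2 * (h + 2) = 2 * (h + 1) + 2 by ring]
      linarith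
    · rw [htr]
      refine congrArg _ ?_
      rw [hlw]
      simp only [mainTerm, dg]
      push_cast
      rcases I.hev.sign with e0 | e0 <;> subst e0 <;> ring

end Cfsg.Agent.SimpleFacts.MinDegOrth
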