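import Mathlib
import Cfsg.Agent.Lib.Classical.OrthForms
import Cfsg.Agent.SimpleFacts.MinDegOrth.OddInv

/-!
The minimal degree of the non-trivial representations of `Ω` in odd dimension at least seven, odd
characteristic.
-/

set_option autoImplicit false
set_option linter.unusedSectionVars false
set_option linter.unusedSimpArgs false

namespace Cfsg.Agent.SimpleFacts.MinDegOrth

open Cfsg.Agent.Forms Cfsg.Agent.Forms.QuadStd Cfsg.Agent.Forms.Reflections
open Cfsg.Agent.Forms.PlusStd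
open Cfsg.Agent.Classical.Orth Cfsg.Agent.Classical.OrthForms

variable {F : Type*} [Field F] [Fintype F] {ι : Type} [Fintype ι] [DecidableEq ι]
variable {Q : QuadraticForm F (ι → F)}

local notation "Vec" => (ι → F)
local notation "B" => QuadraticMap.polar Q

variable {S : Submodule F (ι → F)} {u v : ι → F} {d : F}

/-! ### The group of a non-degenerate subspace -/

theorem exists_rep (hS : ND Q S) (z : Vec) : ∃ s ∈ S, ∀ w ∈ S, B s w = B z w := by
  let L : S →ₗ[F] Module.Dual F S := (polB Q).compl₁₂ S.subtype S.subtype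
  have hinj : Function.Injective L := by
    rw [← LinearMap.ker_eq_bot, LinearMap.ker_eq_bot']
    intro s hs
    refine Subtype.ext (hS s.1 s.2 fun w hw => ?_)
    exact LinearMap.congr_fun hs ⟨w, hw⟩
  obtain ⟨s, hs⟩ := (LinearMap.injective_iff_surjective_of_finrank_eq_finrank
    (Subspace.dual_finrank_eq (K := F) (V := S)).symm).1 hinj ((polB Q z).comp S.subtype)
  exact ⟨s.1, s.2, fun w hw => LinearMap.congr_fun hs ⟨w, hw⟩⟩

theorem eGroup_eq_one (hS : ND Q S) {g : Cfsg.isometryGroup F ⇑Q} (hg : g ∈ eGroup Q S)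
    (h : ∀ s ∈ S, act g s = s) : g = 1 := by
  refine act_ext fun z => ?_
  obtain ⟨s, hs, hsw⟩ := exists_rep hS z
  have h1 : act g (z - s) = z - s := eGroup_fix hg fun w hw => by
    rw [QuadraticMap.polar_sub_left, hsw w hw, sub_self]
  rw [map_sub, h s hs, sub_left_inj] at h1
  rw [h1, act_one]

theorem eGroup_eq (hS : ND Q S) {g g' : eGroup Q S} (h : ∀ s ∈ S, act g.1 s = act g'.1 s) :
    g = g' := by
  have h1 : (g'.1)⁻¹ * g.1 = 1 := eGroup_eq_one hS (mul_mem (inv_mem g'.2) g.2) fun s hs => by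
    rw [act_mul, h s hs, Spinor.act_inv_cancel]
  exact Subtype.ext (inv_mul_eq_one.1 h1).symm

variable {x : ι → F} {η : ℤ} {m : ℕ}

theorem Inv.sq_one {g : eGroup Q S} (I : Inv Q g.1 x η d m S) : g * g = 1 := by
  refine eGroup_eq I.olev.nd fun s hs => ?_
  rw [Subgroup.coe_mul, act_mul, I.act_eq hs, map_sub, map_smul, I.fixx, I.act_eq hs,
    Subgroup.coe_one, act_one]
  abel

variable {V : Type*} [AddCommGroup V] [Module ℂ V] [FiniteDimensional ℂ V]
variable (ρ : Representation ℂ (eGroup Q S) V) {ψ : AddChar F ℂ}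

theorem Inv.isSop {g : eGroup Q S} (I : Inv Q g.1 x η d m S) : IsSop ρ g.1 (ρ g) := by
  refine ⟨by rw [← map_mul, I.sq_one, map_one], fun a c ha hac h1 h2 => ?_⟩
  rw [← map_mul, ← map_mul, ← el_conj g ha hac h1 h2, inv_mul_cancel_right]

/-- The determinant of the action of an involution is one. -/
theorem det_involution (hodd : Odd (Fintype.card F)) {g : eGroup Q S} (hg : g * g = 1) :
    LinearMap.det (ρ g) = 1 := by
  let φ : eGroup Q S →* ℂ := LinearMap.det.comp ρ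
  have hel : ∀ (n : ℕ) (a c : Vec), Q a = 0 → B a c = 0 → a ∈ S → c ∈ S →
      el Q S a c ^ n = el Q S a ((n : F) • c) := by
    intro n a c ha hac h1 h2
    induction n with
    | zero => rw [pow_zero, Nat.cast_zero, zero_smul, el_zero ha h1]
    | succ n ih =>
      rw [pow_succ, ih, ← el_add ha (by rw [QuadraticMap.polar_smul_right, hac, smul_zero]) hac h1
        (S.smul_mem _ h2) h2, Nat.cast_succ, add_smul, one_smul]
  have hgen : ∀ k : eGroup Q S, φ k ^ Fintype.card F = 1 := by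
    rintro ⟨k, hk⟩
    induction hk using Subgroup.closure_induction with
    | mem k hk =>
      obtain ⟨a, c, ha, hac, h1, h2, rfl⟩ := hk
      rw [show (⟨eich a c ha hac, eich_mem ha hac h1 h2⟩ : eGroup Q S) = el Q S a c from
        Subtype.ext (el_val ha hac h1 h2).symm, ← map_pow, hel _ a c ha hac h1 h2,
        Nat.cast_card_eq_zero, zero_smul, el_zero ha h1, map_one]
    | one => rw [show (⟨1, _⟩ : eGroup Q S) = 1 from rfl, map_one, one_pow]
    | mul a b ha hb iha ihb =>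
      rw [show (⟨a * b, _⟩ : eGroup Q S) = ⟨a, ha⟩ * ⟨b, hb⟩ from rfl, map_mul, mul_pow, iha, ihb,
        one_mul]
    | inv a ha iha =>
      have h1 : φ ⟨a, ha⟩ * φ (⟨a, ha⟩ : eGroup Q S)⁻¹ = 1 := by
        rw [← map_mul, mul_inv_cancel, map_one]
      have h2 := congrArg (fun z => z ^ Fintype.card F) h1
      simp only [mul_pow, iha, one_mul, one_pow] at h2
      exact h2
  obtain ⟨r, hr⟩ := hodd
  have h1 := hgen g
  have h2 : φ g * φ g = 1 := by rw [← map_mul, hg, map_one]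
  rw [hr, pow_succ, pow_mul, sq, h2, one_pow, one_mul] at h1
  exact h1

open _root_.Classical in
/-- The conjugates of an element. -/
noncomputable def conjSet (g : eGroup Q S) : Finset (eGroup Q S) :=
  (Finset.univ : Finset (eGroup Q S)).image fun h => h * g * h⁻¹

theorem mem_conjSet {g k : eGroup Q S} : k ∈ conjSet g ↔ ∃ h, h * g * h⁻¹ = k := by
  simp [conjSet]

theorem Inv.conj_act {g : eGroup Q S} (I : Inv Q g.1 x η d m S) (h : eGroup Q S) {z : Vec}
    (hz : z ∈ S) : act (h * g * h⁻¹).1 z = (B (act h.1 x) z / Q x) • act h.1 x - z := by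
  have hz' : act (h.1)⁻¹ z ∈ S := act_mem (inv_mem h.2) hz
  have hid : act h.1 (act (h.1)⁻¹ z) = z := by rw [← act_mul, mul_inv_cancel, act_one]
  rw [Subgroup.coe_mul, Subgroup.coe_mul, InvMemClass.coe_inv, act_mul, act_mul, I.act_eq hz',
    map_sub, map_smul, hid, ← act_polar h.1 x, hid]

/-- The conjugates correspond to the vectors of the value of the fixed one, up to sign. -/
theorem Inv.card_conjSet {n : ℕ} {g : eGroup Q S} (I : Inv Q g.1 x η d (n + 2) S) :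
    2 * (conjSet g).card = cnt Q S (Q x) := by
  classical
  obtain ⟨u, v, hu, hv, hp⟩ := I.olev.exists_pair
  have hmove : ∀ y : {y : S // Q y.1 = Q x}, ∃ h : eGroup Q S, act h.1 x = y.1.1 := by
    intro y
    have hy0 : y.1.1 ≠ 0 := fun h0 => I.hQx (by rw [← y.2, h0, QuadraticMap.map_zero])
    obtain ⟨h, hh, e⟩ := vec_move hp hu hv I.olev.nd (I.olev.perp hp hu hv).exists_value I.hx y.1.2
      (fun h0 => I.hQx (by rw [h0, QuadraticMap.map_zero])) hy0 y.2.symm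
    exact ⟨⟨h, hh⟩, e⟩
  choose H hH using hmove
  rw [cnt, Nat.card_eq_fintype_card, ← Finset.card_univ,
    Finset.card_eq_sum_card_fiberwise (f := fun y => H y * g * (H y)⁻¹) (t := conjSet g)
      (fun y _ => mem_conjSet.2 ⟨_, rfl⟩),
    Finset.sum_congr rfl (g := fun _ => 2) fun k hk => ?_, Finset.sum_const, smul_eq_mul, mul_comm]
  obtain ⟨h, rfl⟩ := mem_conjSet.1 hk
  have hQ : Q (act h.1 x) = Q x := act_map h.1 x
  have hmem : act h.1 x ∈ S := act_mem h.2 I.hx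
  obtain ⟨y₁, hy₁⟩ : ∃ y₁ : {y : S // Q y.1 = Q x}, y₁.1.1 = act h.1 x :=
    ⟨⟨⟨_, hmem⟩, hQ⟩, rfl⟩
  obtain ⟨y₂, hy₂⟩ : ∃ y₂ : {y : S // Q y.1 = Q x}, y₂.1.1 = -act h.1 x :=
    ⟨⟨⟨_, S.neg_mem hmem⟩, by rw [← hQ]; exact QuadraticMap.map_neg _ _⟩, rfl⟩
  have hne : y₁ ≠ y₂ := by
    intro e
    have e' : act h.1 x = -act h.1 x := by rw [← hy₂, ← e, hy₁]
    have h2 : (2 : F) • act h.1 x = 0 := by linear_combination (norm := module) e'
    rcases smul_eq_zero.1 h2 with e0 | e0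
    · exact I.olev.two e0
    · exact I.hQx (by rw [← hQ, e0, QuadraticMap.map_zero])
  rw [← Finset.card_pair hne]
  congr 1
  ext y
  simp only [Finset.mem_filter, Finset.mem_univ, true_and, Finset.mem_insert, Finset.mem_singleton]
  constructor
  · intro hy
    have h1 := I.conj_act (H y) y.1.2
    rw [hy, I.conj_act h y.1.2, hH, polar_self', y.2, mul_div_assoc, div_self I.hQx, mul_one] at h1
    obtain ⟨l, hl⟩ : ∃ l, y.1.1 = l • act h.1 x := by
      refine ⟨B (act h.1 x) y.1.1 / Q x / 2, ?_⟩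
      refine smul_right_injective _ I.olev.two ?_
      simp only [smul_smul]
      rw [mul_div_cancel₀ _ I.olev.two]
      linear_combination (norm := module) -h1
    have hl2 : (1 : F) * Q x = l * l * Q x := by
      conv_lhs => rw [one_mul, ← y.2, hl, map_smul', hQ]
    rcases mul_self_eq_one_iff.1 (mul_right_cancel₀ I.hQx hl2).symm with e | e
    · exact Or.inl (Subtype.ext (Subtype.ext (by rw [hy₁, hl, e, one_smul])))
    · exact Or.inr (Subtype.ext (Subtype.ext (by rw [hy₂, hl, e, neg_one_smul])))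
  · intro hy
    refine eGroup_eq I.olev.nd fun z hz => ?_
    rw [I.conj_act _ hz, I.conj_act h hz, hH]
    rcases hy with rfl | rfl
    · rw [hy₁]
    · rw [hy₂, QuadraticMap.polar_neg_left, neg_div, neg_smul, smul_neg, neg_neg]

/-- The number of vectors of the value of the fixed one. -/
theorem Inv.cnt_value {n : ℕ} {g : Cfsg.isometryGroup F ⇑Q} (I : Inv Q g x η d n S) :
    (cnt Q S (Q x) : ℤ) = (Fintype.card F : ℤ) ^ n * ((Fintype.card F : ℤ) ^ n + η) := by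
  classical
  obtain ⟨c, hc⟩ : ∃ c, c = Q x := ⟨_, rfl⟩
  have hc0 : c ≠ 0 := hc ▸ I.hQx
  have h20 : (2 : F) * c ≠ 0 := mul_ne_zero I.olev.two hc0
  rw [← hc]
  let e : {y : S // Q y.1 = c} ≃ Σ t : F, {z : hyp Q S x // Q z.1 = c - t * t * c} :=
    { toFun := fun y => ⟨B x y.1.1 / (2 * c), ⟨y.1.1 - (B x y.1.1 / (2 * c)) • x,
        mem_hyp.2 ⟨S.sub_mem y.1.2 (S.smul_mem _ I.hx), by
          rw [QuadraticMap.polar_sub_right, QuadraticMap.polar_smul_right, polar_self', ← hc,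
            smul_eq_mul, div_mul_cancel₀ _ h20, sub_self]⟩⟩, by
        rw [Cfsg.Agent.Classical.Orth.map_sub', y.2, map_smul', ← hc, QuadraticMap.polar_smul_right,
          QuadraticMap.polar_comm _ y.1.1 x, smul_eq_mul]
        have h2 := I.olev.two
        field_simp
        ring⟩
      invFun := fun s => ⟨⟨s.1 • x + s.2.1.1, S.add_mem (S.smul_mem _ I.hx) (hyp_le s.2.1.2)⟩, by
        rw [map_add', map_smul', ← hc, s.2.2, QuadraticMap.polar_smul_left, (mem_hyp.1 s.2.1.2).2]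
        simp⟩
      left_inv := fun y => Subtype.ext (Subtype.ext (by simp))
      right_inv := fun s => by
        have h1 : B x (s.1 • x + s.2.1.1) / (2 * c) = s.1 := by
          rw [QuadraticMap.polar_add_right, QuadraticMap.polar_smul_right, polar_self', ← hc,
            (mem_hyp.1 s.2.1.2).2, smul_eq_mul, add_zero, mul_div_assoc, div_self h20, mul_one]
        refine Sigma.subtype_ext h1 (Subtype.ext ?_)
        show s.1 • x + s.2.1.1 - (B x (s.1 • x + s.2.1.1) / (2 * c)) • x = s.2.1.1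
        rw [h1]; abel }
  have hq : (Fintype.card F : ℤ) ≠ 0 := by exact_mod_cast Fintype.card_ne_zero
  refine mul_left_cancel₀ hq ?_
  rw [cnt, Nat.card_congr e, Nat.card_sigma, Nat.cast_sum, Finset.mul_sum]
  have hterm : ∀ t : F, (Fintype.card F : ℤ) * (Nat.card {z : hyp Q S x // Q z.1 = c - t * t * c} : ℤ) =
      ((Fintype.card F : ℤ) ^ (2 * n) - η * (Fintype.card F : ℤ) ^ n) +
        if t = 1 ∨ t = -1 then η * (Fintype.card F : ℤ) ^ (n + 1) else 0 := by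
    intro t
    by_cases ht : t = 1 ∨ t = -1
    · have h0 : c - t * t * c = 0 := by rcases ht with rfl | rfl <;> ring
      rw [if_pos ht, h0]
      exact I.hev.levZero
    · rw [if_neg ht, add_zero]
      refine I.hev.levNe _ fun h0 => ht ?_
      exact mul_self_eq_one_iff.1 (mul_right_cancel₀ hc0 (by rw [one_mul]; exact (sub_eq_zero.1 h0).symm))
  rw [Finset.sum_congr rfl fun t _ => hterm t, Finset.sum_add_distrib, Finset.sum_const,
    Finset.card_univ, ← Finset.sum_filter, Finset.sum_const, nsmul_eq_mul, nsmul_eq_mul]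
  have hpair : ((Finset.univ : Finset F).filter fun t => t = 1 ∨ t = -1).card = 2 := by
    rw [← Finset.card_pair (a := (1 : F)) (b := -1) fun e => I.olev.two (by linear_combination e)]
    congr 1
    ext t
    simp
  rw [hpair]
  ring

/-- The degree divides the size of the class times the character value. -/
theorem dvd_conjSet [ρ.IsIrreducible] (g : eGroup Q S) {τ : ℤ}
    (hτ : LinearMap.trace ℂ V (ρ g) = (τ : ℂ)) :
    (Module.finrank ℂ V : ℤ) ∣ ((conjSet g).card : ℤ) * τ := by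
  have hk : Module.finrank ℂ V ≠ 0 := (Cfsg.Agent.Characters.finrank_pos_of_isIrreducible ρ).ne'
  have h := Cfsg.Agent.Characters.central_char_isIntegral ρ (conjSet g) fun k h hk' => by
    obtain ⟨h', rfl⟩ := mem_conjSet.1 hk'
    exact mem_conjSet.2 ⟨h * h', by group⟩
  rw [Finset.sum_congr rfl (g := fun _ => (τ : ℂ)) fun k hk' => by
    obtain ⟨h', rfl⟩ := mem_conjSet.1 hk'
    rw [ρ.char_conj]
    exact hτ, Finset.sum_const, nsmul_eq_mul] at h
  obtain ⟨z, hz⟩ := Cfsg.Agent.Characters.exists_int_of_isIntegral_ratCast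
    (q := ((conjSet g).card : ℚ) * τ / (Module.finrank ℂ V : ℚ)) (by push_cast; exact h)
  push_cast at hz
  rw [div_eq_iff (Nat.cast_ne_zero.2 hk)] at hz
  have h1 : ((conjSet g).card : ℤ) * τ = z * (Module.finrank ℂ V : ℤ) := by exact_mod_cast hz
  exact ⟨z, by rw [h1, mul_comm]⟩

/-! ### Arithmetic -/

theorem tg_mod (q m : ℕ) : ∃ R : ℤ, tg q m = m + ((q : ℤ) ^ 2 - 1) * R := by
  induction m with
  | zero => exact ⟨0, by simp [tg]⟩
  | succ m ih =>
    obtain ⟨R, hR⟩ := ih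
    refine ⟨R + tg q m, ?_⟩
    rw [mul_add, tg_closed, ← add_assoc]
    simp only [tg]
    rw [hR]
    push_cast
    ring

/-- The divisibility coming from the class, reduced. -/
theorem class_dvd {q : ℕ} {η τ : ℤ} (hη : η = 1 ∨ η = -1) (M : ℕ)
    (h : (q : ℤ) ^ 2 * tg q (M + 1) ∣ (q : ℤ) ^ (M + 2) * ((q : ℤ) ^ (M + 2) + η) * τ) :
    tg q (M + 1) ∣ ((M : ℤ) + 1) * τ := by
  have h1 : tg q (M + 1) ∣ (q : ℤ) ^ (M + 2) * (((q : ℤ) ^ (M + 2) + η) * τ) := by
    rw [← mul_assoc]; exact (dvd_mul_left _ _).trans h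
  have hcop : IsCoprime (tg q (M + 1)) (q : ℤ) :=
    ⟨1, -((q : ℤ) * tg q M), by rw [tg_succ']; ring⟩
  have h2 := hcop.pow_right.dvd_of_dvd_mul_left h1
  have h3 : tg q (M + 1) ∣ ((q : ℤ) ^ 2 - 1) * τ := by
    have h4 : tg q (M + 1) ∣ (((q : ℤ) ^ (M + 2)) ^ 2 - 1) * τ := by
      refine (h2.mul_left ((q : ℤ) ^ (M + 2) - η)).trans (dvd_of_eq ?_)
      rcases hη with rfl | rfl <;> ring
    have h5 := tg_closed q (M + 1)
    have h6 : (((q : ℤ) ^ (M + 2)) ^ 2 - 1) * τ =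
        ((q : ℤ) ^ 2 - 1) * τ + tg q (M + 1) * (((q : ℤ) ^ 2 - 1) * (q : ℤ) ^ 2 * τ) := by
      linear_combination (-((q : ℤ) ^ 2 * τ)) * h5
    rw [h6] at h4
    exact (dvd_add_left (dvd_mul_right _ _)).1 h4
  obtain ⟨R, hR⟩ := tg_mod q (M + 1)
  push_cast at hR
  have h7 : ((M : ℤ) + 1) * τ = tg q (M + 1) * τ - ((q : ℤ) ^ 2 - 1) * τ * R := by rw [hR]; ring
  rw [h7]
  exact dvd_sub (dvd_mul_right _ _) (h3.mul_right R)

theorem pow_gt_linear {q : ℕ} (hq : 5 ≤ q) (j : ℕ) : 2 * ((j : ℤ) + 4) < (q : ℤ) ^ (j + 2) := by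
  have hQ : (5 : ℤ) ≤ q := by exact_mod_cast hq
  induction j with
  | zero => norm_num; nlinarith
  | succ j ih =>
    rw [show j + 1 + 2 = j + 2 + 1 from rfl, pow_succ]
    push_cast
    have h0 : (0 : ℤ) ≤ (q : ℤ) ^ (j + 2) := by positivity
    nlinarith

/-- The error is too small. -/
theorem class_small {q : ℕ} (hq : 5 ≤ q) (N : ℕ) :
    4 * (q : ℤ) + 2 * N + 6 < (q : ℤ) ^ (N + 3) ∧
      ((N : ℤ) + 3) * ((q : ℤ) ^ (N + 3) + 4 * q + 2 * N + 6) < tg q (N + 3) := by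
  have hQ : (5 : ℤ) ≤ q := by exact_mod_cast hq
  have htg := tg_nonneg q N
  rcases N with _ | N
  · constructor
    · norm_num
      nlinarith [mul_le_mul_of_nonneg_left (mul_le_mul hQ hQ (by norm_num) (by linarith))
        (show (0 : ℤ) ≤ q by linarith)]
    · simp [tg]
      nlinarith [mul_le_mul_of_nonneg_left hQ (by positivity : (0 : ℤ) ≤ (q : ℤ) ^ 3)]
  · have hX := pow_gt_linear hq N
    have hX0 : (0 : ℤ) ≤ (N : ℤ) := Int.natCast_nonneg N
    obtain ⟨X, hXd⟩ : ∃ X, X = (q : ℤ) ^ (N + 2) := ⟨_, rfl⟩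
    rw [← hXd] at hX
    have e1 : (q : ℤ) ^ (N + 1 + 3) = (q : ℤ) ^ 2 * X := by rw [hXd]; ring
    have e2 : (q : ℤ) ^ (2 * (N + 1 + 2)) = (q : ℤ) ^ 2 * X ^ 2 := by rw [hXd]; ring
    have h25 : (25 : ℤ) ≤ X := by
      rw [hXd]
      calc (25 : ℤ) = 5 ^ 2 := by norm_num
        _ ≤ (q : ℤ) ^ 2 := pow_le_pow_left₀ (by norm_num) hQ 2
        _ ≤ (q : ℤ) ^ (N + 2) := pow_le_pow_right₀ (by linarith) (by omega)
    have hlin : 4 * (q : ℤ) + 2 * ((N + 1 : ℕ) : ℤ) + 6 < (q : ℤ) ^ 2 * X := by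
      push_cast
      nlinarith [mul_le_mul_of_nonneg_right (show (25 : ℤ) ≤ (q : ℤ) ^ 2 by nlinarith)
        (show (0 : ℤ) ≤ X - 1 by linarith)]
    refine ⟨e1 ▸ hlin, ?_⟩
    have htg2 : (q : ℤ) ^ 2 * X ^ 2 ≤ tg q (N + 1 + 3) := by
      show (q : ℤ) ^ 2 * X ^ 2 ≤ tg q (N + 1 + 2) + (q : ℤ) ^ (2 * (N + 1 + 2))
      rw [e2]
      linarith [tg_nonneg q (N + 1 + 2)]
    refine lt_of_lt_of_le ?_ htg2
    rw [e1]
    push_cast at hlin ⊢
    have hc : 0 ≤ (q : ℤ) ^ 2 * X := by positivity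
    nlinarith [mul_lt_mul_of_pos_left hlin (show (0 : ℤ) < (N : ℤ) + 1 + 3 by positivity),
      mul_le_mul_of_nonneg_left hX.le hc]

theorem no_class_large {q : ℕ} (hq : 5 ≤ q) (N : ℕ) {η ω E : ℤ} (hη : η = 1 ∨ η = -1)
    (hω : ω = 1 ∨ ω = -1) (hE : |E| ≤ ((N : ℤ) + 3) + ((q : ℤ) - η) * (1 + η))
    (hdvd : tg q (N + 3) ∣ ((N : ℤ) + 3) * (ω * mainTerm q η (N + 2) + E)) : False := by
  obtain ⟨hs1, hs2⟩ := class_small hq N
  obtain ⟨R, hR⟩ : ∃ R, R = ω * (η * (q : ℤ) ^ (N + 3) - q - η * q - ((N : ℤ) + 2)) + E :=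
    ⟨_, rfl⟩
  have h1 : ω * mainTerm q η (N + 2) + E = R + tg q (N + 3) * (ω * q) := by
    rw [hR, mainTerm, dg_tg hη, show dg q η 0 = (q : ℤ) + η * q from rfl]
    push_cast
    ring
  rw [h1, mul_add, dvd_add_left ((dvd_mul_right _ _).mul_left _)] at hdvd
  have hp : (0 : ℤ) ≤ (q : ℤ) := Int.natCast_nonneg q
  have hN : (0 : ℤ) ≤ (N : ℤ) := Int.natCast_nonneg N
  obtain ⟨hEl, hEu⟩ := abs_le.1 hE
  have hbound : 0 < |R| ∧ |R| ≤ (q : ℤ) ^ (N + 3) + 4 * q + 2 * N + 6 := by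
    refine ⟨abs_pos.2 fun h0 => ?_, abs_le.2 ⟨?_, ?_⟩⟩
    · rw [h0] at hR
      rcases hη with rfl | rfl <;> rcases hω with rfl | rfl <;> linarith
    all_goals
      rw [hR]
      rcases hη with rfl | rfl <;> rcases hω with rfl | rfl <;> linarith
  have hpos : (0 : ℤ) < (N : ℤ) + 3 := by positivity
  have h2 : tg q (N + 3) ≤ ((N : ℤ) + 3) * |R| := Int.le_of_dvd (mul_pos hpos hbound.1) (by
    rw [show ((N : ℤ) + 3) * |R| = |((N : ℤ) + 3) * R| by rw [abs_mul, abs_of_pos hpos]]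
    exact (dvd_abs _ _).2 hdvd)
  nlinarith [mul_le_mul_of_nonneg_left hbound.2 hpos.le]

theorem no_class_three {q : ℕ} (hq : 5 ≤ q) (hodd : Odd q) {η ω E : ℤ} {k r : ℕ}
    (hη : η = 1 ∨ η = -1) (hω : ω = 1 ∨ ω = -1)
    (hk : (k : ℤ) = (q : ℤ) ^ 2 * ((q : ℤ) ^ 2 + 1))
    (hE : |E| ≤ 2 + ((q : ℤ) - η) * (1 + η))
    (hpar : 2 ∣ E - (2 + ((q : ℤ) - η) * (1 + η)))
    (htr : ω * mainTerm q η 1 + E = (k : ℤ) - 2 * r) (hr : Even r)
    (hdvd : tg q 2 ∣ 2 * (ω * mainTerm q η 1 + E)) : False := by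
  obtain ⟨s, rfl⟩ := hodd
  obtain ⟨S', hS'⟩ : ∃ S' : ℤ, S' = s := ⟨_, rfl⟩
  have hS2 : 2 ≤ S' := by omega
  obtain ⟨A, hA⟩ : ∃ A : ℤ, A = 2 * S' ^ 2 + 2 * S' + 1 := ⟨_, rfl⟩
  have htg : tg (2 * s + 1) 2 = 2 * A := by simp [tg, hA, hS']; ring
  have hmain : mainTerm (2 * s + 1) η 1 =
      ((2 * S' + 1) * (2 * A) + η * (2 * S' + 1) ^ 2) - ((2 * S' + 1) + η * (2 * S' + 1)) - 1 := by
    rw [mainTerm, dg_tg hη, htg, show dg (2 * s + 1) η 0 =
      ((2 * s + 1 : ℕ) : ℤ) + η * ((2 * s + 1 : ℕ) : ℤ) from rfl, hS']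
    push_cast
    ring
  rw [htg, hmain] at hdvd
  rw [hmain] at htr
  push_cast at hk hE hpar
  rw [← hS'] at hk hE hpar
  obtain ⟨hEl, hEu⟩ := abs_le.1 hE
  obtain ⟨R, hR⟩ : ∃ R, R = ω * (η * (2 * S' + 1) ^ 2 - (2 * S' + 1) - η * (2 * S' + 1) - 1) + E :=
    ⟨_, rfl⟩
  have h1 : A ∣ R := by
    have h2 : A ∣ ω * ((2 * S' + 1) * (2 * A) + η * (2 * S' + 1) ^ 2 -
        ((2 * S' + 1) + η * (2 * S' + 1)) - 1) + E :=
      (mul_dvd_mul_iff_left (two_ne_zero : (2 : ℤ) ≠ 0)).1 hdvd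
    obtain ⟨c, hc⟩ := h2
    exact ⟨c - ω * (2 * (2 * S' + 1)), by rw [hR]; linear_combination hc⟩
  rcases hη with rfl | rfl
  · obtain ⟨j, hj⟩ : (2 : ℤ) ∣ E := by omega
    obtain ⟨c, hc⟩ := h1
    have hj' : A ∣ j - ω * (2 * S' + 2) := by
      have hcop : IsCoprime A (2 : ℤ) := ⟨1, -(S' ^ 2 + S'), by rw [hA]; ring⟩
      refine hcop.dvd_of_dvd_mul_left ⟨c - 2 * ω, ?_⟩
      rw [hR, hA, hj] at hc
      rw [hA]
      linear_combination hc
    have hne : j - ω * (2 * S' + 2) ≠ 0 := by rcases hω with rfl | rfl <;> omega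
    have hle := Int.le_of_dvd (abs_pos.2 hne) ((dvd_abs _ _).2 hj')
    have hub : |j - ω * (2 * S' + 2)| ≤ 4 * S' + 3 := by
      rw [abs_le]; rcases hω with rfl | rfl <;> constructor <;> omega
    nlinarith
  · obtain ⟨c, hc⟩ := h1
    have hE0 : E = 0 := by
      by_contra h0
      have hdE : A ∣ E := ⟨c + 2 * ω, by rw [hR, hA] at hc; rw [hA]; linear_combination hc⟩
      have hle := Int.le_of_dvd (abs_pos.2 h0) ((dvd_abs _ _).2 hdE)
      nlinarith [abs_le.2 ⟨hEl, hEu⟩]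
    obtain ⟨r', hr'⟩ := hr
    have h2 : (r : ℤ) = A * ((2 * S' + 1) ^ 2 - ω * (2 * S')) := by
      rw [hE0, hk, hA] at htr
      rw [hA]
      linarith [htr]
    obtain ⟨Z, hZ⟩ : ∃ Z : ℤ, A * ((2 * S' + 1) ^ 2 - ω * (2 * S')) = 2 * Z + 1 :=
      ⟨(S' ^ 2 + S') * ((2 * S' + 1) ^ 2 - ω * (2 * S')) + 2 * S' ^ 2 + 2 * S' - ω * S',
        by rw [hA]; ring⟩
    rw [hZ] at h2
    omega

/-! ### The induction -/

/-- Either the bound holds, or only the singular characters occur, each once. -/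
theorem single_or_bound_odd {N : ℕ} (L : OLev Q d (N + 3) S) (C : Cfg Q S u v) (hψ : ψ ≠ 1)
    (hq : 5 ≤ Fintype.card F) (hne : ∃ g, ρ g ≠ 1) :
    tg (Fintype.card F) (N + 3) ≤ Module.finrank ℂ V ∨ Single ρ ψ u v (0 : F) := by
  classical
  set W := perp Q S u v with hW
  have LW : OLev Q d (N + 2) W := L.perp C.p C.hu C.hv
  obtain ⟨e, e', he, he', hp⟩ := LW.exists_pair
  have hval := (LW.perp hp he he').exists_value
  have hlevel : ∀ y ∈ W, ∀ y' ∈ W, y ≠ 0 → y' ≠ 0 → Q y = Q y' →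
      mult ρ ψ u v y = mult ρ ψ u v y' := by
    intro y hy y' hy' hy0 hy0' hQ
    obtain ⟨g, hg, hgy⟩ := vec_move hp he he' LW.nd hval hy hy' hy0 hy0' hQ
    rw [← hgy, C.mult_act ρ hψ hg hy]
  have hbound : ∀ c, tg (Fintype.card F) (N + 3) ≤ 2 * ((levSet Q S u v c).card : ℤ) := by
    intro c
    have hQ5 : (5 : ℤ) ≤ (Fintype.card F : ℤ) := by exact_mod_cast hq
    have hc := tg_closed (Fintype.card F) (N + 2)
    have hX : (4 : ℤ) ≤ (Fintype.card F : ℤ) ^ (N + 2) :=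
      le_trans (by linarith) (le_self_pow₀ (by linarith : (1 : ℤ) ≤ (Fintype.card F : ℤ)) (by omega))
    have hcard : (Fintype.card F : ℤ) ^ (2 * (N + 2)) - (Fintype.card F : ℤ) ^ (N + 2) ≤
        ((levSet Q S u v c).card : ℤ) := by
      by_cases hc0 : c = 0
      · subst hc0; rw [card_levSet_odd LW]; linarith
      · have h := card_levSet (Q := Q) (S := S) (u := u) (v := v) c
        rw [if_neg hc0, add_zero] at h
        rw [h, LW.lev]
        have : (0 : ℤ) ≤ (Fintype.card F : ℤ) ^ (N + 2) * (sqc d c : ℤ) := by positivity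
        linarith
    have e2 : (Fintype.card F : ℤ) ^ (2 * (N + 2)) = ((Fintype.card F : ℤ) ^ (N + 2)) ^ 2 := by ring
    rw [e2] at hc hcard
    show tg _ (N + 2) + _ ≤ _
    rw [e2]
    have h24 : 24 * tg (Fintype.card F) (N + 2) ≤
        ((Fintype.card F : ℤ) ^ 2 - 1) * tg (Fintype.card F) (N + 2) :=
      mul_le_mul_of_nonneg_right (by nlinarith) (tg_nonneg _ _)
    nlinarith [mul_le_mul_of_nonneg_left hX (by linarith : (0 : ℤ) ≤ (Fintype.card F : ℤ) ^ (N + 2))]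
  obtain ⟨y₀, hy₀, hy₀0, hm₀⟩ : ∃ y ∈ W, y ≠ 0 ∧ mult ρ ψ u v y ≠ 0 := by
    by_contra hcon
    push Not at hcon
    obtain ⟨g, hg⟩ := hne
    refine hg (trivial_of_radical ρ C LW.exists_value (fun w hw => ?_) g)
    have hsum : pr ρ ψ u v (0 : Vec) = 1 := by
      rw [← C.sum_pr ρ (ψ := ψ) hψ, Finset.sum_eq_single (0 : W)]
      · rfl
      · intro y _ hy
        have h0 := hcon y.1 y.2 (fun e0 => hy (Subtype.ext e0))
        rw [mult, Submodule.finrank_eq_zero, LinearMap.range_eq_bot] at h0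
        exact h0
      · intro h'; exact absurd (Finset.mem_univ _) h'
    have h' := C.el_mul_pr ρ (ψ := ψ) hw 0
    rwa [hsum, mul_one, QuadraticMap.polar_zero_left, AddChar.map_zero_eq_one, one_smul] at h'
  have hlev : ∀ y ∈ W, y ≠ 0 →
      ∑ z ∈ levSet Q S u v (Q y), mult ρ ψ u v z.1 =
        (levSet Q S u v (Q y)).card * mult ρ ψ u v y := by
    intro y hy hy0
    rw [Finset.sum_congr rfl (g := fun _ => mult ρ ψ u v y) fun z hz => by
      simp only [levSet, Finset.mem_filter, Finset.mem_univ, true_and] at hz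
      exact hlevel _ z.2 _ hy hz.1 hy0 hz.2, Finset.sum_const, smul_eq_mul]
  have htot := C.sum_mult ρ (ψ := ψ) hψ
  by_cases hbig : tg (Fintype.card F) (N + 3) ≤ Module.finrank ℂ V
  · exact Or.inl hbig
  refine Or.inr ?_
  -- one level, once
  have honly : ∀ y ∈ W, y ≠ 0 → mult ρ ψ u v y ≠ 0 → Q y = Q y₀ := by
    intro y hy hy0 hm
    by_contra hQ
    have hd : Disjoint (levSet Q S u v (Q y₀)) (levSet Q S u v (Q y)) := by
      rw [Finset.disjoint_left]
      intro z hz hz'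
      simp only [levSet, Finset.mem_filter] at hz hz'
      exact hQ (hz'.2.2.symm.trans hz.2.2)
    have h1 : (levSet Q S u v (Q y₀)).card + (levSet Q S u v (Q y)).card ≤
        ∑ z : W, mult ρ ψ u v z.1 := by
      refine le_trans ?_ (Finset.sum_le_sum_of_subset (Finset.subset_univ
        (levSet Q S u v (Q y₀) ∪ levSet Q S u v (Q y))))
      rw [Finset.sum_union hd, hlev _ hy₀ hy₀0, hlev _ hy hy0]
      exact add_le_add (Nat.le_mul_of_pos_right _ (Nat.pos_of_ne_zero hm₀))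
        (Nat.le_mul_of_pos_right _ (Nat.pos_of_ne_zero hm))
    rw [htot] at h1
    have h2 := hbound (Q y₀)
    have h2' := hbound (Q y)
    have h3 : ((levSet Q S u v (Q y₀)).card : ℤ) + (levSet Q S u v (Q y)).card ≤
        Module.finrank ℂ V := by exact_mod_cast h1
    exact hbig (by linarith)
  have hm1 : mult ρ ψ u v y₀ = 1 := by
    by_contra hm
    have h1 : (levSet Q S u v (Q y₀)).card * 2 ≤ ∑ z : W, mult ρ ψ u v z.1 := by
      refine le_trans (Nat.mul_le_mul_left _ (show 2 ≤ mult ρ ψ u v y₀ by omega)) ?_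
      rw [← hlev _ hy₀ hy₀0]
      exact Finset.sum_le_sum_of_subset (Finset.subset_univ _)
    rw [htot] at h1
    have h2 := hbound (Q y₀)
    have h3 : ((levSet Q S u v (Q y₀)).card : ℤ) * 2 ≤ Module.finrank ℂ V := by exact_mod_cast h1
    exact hbig (by linarith)
  have hzero : Q y₀ = 0 := by
    by_contra h0
    obtain ⟨s, hs, hs2⟩ := exists_square_ne (show 4 ≤ Fintype.card F by omega)
    have hP : Pairs Q S u v e e' := ⟨C.p, hp, perp_left he, perp_left he', perp_right he,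
      perp_right he', C.hu, C.hv, perp_le he, perp_le he'⟩
    obtain ⟨g, hg, gu, -, gv, -, -⟩ := torus hP hs
    have hy' : s⁻¹ • act g y₀ ∈ W := W.smul_mem _ (C.act_perp (g := ⟨g, hg⟩) hs gu gv hy₀)
    have hm : mult ρ ψ u v (s⁻¹ • act g y₀) = mult ρ ψ u v y₀ :=
      C.mult_move ρ (ψ := ψ) hψ (g := ⟨g, hg⟩) hs gu gv hy₀
    have hQ' : Q (s⁻¹ • act g y₀) = s⁻¹ * s⁻¹ * Q y₀ := by rw [map_smul', act_map]
    have hne0 : Q (s⁻¹ • act g y₀) ≠ 0 := by
      rw [hQ']; exact mul_ne_zero (mul_ne_zero (inv_ne_zero hs) (inv_ne_zero hs)) h0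
    have h := honly _ hy' (fun e0 => hne0 (by rw [e0, QuadraticMap.map_zero])) (by rw [hm]; exact hm₀)
    rw [hQ'] at h
    refine hs2 ?_
    have h1 := mul_right_cancel₀ h0 (h.trans (one_mul _).symm)
    field_simp at h1
    linear_combination -h1
  intro y hy hy0
  refine ⟨fun hQ => ?_, fun hQ => ?_⟩
  · rw [hlevel y hy y₀ hy₀ hy0 hy₀0 (hQ.trans hzero.symm), hm1]
  · by_contra hm
    exact hQ ((honly y hy hy0 hm).trans hzero)

/-- Below the bound the long root elements have the deficit `q^{2n-2}`. -/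
theorem deficit_top {N : ℕ} (L : OLev Q d (N + 3) S) (hq : 5 ≤ Fintype.card F)
    (hne : ∃ g, ρ g ≠ 1) (hlt : (Module.finrank ℂ V : ℤ) < tg (Fintype.card F) (N + 3)) :
    Deficit ρ (N + 1) := by
  intro a c hr
  obtain ⟨ψ, hψ⟩ := exists_psi_ne (F := F)
  obtain ⟨a', c', P⟩ := hr.exists_pairs L.nd
  have C : Cfg Q S a a' := ⟨L.nd, P.p', P.hc, P.hc'⟩
  have hc : c ∈ perp Q S a a' := mem_perp.2 ⟨P.ha, P.swap.ac, P.swap.a'c⟩
  have hc' : c' ∈ perp Q S a a' := mem_perp.2 ⟨P.ha', P.swap.ac', P.swap.a'c'⟩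
  have hs : Single ρ ψ a a' (0 : F) :=
    (single_or_bound_odd ρ L C hψ hq hne).resolve_left (by linarith)
  rw [hs.trace_root ρ C hψ P.p hc hc', ((L.perp C.p C.hu C.hv).perp P.p hc hc').card]
  push_cast
  ring

/-- The non-trivial representations of the groups of dimension `2n + 1` have degree at least `tg n`. -/
def OBound (Q : QuadraticForm F (ι → F)) (d : F) (n : ℕ) : Prop :=
  ∀ S : Submodule F (ι → F), OLev Q d n S →
    ∀ (V : Type) [AddCommGroup V] [Module ℂ V] [FiniteDimensional ℂ V]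
      (ρ : Representation ℂ (eGroup Q S) V),
      (∃ g, ρ g ≠ 1) → tg (Fintype.card F) n ≤ (Module.finrank ℂ V : ℤ)

theorem odd_step (hodd : Odd (Fintype.card F)) (hq : 5 ≤ Fintype.card F) (N : ℕ)
    (IH : 1 ≤ N → OBound Q d (N + 2)) : OBound Q d (N + 3) := by
  intro S₀ L₀ V₀ _ _ _ ρ₀ hne₀
  obtain ⟨U, hU, hirr, hne⟩ := exists_irred_part ρ₀ hne₀
  refine le_trans ?_ (Int.ofNat_le.2 (Submodule.finrank_le U))
  obtain ⟨ρ, hρ⟩ : ∃ ρ : Representation ℂ (eGroup Q S₀) U,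
      ρ = Cfsg.Agent.Characters.subRep ρ₀ U hU := ⟨_, rfl⟩
  rw [← hρ] at hirr hne
  by_contra hlt
  push Not at hlt
  obtain ⟨q, hqd⟩ : ∃ q, q = Fintype.card F := ⟨_, rfl⟩
  obtain ⟨ψ, hψ⟩ := exists_psi_ne (F := F)
  have h4 : 4 ≤ Fintype.card F := by omega
  obtain ⟨g, hg, x, η, I, -⟩ := exists_inv (N + 3) S₀ L₀
  obtain ⟨u, v, hu, hv, hp⟩ := I.hev.exists_pair (Or.inl (by omega))
  have C : Cfg Q S₀ u v := ⟨L₀.nd, hp, hyp_le hu, hyp_le hv⟩
  have hd : Deficit ρ (N + 1) := deficit_top ρ L₀ hq hne hlt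
  have hs := hd.single ρ L₀ C hψ h4
  have hk := hs.finrank_odd ρ L₀ C hψ
  have hd' : Deficit (fixRep ρ (ψ := ψ) C) N := Deficit.fix ρ L₀ C hψ h4 hs
  have LW : OLev Q d (N + 2) (perp Q S₀ u v) := L₀.perp C.p C.hu C.hv
  obtain ⟨e, e', he, he', hpe⟩ := LW.exists_pair
  have C' : Cfg Q (perp Q S₀ u v) e e' := ⟨LW.nd, hpe, he, he'⟩
  rw [← hqd] at hlt hk
  -- the fixed space
  have hfix : tg q (N + 2) - (if N = 0 then 2 else 0) ≤ (mult ρ ψ u v 0 : ℤ) := by
    rcases Nat.eq_zero_or_pos N with rfl | hN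
    · have h := (hd'.single _ LW C' hψ h4).finrank_odd _ LW C' hψ
      rw [if_pos rfl, show tg q (0 + 2) = 1 + (q : ℤ) ^ 2 by simp [tg]]
      rw [← hqd, show 2 * 0 + 2 = 2 from rfl,
        show Module.finrank ℂ (LinearMap.range (pr ρ ψ u v 0)) = mult ρ ψ u v 0 from rfl] at h
      have h0 := Int.natCast_nonneg (mult (fixRep ρ (ψ := ψ) C) ψ e e' 0)
      linarith
    · rw [if_neg hN.ne', sub_zero, hqd]
      refine IH hN _ LW _ (fixRep ρ (ψ := ψ) C) ?_
      by_contra htriv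
      push Not at htriv
      obtain ⟨b, b', hb, -, hpb⟩ := (LW.perp hpe he he').exists_pair
      have h := hd' e b (C'.isRoot hb hpb.hu (pair_ne_zero hpb))
      rw [htriv, LinearMap.trace_one] at h
      have h0 : (Fintype.card F : ℂ) ^ (2 * N + 2) = 0 := by linear_combination h
      exact pow_ne_zero _ (Nat.cast_ne_zero.2 Fintype.card_ne_zero) h0
  have htop : tg q (N + 3) = tg q (N + 2) + (q : ℤ) ^ (2 * (N + 1) + 2) := by
    show tg q (N + 2) + (q : ℤ) ^ (2 * (N + 2)) = _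
    ring
  obtain ⟨k, hkd⟩ : ∃ k, k = Module.finrank ℂ U := ⟨_, rfl⟩
  rw [← hkd] at hlt hk
  -- the last degree
  have hlast : (k : ℤ) = tg q (N + 3) - 1 := by
    rcases Nat.eq_zero_or_pos N with rfl | hN
    swap
    · rw [if_neg hN.ne', sub_zero] at hfix; linarith
    rw [if_pos rfl] at hfix
    have hT : tg q (0 + 3) = (q : ℤ) ^ 4 + (q : ℤ) ^ 2 + 1 := by simp [tg]; ring
    obtain ⟨e₁, e₁', he₁, he₁', hp₁⟩ : ∃ e₁ e₁', e₁ ∈ perp Q S₀ u v ∧ e₁' ∈ perp Q S₀ u v ∧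
        IsPair Q e₁ e₁' := LW.exists_pair
    have htr : LinearMap.trace ℂ U (ρ (el Q S₀ u e₁)) = (Module.finrank ℂ U : ℂ) -
        ((Fintype.card F ^ (2 * (0 + 1) + 2) : ℕ) : ℂ) := by
      rw [hd u e₁ (C.isRoot he₁ hp₁.hu (pair_ne_zero hp₁))]
      push_cast; ring
    have hd2 := dvd_rootSet ρ C LW.exists_value (LW.perp hp₁ he₁ he₁').exists_value hp₁ he₁ he₁' htr
    have hcard := card_rootSet C LW.exists_value (LW.perp hp₁ he₁ he₁').exists_value hp₁ he₁ he₁'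
    rw [← hqd] at hd2 hcard
    rw [← hkd] at hd2
    have hQ5 : (5 : ℤ) ≤ q := by rw [hqd]; exact_mod_cast hq
    have hroot : ((rootSet Q S₀).card : ℤ) = ((q : ℤ) ^ 4 + (q : ℤ) ^ 2 + 1) * ((q : ℤ) ^ 4 - 1) := by
      have h1 : 1 ≤ q ^ 2 := Nat.one_le_pow _ _ (by omega)
      have hn1 : 1 ≤ cnt Q S₀ 0 := L₀.cnt_pos 0
      have hn2 : 1 ≤ cnt Q (perp Q S₀ u v) 0 := LW.cnt_pos 0
      have h := congrArg (fun x : ℕ => (x : ℤ)) hcard
      rw [Nat.cast_mul, Nat.cast_mul, Nat.cast_sub h1, Nat.cast_sub hn1, Nat.cast_sub hn2,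
        L₀.cnt_zero, LW.cnt_zero, ← hqd] at h
      push_cast at h
      refine mul_right_cancel₀ (show (q : ℤ) ^ 2 - 1 ≠ 0 by nlinarith) ?_
      rw [h]; ring
    have hdvd : (k : ℤ) ∣ ((q : ℤ) ^ 4 + (q : ℤ) ^ 2 + 1) * ((q : ℤ) ^ 4 - 1) * (q : ℤ) ^ 4 := by
      have h := Int.natCast_dvd_natCast.2 hd2
      push_cast at h
      rwa [hroot] at h
    rw [hT] at hlt ⊢
    by_contra hne'
    have hhi : (k : ℤ) ≤ (q : ℤ) ^ 4 + (q : ℤ) ^ 2 - 1 := by omega
    have hlo : (q : ℤ) ^ 4 + (q : ℤ) ^ 2 - 2 ≤ (k : ℤ) := by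
      rw [show tg q (0 + 2) = 1 + (q : ℤ) ^ 2 by simp [tg]] at hfix
      rw [show 2 * (0 + 1) + 2 = 4 from rfl] at hk
      linarith
    rcases (by omega : (k : ℤ) = (q : ℤ) ^ 4 + (q : ℤ) ^ 2 - 1 ∨
        (k : ℤ) = (q : ℤ) ^ 4 + (q : ℤ) ^ 2 - 2) with e2 | e3
    · have hcop : IsCoprime (k : ℤ) ((q : ℤ) ^ 2) := ⟨-1, (q : ℤ) ^ 2 + 1, by rw [e2]; ring⟩
      have h1 : (k : ℤ) ∣ 2 * ((q : ℤ) ^ 4 - 1) := by
        obtain ⟨c, hc⟩ := (hcop.pow_right (n := 2)).dvd_of_dvd_mul_right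
          (show (k : ℤ) ∣ ((q : ℤ) ^ 4 + (q : ℤ) ^ 2 + 1) * ((q : ℤ) ^ 4 - 1) * ((q : ℤ) ^ 2) ^ 2 by
            rw [← pow_mul]; exact hdvd)
        exact ⟨c - ((q : ℤ) ^ 4 - 1), by rw [e2] at hc ⊢; linear_combination hc⟩
      have h2 : (k : ℤ) ∣ 2 * (q : ℤ) ^ 2 := by
        obtain ⟨c, hc⟩ := h1
        exact ⟨2 - c, by rw [e2] at hc ⊢; linear_combination -hc⟩
      have := Int.le_of_dvd (by positivity) h2
      have h25 : (25 : ℤ) ≤ (q : ℤ) ^ 2 := by nlinarith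
      nlinarith [mul_le_mul_of_nonneg_left h25 (by positivity : (0 : ℤ) ≤ (q : ℤ) ^ 2)]
    · have h1 : (q : ℤ) ^ 2 + 2 ∣ 12 := by
        have h2 : (q : ℤ) ^ 2 + 2 ∣ ((q : ℤ) ^ 4 + (q : ℤ) ^ 2 + 1) * ((q : ℤ) ^ 2 + 1) *
            (q : ℤ) ^ 4 := by
          obtain ⟨c, hc⟩ := hdvd
          rw [e3] at hc
          exact ⟨c, mul_left_cancel₀ (show (q : ℤ) ^ 2 - 1 ≠ 0 by nlinarith)
            (by linear_combination hc)⟩
        obtain ⟨c, hc⟩ := h2
        refine ⟨((q : ℤ) ^ 2) ^ 4 + 2 * ((q : ℤ) ^ 2) ^ 2 - 3 * (q : ℤ) ^ 2 + 6 - c, ?_⟩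
        linear_combination -hc
      have := Int.le_of_dvd (by norm_num) h1
      nlinarith
  -- the class of the hyperplane element
  obtain ⟨g₀, hg₀⟩ : ∃ g₀ : eGroup Q S₀, g₀ = ⟨g, hg⟩ := ⟨_, rfl⟩
  have I₀ : Inv Q g₀.1 x η d (N + 1 + 2) S₀ := by rw [hg₀]; exact I
  obtain ⟨-, ω, E, hω, htr, hE, hpar, -⟩ :=
    inv_spec h4 hψ (N + 1) I₀ ρ (ρ g₀) hd (I₀.isSop ρ) hp hu hv
  rw [← hqd, ← hkd] at hE hpar
  rw [← hqd] at htr
  have hdvd := dvd_conjSet ρ g₀ htr
  rw [← hkd] at hdvd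
  have hcls : ((conjSet g₀).card : ℤ) * 2 = (q : ℤ) ^ (N + 3) * ((q : ℤ) ^ (N + 3) + η) := by
    rw [hqd, ← I₀.cnt_value, mul_comm]
    exact_mod_cast I₀.card_conjSet
  have hdvd2 : tg q (N + 2) ∣ ((N : ℤ) + 2) * (ω * mainTerm q η (N + 1) + E) := by
    have h := class_dvd (q := q) (τ := ω * mainTerm q η (N + 1) + E) I.hev.sign (N + 1) (by
      rw [show N + 1 + 2 = N + 3 from rfl, ← hcls]
      refine (dvd_of_eq ?_).trans ((hdvd.mul_right 2).trans (dvd_of_eq (by ring)))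
      rw [show (q : ℤ) ^ 2 * tg q (N + 1 + 1) = tg q (N + 3) - 1 by rw [tg_succ' q (N + 2)]; ring,
        hlast])
    norm_num [add_assoc] at h ⊢
    exact h
  have hroom : room q η (N + 1) k = ((N : ℤ) + 2) + ((q : ℤ) - η) * (1 + η) := by
    rw [room, hlast, show N + 1 + 2 = N + 3 from rfl]
    push_cast
    ring
  rw [hroom] at hE hpar
  rcases N with _ | N
  · obtain ⟨r, -, hr, hdet⟩ := involution_trace (A := ρ g₀) (by rw [← map_mul, I₀.sq_one, map_one])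
    rw [htr, ← hkd] at hr
    rw [det_involution ρ hodd I₀.sq_one] at hdet
    refine no_class_three (q := q) (k := k) (r := r) (by omega) (hqd ▸ hodd) I.hev.sign hω ?_
      (by simpa using hE) (by simpa using hpar) (by exact_mod_cast hr)
      ((neg_one_pow_eq_one_iff_even (by norm_num : (-1 : ℂ) ≠ 1)).1 hdet.symm)
      (by simpa using hdvd2)
    rw [hlast]; simp [tg]; ring
  · push_cast at hE hdvd2
    refine no_class_large (q := q) (E := E) (by omega) N I.hev.sign hω ?_ ?_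
    · rwa [show (N : ℤ) + 3 = (N : ℤ) + 1 + 2 by ring]
    · rwa [show (N : ℤ) + 3 = (N : ℤ) + 1 + 2 by ring]

theorem bound_odd (hodd : Odd (Fintype.card F)) (hq : 5 ≤ Fintype.card F) :
    ∀ N : ℕ, OBound Q d (N + 3)
  | 0 => odd_step hodd hq 0 fun h => absurd h (by omega)
  | N + 1 => odd_step hodd hq (N + 1) fun _ => bound_odd hodd hq N

/-- The standard group. -/
theorem omega_odd (F : Type*) [Field F] [Fintype F] {n : ℕ} (hn : 3 ≤ n)
    (hodd : Odd (Fintype.card F)) (h3 : 3 < Fintype.card F) (k : ℕ)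
    (ρ : Representation ℂ (Cfsg.Omega F (Cfsg.quadFormOdd n F)) (Fin k → ℂ))
    (hρ : ρ.IsIrreducible) (hk : 2 ≤ k) :
    (Fintype.card F ^ (2 * n) - 1) / (Fintype.card F ^ 2 - 1) ≤ k := by
  have h5 : 5 ≤ Fintype.card F := by obtain ⟨r, hr⟩ := hodd; omega
  have h2 : (2 : F) ≠ 0 := by
    refine Ring.two_ne_zero fun h => ?_
    exact (Nat.not_even_iff_odd.2 hodd) (Nat.even_iff.2 (FiniteField.even_card_of_char_two h))
  revert ρ
  rw [← oddQ_eq]
  intro ρ hρ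
  obtain ⟨N, rfl⟩ : ∃ N, n = N + 3 := ⟨n - 3, by omega⟩
  have e := MulEquiv.subgroupCongr (omega_eq_eGroup (oddQ_nondeg h2 (N + 3))
    (oddFrame F (by omega)) (by simp; omega)).symm
  let ρ' : Representation ℂ (eGroup (oddQ F (N + 3)) (⊤ : Submodule F _)) (Fin k → ℂ) :=
    ρ.comp e.toMonoidHom
  have hne : ∃ g, ρ' g ≠ 1 := by
    by_contra htriv
    push Not at htriv
    have htriv' : ∀ g, ρ g = 1 := fun g => by
      have h1 : ρ (e (e.symm g)) = 1 := htriv (e.symm g)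
      rwa [e.apply_symm_apply] at h1
    obtain ⟨-, hU⟩ := (Cfsg.Agent.Characters.isIrreducible_iff ρ).1 hρ
    let w : Fin k → ℂ := Pi.single ⟨0, by omega⟩ 1
    rcases hU (Submodule.span ℂ {w}) (fun g x hx => by rw [htriv']; exact hx) with h1 | h1
    · rw [Submodule.span_singleton_eq_bot] at h1
      exact one_ne_zero (by simpa [w] using congrFun h1 ⟨0, by omega⟩ : (1 : ℂ) = 0)
    · have h2 := finrank_span_le_card ({w} : Set (Fin k → ℂ)) (R := ℂ)
      rw [h1, finrank_top, Module.finrank_fintype_fun_eq_card, Fintype.card_fin] at h2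
      simp at h2
      omega
  have hb := bound_odd hodd h5 N _ (lev_oddQ h2 (N + 3)) (Fin k → ℂ) ρ' hne
  rw [Module.finrank_fintype_fun_eq_card, Fintype.card_fin] at hb
  refine Nat.div_le_of_le_mul ?_
  obtain ⟨q, hq⟩ : ∃ q, q = Fintype.card F := ⟨_, rfl⟩
  rw [← hq] at hb ⊢
  have h1 : 1 ≤ q ^ (2 * (N + 3)) := Nat.one_le_pow _ _ (by omega)
  have h2' : 1 ≤ q ^ 2 := Nat.one_le_pow _ _ (by omega)
  rw [← Int.ofNat_le]
  push_cast [Nat.cast_sub h1, Nat.cast_sub h2']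
  rw [← tg_closed]
  refine mul_le_mul_of_nonneg_left hb ?_
  have : (1 : ℤ) ≤ ((q ^ 2 : ℕ) : ℤ) := by exact_mod_cast h2'
  push_cast at this
  linarith

end Cfsg.Agent.SimpleFacts.MinDegOrth
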