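import Mathlib
import Cfsg.Agent.SimpleFacts.MinDegOrth.Trace

/-!
Dimension six, plus type: the fixed space of the radical has dimension at least `2(q - 1)`.
-/

set_option autoImplicit false
set_option linter.unusedSectionVars false
set_option linter.unusedSimpArgs false

namespace Cfsg.Agent.SimpleFacts.MinDegOrth

open Cfsg.Agent.Forms Cfsg.Agent.Forms.QuadStd Cfsg.Agent.Forms.Reflections
open Cfsg.Agent.Classical.Orth
open scoped commutatorElement

/-! ### One-parameter subgroups inside an idempotent -/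

section Avg

variable {F : Type*} [Field F] [Fintype F]
variable {V : Type*} [AddCommGroup V] [Module ℂ V] [FiniteDimensional ℂ V]
variable {G : Type*} [Group G] (ρ : Representation ℂ G V) (ψ : AddChar F ℂ)

/-- A one-parameter subgroup commuting with `P`. -/
structure Param (f : F → G) (P : Module.End ℂ V) : Prop where
  zero : f 0 = 1
  add : ∀ s t, f (s + t) = f s * f t
  comm : ∀ t, Commute (ρ (f t)) P
  idem : P * P = P

/-- The part of `P` on which the subgroup acts by the character of `c`. -/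
noncomputable def avg (f : F → G) (P : Module.End ℂ V) (c : F) : Module.End ℂ V :=
  (Fintype.card F : ℂ)⁻¹ • ∑ t : F, ψ (-(c * t)) • (ρ (f t) * P)

variable {ρ ψ} {f : F → G} {P : Module.End ℂ V}

theorem Param.mul_avg (H : Param ρ f P) (s c : F) :
    ρ (f s) * avg ρ ψ f P c = ψ (c * s) • avg ρ ψ f P c := by
  simp only [avg, mul_smul_comm, Finset.mul_sum, ← mul_assoc, ← map_mul]
  rw [smul_comm (ψ (c * s)), Finset.smul_sum (r := ψ (c * s))]
  congr 1
  refine Fintype.sum_equiv (Equiv.addLeft s) _ _ fun t => ?_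
  rw [← H.add, smul_smul, ← AddChar.map_add_eq_mul, Equiv.coe_addLeft]
  congr 2
  ring

theorem Param.avg_left (H : Param ρ f P) (c : F) : P * avg ρ ψ f P c = avg ρ ψ f P c := by
  simp only [avg, mul_smul_comm, Finset.mul_sum]
  congr 1
  refine Finset.sum_congr rfl fun t _ => ?_
  rw [← mul_assoc, ← (H.comm t).eq, mul_assoc, H.idem]

theorem Param.avg_right (H : Param ρ f P) (c : F) : avg ρ ψ f P c * P = avg ρ ψ f P c := by
  simp only [avg, smul_mul_assoc, Finset.sum_mul, mul_assoc, H.idem]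

theorem Param.commute_avg (H : Param ρ f P) {g : G} (hg : Commute (ρ g) P)
    (hgf : ∀ t, Commute (ρ g) (ρ (f t))) (c : F) : Commute (ρ g) (avg ρ ψ f P c) :=
  ((Commute.sum_right _ _ _ fun t _ => ((hgf t).mul_right hg).smul_right _)).smul_right _

theorem Param.avg_idem (H : Param ρ f P) (c : F) :
    avg ρ ψ f P c * avg ρ ψ f P c = avg ρ ψ f P c := by
  conv_lhs => arg 1; rw [avg]
  rw [smul_mul_assoc, Finset.sum_mul, Finset.sum_congr rfl (g := fun _ => avg ρ ψ f P c) fun t _ => by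
    rw [smul_mul_assoc, mul_assoc, H.avg_left, H.mul_avg, smul_smul, ← AddChar.map_add_eq_mul,
      neg_add_cancel, AddChar.map_zero_eq_one, one_smul], Finset.sum_const, Finset.card_univ,
    ← Nat.cast_smul_eq_nsmul ℂ, smul_smul,
    inv_mul_cancel₀ (Nat.cast_ne_zero.2 Fintype.card_ne_zero), one_smul]

theorem Param.sum_avg (H : Param ρ f P) (hψ : ψ ≠ 1) : ∑ c : F, avg ρ ψ f P c = P := by
  classical
  simp only [avg, ← Finset.smul_sum]
  rw [Finset.sum_comm]
  simp only [← Finset.sum_smul]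
  rw [Finset.sum_eq_single (0 : F)]
  · simp [H.zero, smul_smul]
  · intro t _ ht
    have h' : ∑ c : F, ψ (-(c * t)) = 0 := by
      have h := AddChar.sum_mulShift (R := F) (-t) (AddChar.IsPrimitive.of_ne_one hψ)
      rw [if_neg (neg_ne_zero.2 ht), Nat.cast_zero] at h
      simpa [mul_neg] using h
    rw [h', zero_smul]
  · intro h; exact absurd (Finset.mem_univ _) h

theorem Param.trace_avg (hψ : ψ ≠ 1) (c : F) {m d : ℂ} (h0 : LinearMap.trace ℂ V P = m)
    (H : Param ρ f P) (hd : ∀ t ≠ 0, LinearMap.trace ℂ V (ρ (f t) * P) = d) [DecidableEq F] :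
    LinearMap.trace ℂ V (avg ρ ψ f P c) =
      (Fintype.card F : ℂ)⁻¹ * (m - d + if c = 0 then (Fintype.card F : ℂ) * d else 0) := by
  rw [avg, map_smul, map_sum, smul_eq_mul,
    ← Finset.add_sum_erase _ _ (Finset.mem_univ (0 : F)),
    Finset.sum_congr rfl (g := fun t => ψ (-(c * t)) * d) fun t ht => by
      rw [map_smul, hd t (Finset.ne_of_mem_erase ht), smul_eq_mul],
    ← Finset.sum_mul, Finset.sum_erase_eq_sub (Finset.mem_univ _), map_smul, H.zero, map_one,
    one_mul, h0]
  congr 1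
  have hsum : ∑ t : F, ψ (-(c * t)) = if c = 0 then (Fintype.card F : ℂ) else 0 := by
    split_ifs with hc
    · simp [hc]
    · have h := AddChar.sum_mulShift (R := F) (-c) (AddChar.IsPrimitive.of_ne_one hψ)
      rw [if_neg (neg_ne_zero.2 hc), Nat.cast_zero] at h
      simpa [mul_neg, mul_comm] using h
  rw [hsum]
  simp only [mul_zero, neg_zero, AddChar.map_zero_eq_one, smul_eq_mul, one_mul]
  split_ifs <;> ring

end Avg

/-! ### The bound -/

variable {F : Type*} [Field F] [Fintype F] {ι : Type} [Fintype ι] [DecidableEq ι]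
variable {Q : QuadraticForm F (ι → F)}

local notation "Vec" => (ι → F)
local notation "B" => QuadraticMap.polar Q

variable {S : Submodule F (ι → F)} {u v : ι → F}
variable {V : Type*} [AddCommGroup V] [Module ℂ V] [FiniteDimensional ℂ V]
variable (ρ : Representation ℂ (eGroup Q S) V) {ψ : AddChar F ℂ}

theorem Pairs.smul_left {W : Submodule F Vec} {a a' c c' : Vec} (P : Pairs Q W a a' c c') {t : F}
    (ht : t ≠ 0) : Pairs Q W (t • a) (t⁻¹ • a') c c' := by
  refine ⟨⟨?_, ?_, ?_⟩, P.p', ?_, ?_, ?_, ?_, W.smul_mem _ P.ha, W.smul_mem _ P.ha', P.hc, P.hc'⟩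
  · rw [map_smul', P.p.hu, mul_zero]
  · rw [map_smul', P.p.hv, mul_zero]
  · rw [QuadraticMap.polar_smul_left, QuadraticMap.polar_smul_right, P.p.huv, smul_eq_mul,
      smul_eq_mul, mul_one, mul_inv_cancel₀ ht]
  · rw [QuadraticMap.polar_smul_left, P.ac, smul_zero]
  · rw [QuadraticMap.polar_smul_left, P.ac', smul_zero]
  · rw [QuadraticMap.polar_smul_left, P.a'c, smul_zero]
  · rw [QuadraticMap.polar_smul_left, P.a'c', smul_zero]

theorem root_param (C : Cfg Q S u v) {e e' b b' : Vec}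
    (P : Pairs Q (perp Q S u v) e e' b b') (hψ : ψ ≠ 1) :
    Param ρ (fun t : F => el Q S b (t • e)) (pr ρ ψ u v 0) := by
  have hb : b ∈ S := perp_le P.hc
  have he : e ∈ S := perp_le P.ha
  have hbt : ∀ t : F, B b (t • e) = 0 := fun t => by
    rw [QuadraticMap.polar_smul_right, P.be, smul_zero]
  refine ⟨by simp [el_zero P.p'.hu hb], fun s t => ?_, fun t => ?_,
    C.pr_idem ρ hψ (perp Q S u v).zero_mem⟩
  · rw [add_smul, el_add P.p'.hu (hbt s) (hbt t) hb (S.smul_mem _ he) (S.smul_mem _ he)]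
  · refine C.commute_pr ρ ?_ ?_ (map_zero _) <;>
      rw [el_val P.p'.hu (hbt t) hb (S.smul_mem _ he)]
    · exact act_eich_fix _ _ (perp_left P.hc)
        (by rw [QuadraticMap.polar_smul_right, perp_left P.ha, smul_zero])
    · exact act_eich_fix _ _ (perp_right P.hc)
        (by rw [QuadraticMap.polar_smul_right, perp_right P.ha, smul_zero])

/-- In dimension six of plus type the fixed space of the radical has dimension at least `2(q-1)`. -/
theorem plus_base (C : Cfg Q S u v) (hψ : ψ ≠ 1) {ε : ℤ} (L : Lev Q ε 2 (perp Q S u v))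
    {e e' b b' : Vec} (P : Pairs Q (perp Q S u v) e e' b b') {c₀ : F}
    (hs : Single ρ ψ u v c₀) {s : F} (hs0 : s ≠ 0) (hs2 : s * s ≠ 1) :
    2 * (Fintype.card F - 1) ≤ mult ρ ψ u v 0 := by
  classical
  set P₀ := pr ρ ψ u v 0 with hP₀
  set m : ℂ := (mult ρ ψ u v 0 : ℂ) with hm
  have hq : (Fintype.card F : ℂ) ≠ 0 := Nat.cast_ne_zero.2 Fintype.card_ne_zero
  have htrP : LinearMap.trace ℂ V P₀ = m := C.trace_pr ρ hψ (perp Q S u v).zero_mem
  have P' := P.flip.swap
  have HA := root_param ρ C P hψ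
  have HB := root_param ρ C P' hψ
  have htr : ∀ {a a' c c' : Vec}, Pairs Q (perp Q S u v) a a' c c' → ∀ t ≠ (0 : F),
      LinearMap.trace ℂ V (ρ (el Q S c (t • a)) * P₀) = m - (Fintype.card F : ℂ) := by
    intro a a' c c' R t ht
    have hW2 : Nat.card (perp Q (perp Q (perp Q S u v) (t • a) (t⁻¹ • a')) c c') = 1 := by
      have R' := R.smul_left ht
      rw [((L.perp R'.p R'.ha R'.ha').perp R'.p' (mem_perp.2 ⟨R'.hc, R'.ac, R'.a'c⟩)
        (mem_perp.2 ⟨R'.hc', R'.ac', R'.a'c'⟩)).card, Nat.mul_zero, pow_zero]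
    rw [hs.trace_fix ρ C hψ (R.smul_left ht) fun y hy hy0 hc hye hyb =>
      phase_torus ρ C hψ (R.smul_left ht) hs0 hs2 hy hye hyb ((hs y hy hy0).1 hc)]
    rw [hW2]
    simp [hm]
  set fA : F → eGroup Q S := fun t => el Q S b (t • e) with hfA
  set fB : F → eGroup Q S := fun t => el Q S e (t • b') with hfB
  have hb : b ∈ S := perp_le P.hc
  have he : e ∈ S := perp_le P.ha
  have hb' : b' ∈ S := perp_le P.hc'
  have hbt : ∀ t : F, B b (t • e) = 0 := fun t => by
    rw [QuadraticMap.polar_smul_right, P.be, smul_zero]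
  have het : ∀ t : F, B e (t • b') = 0 := fun t => by
    rw [QuadraticMap.polar_smul_right, P.ac', smul_zero]
  -- the two subgroups commute
  have hBA : ∀ x t : F, Commute (ρ (fB x)) (ρ (fA t)) := by
    intro x t
    show ρ (fB x) * ρ (fA t) = ρ (fA t) * ρ (fB x)
    rw [← map_mul, ← map_mul]
    congr 1
    rw [← mul_inv_eq_iff_eq_mul]
    show fB x * el Q S b (t • e) * (fB x)⁻¹ = _
    rw [el_conj _ P.p'.hu (hbt t) hb (S.smul_mem _ he)]
    have h1 : act (fB x).1 b = (1 : F) • b + (-x) • e := by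
      rw [hfB, el_val P.p.hu (het x) he (S.smul_mem _ hb'), act_eich, P.be,
        QuadraticMap.polar_smul_right, P.p'.huv, smul_eq_mul, mul_one]
      module
    have h2 : act (fB x).1 (t • e) = t • e := by
      rw [map_smul, hfB, el_val P.p.hu (het x) he (S.smul_mem _ hb'), act_eich_self]
    rw [h1, h2, el_add_left 1 (-x) t P.p'.hu P.p.hu P.be hb he, one_mul]
  -- an element centralising the first and scaling the second
  obtain ⟨H, hH, He, Hb', -, Hb, -⟩ := torus P.flip hs0
  let H' : eGroup Q S := ⟨H, eGroup_mono perp_le hH⟩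
  have hHP : Commute (ρ H') P₀ :=
    C.commute_pr ρ (act_fix_perp C hH).1 (act_fix_perp C hH).2 (map_zero _)
  have hHA : ∀ t : F, Commute (ρ H') (ρ (fA t)) := by
    intro t
    show ρ H' * ρ (fA t) = ρ (fA t) * ρ H'
    rw [← map_mul, ← map_mul]
    congr 1
    rw [← mul_inv_eq_iff_eq_mul]
    show H' * el Q S b (t • e) * H'⁻¹ = el Q S b (t • e)
    rw [el_conj _ P.p'.hu (hbt t) hb (S.smul_mem _ he), show act H'.1 b = s⁻¹ • b from Hb,
      map_smul, show act H'.1 e = s • e from He, el_smul _ P.p'.hu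
        (by rw [smul_smul]; exact hbt _) hb (S.smul_mem _ (S.smul_mem _ he)), smul_smul,
      smul_smul, show s⁻¹ * t * s = t by field_simp]
  have hHB : ∀ x : F, ⁅H', fB x⁆ = fB ((s * s - 1) * x) := by
    intro x
    rw [commutatorElement_def, eq_comm, eq_mul_inv_iff_mul_eq]
    show fB _ * fB x = H' * el Q S e (x • b') * H'⁻¹
    rw [el_conj _ P.p.hu (het x) he (S.smul_mem _ hb'), show act H'.1 e = s • e from He, map_smul,
      show act H'.1 b' = s • b' from Hb', el_smul _ P.p.hu (by rw [smul_smul]; exact het _) he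
        (S.smul_mem _ (S.smul_mem _ hb')), smul_smul, smul_smul, ← HB.add]
    show el Q S e (_ • b') = _
    congr 2
    ring
  -- the eigenlines of the first subgroup are fixed by the second
  have hline : ∀ c ≠ (0 : F), ∀ x : F,
      ρ (fB x) * avg ρ ψ fA P₀ c = avg ρ ψ fA P₀ c := by
    intro c hc x
    have h1 : LinearMap.trace ℂ V (avg ρ ψ fA P₀ c) = 1 := by
      rw [HA.trace_avg hψ c htrP (htr P), if_neg hc]
      field_simp
      ring
    obtain ⟨z, rfl⟩ : ∃ z, x = (s * s - 1) * z :=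
      ⟨x / (s * s - 1), (mul_div_cancel₀ _ (sub_ne_zero.2 hs2)).symm⟩
    rw [← hHB]
    exact commutator_on_line ρ (HA.avg_idem c) h1 (HA.commute_avg hHP hHA c)
      (HA.commute_avg (HB.comm z) (hBA z) c)
  set A₀ := avg ρ ψ fA P₀ 0 with hA₀
  set B₀ := avg ρ ψ fB P₀ 0 with hB₀
  have hfix : ∀ x : F, ρ (fB x) * (P₀ - A₀) = P₀ - A₀ := by
    intro x
    have : P₀ - A₀ = ∑ c ∈ Finset.univ.erase (0 : F), avg ρ ψ fA P₀ c := by
      rw [Finset.sum_erase_eq_sub (Finset.mem_univ _), HA.sum_avg hψ]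
    rw [this, Finset.mul_sum]
    exact Finset.sum_congr rfl fun c hc => hline c (Finset.ne_of_mem_erase hc) x
  have hP₀2 : P₀ * P₀ = P₀ := C.pr_idem ρ hψ (perp Q S u v).zero_mem
  have hPA : P₀ * A₀ = A₀ := HA.avg_left 0
  have hAP : A₀ * P₀ = A₀ := HA.avg_right 0
  have hPB : P₀ * B₀ = B₀ := HB.avg_left 0
  have hBP : B₀ * P₀ = B₀ := HB.avg_right 0
  have hBX : B₀ * (P₀ - A₀) = P₀ - A₀ := by
    have hPX : P₀ * (P₀ - A₀) = P₀ - A₀ := by rw [mul_sub, hP₀2, hPA]
    rw [hB₀, avg, smul_mul_assoc, Finset.sum_mul,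
      Finset.sum_congr rfl (g := fun _ => P₀ - A₀) fun t _ => by
        rw [smul_mul_assoc, mul_assoc, hPX, hfix, zero_mul, neg_zero, AddChar.map_zero_eq_one,
          one_smul],
      Finset.sum_const, Finset.card_univ, ← Nat.cast_smul_eq_nsmul ℂ, smul_smul,
      inv_mul_cancel₀ hq, one_smul]
  have hcomm : A₀ * B₀ = B₀ * A₀ := by
    have : Commute A₀ B₀ := by
      rw [hB₀, avg]
      refine (Commute.sum_right _ _ _ fun t _ => ?_).smul_right _
      refine (Commute.mul_right ?_ (hAP.trans hPA.symm)).smul_right _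
      exact (HA.commute_avg (HB.comm t) (hBA t) 0).symm
    exact this
  -- hence the two moved parts are independent
  have hidem : (A₀ + B₀ - P₀) * (A₀ + B₀ - P₀) = A₀ + B₀ - P₀ := by
    have hAA : A₀ * A₀ = A₀ := HA.avg_idem 0
    have hBB : B₀ * B₀ = B₀ := HB.avg_idem 0
    have hBA' : B₀ * A₀ = A₀ + B₀ - P₀ := by
      rw [mul_sub, hBP] at hBX
      linear_combination (norm := abel) -hBX
    simp only [add_mul, mul_add, sub_mul, mul_sub, hAA, hBB, hPA, hAP, hPB, hBP, hP₀2, hcomm,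
      hBA']
    abel
  have htr0 := trace_proj hidem
  rw [map_sub, map_add, hA₀, hB₀, HA.trace_avg hψ 0 htrP (htr P), HB.trace_avg hψ 0 htrP (htr P'),
    if_pos rfl, htrP] at htr0
  obtain ⟨n, hn⟩ : ∃ n, n = Module.finrank ℂ (LinearMap.range (A₀ + B₀ - P₀)) := ⟨_, rfl⟩
  have h2 : ((mult ρ ψ u v 0 : ℕ) : ℂ) = ((n + 2 * (Fintype.card F - 1) : ℕ) : ℂ) := by
    have hq1 : 1 ≤ Fintype.card F := Fintype.card_pos
    push_cast [Nat.cast_sub hq1]
    rw [hn, ← htr0, ← hm]
    field_simp
    ring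
  have h3 := Nat.cast_injective h2
  omega

end Cfsg.Agent.SimpleFacts.MinDegOrth
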