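import Mathlib
import Cfsg.Agent.SimpleFacts.MinDegOrth.PlusBase

/-!
The degree thirty-two does not occur for `Ω⁻(8,2)` with the singular characters: the vectors fixed
by the root groups inside a totally singular plane would carry an impossible action.
-/

set_option autoImplicit false
set_option linter.unusedSectionVars false
set_option linter.unusedSimpArgs false

namespace Cfsg.Agent.SimpleFacts.MinDegOrth

open Cfsg.Agent.Forms Cfsg.Agent.Forms.QuadStd Cfsg.Agent.Forms.Reflections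
open Cfsg.Agent.Classical.Orth
open scoped commutatorElement

/-! ### The linear algebra -/

/-- Four vectors, and the span they generate. -/
def InSpan {V : Type*} [AddCommGroup V] [Module ℂ V] (r p₁ p₂ p₃ x : V) : Prop :=
  ∃ a₀ a₁ a₂ a₃ : ℂ, x = a₀ • r + a₁ • p₁ + a₂ • p₂ + a₃ • p₃

/-- Independence. -/
def Indep {V : Type*} [AddCommGroup V] [Module ℂ V] (r p₁ p₂ p₃ : V) : Prop :=
  ∀ a₀ a₁ a₂ a₃ : ℂ, a₀ • r + a₁ • p₁ + a₂ • p₂ + a₃ • p₃ = 0 → a₀ = 0 ∧ a₁ = 0 ∧ a₂ = 0 ∧ a₃ = 0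

section Core

variable {V : Type*} [AddCommGroup V] [Module ℂ V] {r p₁ p₂ p₃ : V}

theorem core (T t D Db : Module.End ℂ V) (σ : ℂ) (li : Indep r p₁ p₂ p₃)
    (hTr : InSpan r p₁ p₂ p₃ (T r)) (hT₁ : InSpan r p₁ p₂ p₃ (T p₁))
    (hT₂ : InSpan r p₁ p₂ p₃ (T p₂))
    (hD : D r = r ∧ D p₁ = -p₁ ∧ D p₂ = p₂ ∧ D p₃ = -p₃)
    (hDb : Db r = r ∧ Db p₁ = p₁ ∧ Db p₂ = -p₂ ∧ Db p₃ = -p₃)
    (ht : t r = σ • r ∧ t p₁ = p₁ ∧ t p₂ = p₃ ∧ t p₃ = p₂)
    (hTT : ∀ x, T (T x) = x) (hTt : ∀ x, T (t x) = t (T x))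
    (hTD : ∀ x, T (Db x) = t (Db (T x))) (hbraid : ∀ x, D (T (D x)) = T (D (T x))) :
    ∃ c : ℂ, c ≠ 0 ∧ T p₁ = -p₁ ∧ T (p₂ + p₃) = p₂ + p₃ ∧ T r = c • (p₂ - p₃) ∧
      T (p₂ - p₃) = c⁻¹ • r := by
  obtain ⟨c₀, c₁, c₂, c₃, hc⟩ := hTr
  obtain ⟨a₀, a₁, a₂, a₃, ha⟩ := hT₁
  obtain ⟨b₀, b₁, b₂, b₃, hb⟩ := hT₂
  have tD : ∀ x₀ x₁ x₂ x₃ : ℂ, t (Db (x₀ • r + x₁ • p₁ + x₂ • p₂ + x₃ • p₃)) =
      (σ * x₀) • r + x₁ • p₁ + (-x₃) • p₂ + (-x₂) • p₃ := by
    intro x₀ x₁ x₂ x₃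
    simp only [map_add, map_smul, map_neg, hDb, ht]
    module
  have tt : ∀ x₀ x₁ x₂ x₃ : ℂ, t (x₀ • r + x₁ • p₁ + x₂ • p₂ + x₃ • p₃) =
      (σ * x₀) • r + x₁ • p₁ + x₃ • p₂ + x₂ • p₃ := by
    intro x₀ x₁ x₂ x₃
    simp only [map_add, map_smul, map_neg, ht]
    module
  have ext4 : ∀ x₀ x₁ x₂ x₃ y₀ y₁ y₂ y₃ : ℂ,
      x₀ • r + x₁ • p₁ + x₂ • p₂ + x₃ • p₃ = y₀ • r + y₁ • p₁ + y₂ • p₂ + y₃ • p₃ →
      x₀ = y₀ ∧ x₁ = y₁ ∧ x₂ = y₂ ∧ x₃ = y₃ := by
    intro x₀ x₁ x₂ x₃ y₀ y₁ y₂ y₃ h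
    obtain ⟨h₀, h₁, h₂, h₃⟩ := li (x₀ - y₀) (x₁ - y₁) (x₂ - y₂) (x₃ - y₃)
      (by linear_combination (norm := module) h)
    exact ⟨sub_eq_zero.1 h₀, sub_eq_zero.1 h₁, sub_eq_zero.1 h₂, sub_eq_zero.1 h₃⟩
  have A1 := ext4 a₀ a₁ a₂ a₃ (σ * a₀) a₁ (-a₃) (-a₂)
    (by rw [← tD, ← ha, ← hTD, hDb.2.1])
  have A2 := ext4 a₀ a₁ a₂ a₃ (σ * a₀) a₁ a₃ a₂ (by rw [← tt, ← ha, ← hTt, ht.2.1])
  have ha2 : a₂ = 0 := by linear_combination (A1.2.2.1 + A2.2.2.1) / 2
  have ha3 : a₃ = 0 := by linear_combination (A1.2.2.2 + A2.2.2.2) / 2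
  have C1 := ext4 c₀ c₁ c₂ c₃ (σ * c₀) c₁ (-c₃) (-c₂) (by rw [← tD, ← hc, ← hTD, hDb.1])
  have C2 := ext4 (σ * c₀) (σ * c₁) (σ * c₂) (σ * c₃) (σ * c₀) c₁ c₃ c₂ (by
    rw [← tt c₀ c₁ c₂ c₃, ← hc, ← hTt, ht.1, map_smul, hc]
    module)
  have B1 := ext4 (-b₀) (-b₁) (-b₂) (-b₃) (σ * b₀) b₁ (-b₃) (-b₂) (by
    rw [← tD, ← hb, ← hTD, hDb.2.2.1, map_neg, hb]
    module)
  have hb1 : b₁ = 0 := by linear_combination (-1 / 2 : ℂ) * B1.2.1
  have hb3 : b₂ = b₃ := by linear_combination -B1.2.2.1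
  have hT3 : T p₃ = (σ * b₀) • r + b₁ • p₁ + b₃ • p₂ + b₂ • p₃ := by
    rw [← tt, ← hb, ← hTt, ht.2.2.1]
  have inj : ∀ x, T x = 0 → x = 0 := fun x hx => by rw [← hTT x, hx, map_zero]
  -- the sign on `r`
  have hσb : (σ + 1) * b₀ = 0 := by linear_combination -B1.1
  have hb0 : b₀ ≠ 0 := by
    intro h0
    have : T (p₂ - p₃) = 0 := by
      rw [map_sub, hb, hT3, h0, hb1, hb3]
      module
    have h := ext4 0 0 1 (-1) 0 0 0 0 (by linear_combination (norm := module) inj _ this)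
    exact one_ne_zero h.2.2.1
  have hσ : σ = -1 := by linear_combination (mul_eq_zero.1 hσb).resolve_right hb0
  subst hσ
  have hc0 : c₀ = 0 := by linear_combination C1.1 / 2
  have hc1 : c₁ = 0 := by linear_combination (-1 / 2 : ℂ) * C2.2.1
  have hc3 : c₃ = -c₂ := C1.2.2.2
  have ha0 : a₀ = 0 := by linear_combination A1.1 / 2
  have hTp₁ : T p₁ = a₁ • p₁ := by rw [ha, ha0, ha2, ha3]; module
  have hTr' : T r = c₂ • (p₂ - p₃) := by rw [hc, hc0, hc1, hc3]; module
  have hTs : T (p₂ + p₃) = (2 * b₂) • (p₂ + p₃) := by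
    rw [map_add, hb, hT3, hb1, ← hb3]
    module
  have hTm : T (p₂ - p₃) = (2 * b₀) • r := by
    rw [map_sub, hb, hT3, hb1, ← hb3]
    module
  have hsq := hTT r
  rw [hTr', map_smul, hTm, smul_smul] at hsq
  have hcb : c₂ * (2 * b₀) = 1 := (ext4 (c₂ * (2 * b₀)) 0 0 0 1 0 0 0
    (by linear_combination (norm := module) hsq)).1
  have hc2 : c₂ ≠ 0 := left_ne_zero_of_mul_eq_one hcb
  -- the braid relation
  have ha1 : a₁ = -1 := by
    have h1 := hTT p₁
    rw [hTp₁, map_smul, hTp₁, smul_smul] at h1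
    have h2 := hbraid p₁
    simp only [hD.2.1, map_neg, map_smul, hTp₁] at h2
    have e1 := (ext4 0 (a₁ * a₁) 0 0 0 1 0 0 (by linear_combination (norm := module) h1)).2.1
    have e2 := (ext4 0 a₁ 0 0 0 (-(a₁ * a₁)) 0 0 (by linear_combination (norm := module) h2)).2.1
    linear_combination e2 - e1
  have hb2 : 2 * b₂ = 1 := by
    have h2 := hbraid (p₂ + p₃)
    have hDs : D (p₂ + p₃) = p₂ - p₃ := by rw [map_add, hD.2.2.1, hD.2.2.2, sub_eq_add_neg]
    rw [hDs, hTm, map_smul, hD.1, hTs, map_smul, hDs, map_smul, hTm, smul_smul] at h2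
    have e1 := (ext4 (2 * b₀) 0 0 0 (2 * b₂ * (2 * b₀)) 0 0 0
      (by linear_combination (norm := module) h2)).1
    have hne : (2 : ℂ) * b₀ ≠ 0 := right_ne_zero_of_mul_eq_one hcb
    exact mul_right_cancel₀ hne (by rw [one_mul, ← e1])
  refine ⟨c₂, hc2, by rw [hTp₁, ha1, neg_one_smul], by rw [hTs, hb2, one_smul], hTr', ?_⟩
  rw [hTm, ← eq_inv_of_mul_eq_one_right hcb]

/-- Two such operators do not commute. -/
theorem core_false (T T' : Module.End ℂ V) (li : Indep r p₁ p₂ p₃) {c c' : ℂ} (hc : c ≠ 0)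
    (hc' : c' ≠ 0)
    (h1 : T p₁ = -p₁) (h2 : T (p₂ + p₃) = p₂ + p₃) (h3 : T r = c • (p₂ - p₃))
    (h4 : T (p₂ - p₃) = c⁻¹ • r)
    (k2 : T' (p₁ + p₃) = p₁ + p₃) (k4 : T' (p₁ - p₃) = c'⁻¹ • r)
    (hcomm : ∀ x, T (T' x) = T' (T x)) : False := by
  have e3 : T p₃ = (1 / 2 : ℂ) • (p₂ + p₃ - c⁻¹ • r) := by
    rw [← h4]
    conv_rhs => rw [← h2, ← map_sub, ← map_smul]
    congr 1
    module
  have e1 : T' p₁ = (1 / 2 : ℂ) • (p₁ + p₃ + c'⁻¹ • r) := by
    rw [← k4]
    conv_rhs => rw [← k2, ← map_add, ← map_smul]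
    congr 1
    module
  have h := hcomm p₁
  rw [h1, map_neg, e1, map_smul, map_add, map_add, map_smul, h1, e3, h3] at h
  have := li (c⁻¹ * (-1 / 4) + c'⁻¹ / 2) 0 (1 / 4 + c'⁻¹ * c / 2) (1 / 4 - c'⁻¹ * c / 2 + 1 / 2)
    (by linear_combination (norm := module) h)
  obtain ⟨-, -, q2, q3⟩ := this
  have : (1 : ℂ) = 0 := by linear_combination q2 + q3
  exact one_ne_zero this

end Core

/-! ### The group -/

variable {F : Type*} [Field F] [Fintype F] {ι : Type} [Fintype ι] [DecidableEq ι]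
variable {Q : QuadraticForm F (ι → F)}

local notation "Vec" => (ι → F)
local notation "B" => QuadraticMap.polar Q

variable {S : Submodule F (ι → F)} {u v : ι → F}
variable {V : Type*} [AddCommGroup V] [Module ℂ V] [FiniteDimensional ℂ V]
variable (ρ : Representation ℂ (eGroup Q S) V) {ψ : AddChar F ℂ}

/-- The vectors fixed by the root elements of the plane `⟨u, e, b⟩`. -/
def PlaneFixed (u e b : ι → F) (x : V) : Prop :=
  ρ (el Q S u e) x = x ∧ ρ (el Q S u b) x = x ∧ ρ (el Q S b e) x = x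

theorem two_facts (hq : Fintype.card F = 2) :
    (2 : F) = 0 ∧ ∀ a : F, a = 0 ∨ a = 1 := by
  refine ⟨?_, fun a => ?_⟩
  · have h := FiniteField.cast_card_eq_zero F
    rw [hq] at h
    exact_mod_cast h
  · by_cases ha : a = 0
    · exact Or.inl ha
    · have h := FiniteField.pow_card_sub_one_eq_one a ha
      rw [hq, show (2 : ℕ) - 1 = 1 from rfl, pow_one] at h
      exact Or.inr h

theorem neg_vec (h2 : (2 : F) = 0) (x : Vec) : -x = x := by
  have : (-1 : F) = 1 := by linear_combination -h2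
  rw [← neg_one_smul F x, this, one_smul]

theorem ρ_el_inv {a w : Vec} (h2 : (2 : F) = 0) (ha : Q a = 0) (hw : B a w = 0) (h1 : a ∈ S)
    (hw' : w ∈ S) : el Q S a w * el Q S a w = 1 := by
  rw [← el_add ha hw hw h1 hw' hw', show w + w = 0 by
    rw [← two_smul F w, h2, zero_smul], el_zero ha h1]

theorem el_two_first (h2 : (2 : F) = 0) {x y w : Vec} (hx : Q x = 0) (hy : Q y = 0) (hw : Q w = 0)
    (hxy : B x y = 0) (hxw : B x w = 0) (hyw : B y w = 0) (m1 : x ∈ S) (m2 : y ∈ S) (m3 : w ∈ S) :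
    el Q S (x + y) w = el Q S x w * el Q S y w := by
  have sym : ∀ a, Q a = 0 → B a w = 0 → a ∈ S → el Q S a w = el Q S w a := by
    intro a ha haw ma
    have haw' : B w a = 0 := by rw [QuadraticMap.polar_comm]; exact haw
    refine Subtype.ext ?_
    rw [el_val ha haw ma m3, el_val hw haw' m3 ma, eich_swap hw ha haw (by
      rw [QuadraticMap.polar_neg_right, haw', neg_zero]), eich_congr (neg_vec h2 a)]
  rw [sym _ (by rw [map_add', hx, hy, hxy, add_zero, add_zero])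
    (by rw [QuadraticMap.polar_add_left, hxw, hyw, add_zero]) (S.add_mem m1 m2),
    sym x hx hxw m1, sym y hy hyw m2]
  exact el_add hw (by rw [QuadraticMap.polar_comm]; exact hxw)
    (by rw [QuadraticMap.polar_comm]; exact hyw) m3 m1 m2

/-- The relations between four root elements. -/
theorem relations (h2 : (2 : F) = 0) (C : Cfg Q S u v) {e e' b b' : Vec}
    (P : Pairs Q (perp Q S u v) e e' b b') :
    el Q S e v * el Q S e b' = el Q S e b' * el Q S e v ∧
      el Q S e v * el Q S u b' = el Q S e b' * (el Q S u b' * el Q S e v) ∧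
      el Q S u e' * (el Q S e v * el Q S u e') = el Q S e v * (el Q S u e' * el Q S e v) := by
  have he : e ∈ S := perp_le P.ha
  have he' : e' ∈ S := perp_le P.ha'
  have hb' : b' ∈ S := perp_le P.hc'
  have hev : B e v = 0 := perp_right' P.ha
  have hue : B u e' = 0 := perp_left P.ha'
  have hub : B u b' = 0 := perp_left P.hc'
  set T := el Q S e v with hT
  set D := el Q S u e' with hD
  have vT : ∀ x, act T.1 x = x + B x e • v - B x v • e - (Q v * B x e) • e := fun x => by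
    rw [hT, el_val P.p.hu hev he C.hv, act_eich]
  have vD : ∀ x, act D.1 x = x + B x u • e' - B x e' • u - (Q e' * B x u) • u := fun x => by
    rw [hD, el_val C.p.hu hue C.hu he', act_eich]
  have t1 : act T.1 e = e := by rw [vT, polar_self_zero P.p.hu, hev]; simp
  have t2 : act T.1 b' = b' := by
    rw [vT, QuadraticMap.polar_comm _ b' e, P.ac', perp_right' P.hc']; simp
  refine ⟨?_, ?_, ?_⟩
  · rw [← mul_inv_eq_iff_eq_mul, el_conj T P.p.hu P.ac' he hb', t1, t2]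
  · have t3 : act T.1 u = u + e := by
      rw [vT, perp_left P.ha, C.p.huv]
      conv_rhs => rw [← neg_vec h2 e]
      module
    rw [← mul_assoc, ← mul_inv_eq_iff_eq_mul, el_conj T C.p.hu hub C.hu hb', t3, t2,
      add_comm u e, el_two_first h2 P.p.hu C.p.hu P.p'.hv (perp_left' P.ha) P.ac' hub he C.hu hb']
  · have d1 : act (D * T : eGroup Q S).1 u = e := by
      rw [Subgroup.coe_mul, act_mul, vT, perp_left P.ha, C.p.huv]
      simp only [zero_smul, one_smul, add_zero, mul_zero, sub_zero]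
      rw [map_sub, vD, vD, polar_self_zero C.p.hu, hue, perp_left' P.ha, P.p.huv]
      conv_rhs => rw [← neg_vec h2 e]
      have hu2 : u + u = 0 := by rw [← two_smul F u, h2, zero_smul]
      linear_combination (norm := module) hu2
    have d2 : act (D * T : eGroup Q S).1 e' = v := by
      rw [Subgroup.coe_mul, act_mul, vT, P.p.hvu, perp_right' P.ha', C.p.hv]
      simp only [zero_smul, one_smul, mul_one, sub_zero]
      rw [map_add, vD, vD, perp_left' P.ha', polar_self_zero P.p.hv, C.p.hvu, perp_right P.ha',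
        P.p.hv]
      have he2 : e' + e' = 0 := by rw [← two_smul F e', h2, zero_smul]
      linear_combination (norm := module) he2
    have h := el_conj (D * T) C.p.hu hue C.hu he'
    rw [d1, d2, ← hD, ← hT, mul_inv_eq_iff_eq_mul] at h
    rw [← mul_assoc, h]

/-- The operators move the fixed space of the plane into itself. -/
theorem planeFixed_move (h2 : (2 : F) = 0) (C : Cfg Q S u v) {e e' b b' : Vec}
    (P : Pairs Q (perp Q S u v) e e' b b') {x : V} (hx : PlaneFixed ρ u e b x) :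
    PlaneFixed ρ u e b (ρ (el Q S e v) x) := by
  have he : e ∈ S := perp_le P.ha
  have hb : b ∈ S := perp_le P.hc
  have hev : B e v = 0 := perp_right' P.ha
  set T := el Q S e v with hT
  have vT : ∀ z, act T.1 z = z + B z e • v - B z v • e - (Q v * B z e) • e := fun z => by
    rw [hT, el_val P.p.hu hev he C.hv, act_eich]
  have t1 : act T.1 e = e := by rw [vT, polar_self_zero P.p.hu, hev]; simp
  have t2 : act T.1 b = b := by rw [vT, P.be, perp_right' P.hc]; simp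
  have t3 : act T.1 u = u + e := by
    rw [vT, perp_left P.ha, C.p.huv]
    conv_rhs => rw [← neg_vec h2 e]
    module
  have hTT : T * T = 1 := ρ_el_inv h2 P.p.hu hev he C.hv
  have key : ∀ g h : eGroup Q S, T * g * T⁻¹ = h → ρ h x = x → ρ g (ρ T x) = ρ T x := by
    intro g h hgh hh
    have e1 : g * T = T * h := by
      rw [← hgh, inv_eq_of_mul_eq_one_right hTT, ← mul_assoc, ← mul_assoc, hTT, one_mul]
    rw [← Module.End.mul_apply, ← map_mul, e1, map_mul, Module.End.mul_apply, hh]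
  have hee : el Q S e e = 1 := by
    refine Subtype.ext ?_
    rw [el_val P.p.hu (polar_self_zero P.p.hu) he he,
      eich_congr (show e = 0 + (1 : F) • e by module) P.p.hu,
      eich_add_self _ P.p.hu (QuadraticMap.polar_zero_right _ _), eich_zero_right]
    rfl
  have hebfix : ρ (el Q S e b) x = x := by
    have : el Q S e b = el Q S b e := by
      refine Subtype.ext ?_
      rw [el_val P.p.hu P.ac he hb, el_val P.p'.hu P.be hb he, eich_swap P.p.hu P.p'.hu P.be (by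
        rw [QuadraticMap.polar_neg_right, P.ac, neg_zero]), eich_congr (neg_vec h2 b)]
    rw [this]; exact hx.2.2
  refine ⟨key _ _ ?_ hx.1, key _ (el Q S u b * el Q S e b) ?_ ?_, key _ _ ?_ hx.2.2⟩
  · rw [el_conj T C.p.hu (perp_left P.ha) C.hu he, t3, t1,
      el_two_first h2 C.p.hu P.p.hu P.p.hu (perp_left P.ha) (perp_left P.ha)
        (polar_self_zero P.p.hu) C.hu he he, hee, mul_one]
  · rw [el_conj T C.p.hu (perp_left P.hc) C.hu hb, t3, t2,
      el_two_first h2 C.p.hu P.p.hu P.p'.hu (perp_left P.ha) (perp_left P.hc) P.ac C.hu he hb]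
  · rw [map_mul, Module.End.mul_apply, hebfix, hx.2.1]
  · rw [el_conj T P.p'.hu P.be hb he, t2, t1]

/-- The case `q = 2` in dimension eight, minus type. -/
theorem no_thirty_two (hq : Fintype.card F = 2) (C : Cfg Q S u v) (hψ : ψ ≠ 1)
    (L : Lev Q (-1) 3 (perp Q S u v)) {e e' b b' : Vec}
    (P : Pairs Q (perp Q S u v) e e' b b') (hs : Single ρ ψ u v 0)
    (hm : mult ρ ψ u v 0 = 5) : False := by
  classical
  obtain ⟨h2, h01⟩ := two_facts hq
  set W := perp Q S u v with hW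
  have hψ1 : ψ 1 = -1 := by
    have h : ψ 1 * ψ 1 = 1 := by
      rw [← AddChar.map_add_eq_mul, one_add_one_eq_two, h2, AddChar.map_zero_eq_one]
    refine (mul_self_eq_one_iff.1 h).resolve_left fun e1 => hψ (DFunLike.ext _ _ fun a => ?_)
    rcases h01 a with rfl | rfl
    · simp
    · simpa using e1
  have hbmem : b ∈ perp Q W e e' := mem_perp.2 ⟨P.hc, P.ac, P.a'c⟩
  have hb'mem : b' ∈ perp Q W e e' := mem_perp.2 ⟨P.hc', P.ac', P.a'c'⟩
  -- singular vectors orthogonal to `e` and `b`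
  have hsing : ∀ {a a' c c' : Vec}, Pairs Q W a a' c c' → ∀ y ∈ W, Q y = 0 → B y a = 0 →
      B y c = 0 → y = B y a' • a + B y c' • c := by
    intro a a' c c' R y hy hQ hya hyc
    have hc : c ∈ perp Q W a a' := mem_perp.2 ⟨R.hc, R.ac, R.a'c⟩
    have hc' : c' ∈ perp Q W a a' := mem_perp.2 ⟨R.hc', R.ac', R.a'c'⟩
    have hzW := proj_mem_perp R.p' hc hc' (proj_mem_perp R.p R.ha R.ha' hy)
    set z := proj Q c c' (proj Q a a' y) with hz
    have hd1 := proj_add (Q := Q) a a' y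
    rw [hya, zero_smul, add_zero] at hd1
    have hd2 := proj_add (Q := Q) c c' (proj Q a a' y)
    have hc1 : B (proj Q a a' y) c' = B y c' := by
      simp [proj, QuadraticMap.polar_sub_left, QuadraticMap.polar_smul_left, R.ac', R.a'c']
    have hc2 : B (proj Q a a' y) c = 0 := by
      simp [proj, QuadraticMap.polar_sub_left, QuadraticMap.polar_smul_left, R.ac, R.a'c, hyc]
    rw [hc1, hc2, zero_smul, add_zero, ← hz] at hd2
    have hdec : y = B y a' • a + B y c' • c + z := by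
      conv_lhs => rw [hd1, hd2]
      abel
    have hQz : Q z = 0 := by
      rw [hdec] at hQ
      simpa [map_add', map_smul', QuadraticMap.polar_add_left, QuadraticMap.polar_smul_left,
        R.p.hu, R.p'.hu, R.ac, perp_left (perp_le hzW), perp_left hzW] using hQ
    have hz0 : z = 0 := ((L.perp R.p R.ha R.ha').perp R.p' hc hc').no_sing hzW hQz
    rw [hz0, add_zero] at hdec
    exact hdec
  have hphase : ∀ {a a' c c' : Vec}, Pairs Q W a a' c c' → ∀ y ∈ W, y ≠ 0 → Q y = 0 → B y a = 0 →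
      B y c = 0 → ρ (el Q S c a) * pr ρ ψ u v y = pr ρ ψ u v y := by
    intro a a' c c' R y hy hy0 hQ hya hyc
    have hc : c ∈ perp Q W a a' := mem_perp.2 ⟨R.hc, R.ac, R.a'c⟩
    have hc' : c' ∈ perp Q W a a' := mem_perp.2 ⟨R.hc', R.ac', R.a'c'⟩
    have L2 := (L.perp R.p R.ha R.ha').perp R.p' hc hc'
    obtain ⟨x, hx, z, hz, -, -, hzx⟩ := exists_comm_vectors L2.nd (y := 0) (Submodule.zero_mem _)
      (Or.inl ⟨rfl, by rw [L2.card, hq]; norm_num⟩)
    have hd := hsing R y hy hQ hya hyc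
    have hperp : ∀ w ∈ perp Q (perp Q W a a') c c', B y w = 0 := by
      intro w hw
      rw [hd, QuadraticMap.polar_add_left, QuadraticMap.polar_smul_left,
        QuadraticMap.polar_smul_left, perp_left (perp_le hw), perp_left hw]
      simp
    exact phase_comm ρ C hψ R hy hya hyc ((hs y hy hy0).1 hQ) hx hz (hperp x hx) (hperp z hz) hzx
  have heS : e ∈ S := perp_le P.ha
  have hbS : b ∈ S := perp_le P.hc
  have he'S : e' ∈ S := perp_le P.ha'
  have hb'S : b' ∈ S := perp_le P.hc'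
  set X := el Q S b e with hX
  have hXfix : act X.1 u = u ∧ act X.1 v = v := by
    rw [hX, el_val P.p'.hu P.be hbS heS]
    exact ⟨act_eich_fix _ _ (perp_left P.hc) (perp_left P.ha),
      act_eich_fix _ _ (perp_right P.hc) (perp_right P.ha)⟩
  have hX0 : Commute (ρ X) (pr ρ ψ u v 0) := C.commute_pr ρ hXfix.1 hXfix.2 (map_zero _)
  have hXX : ρ X * ρ X = 1 := by
    rw [← map_mul, hX, ρ_el_inv h2 P.p'.hu P.be hbS heS, map_one]
  have hP0 := C.pr_idem ρ hψ W.zero_mem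
  -- the line in the fixed space of the radical
  set Pz := (1 / 2 : ℂ) • (pr ρ ψ u v 0 + ρ X * pr ρ ψ u v 0) with hPz
  have hXP : ρ X * pr ρ ψ u v 0 * (ρ X * pr ρ ψ u v 0) = pr ρ ψ u v 0 := by
    rw [mul_assoc, ← mul_assoc (pr ρ ψ u v 0), ← hX0.eq, mul_assoc, hP0, ← mul_assoc, hXX, one_mul]
  have hPX : pr ρ ψ u v 0 * (ρ X * pr ρ ψ u v 0) = ρ X * pr ρ ψ u v 0 := by
    rw [← mul_assoc, ← hX0.eq, mul_assoc, hP0]
  have hPzidem : Pz * Pz = Pz := by
    rw [hPz, smul_mul_assoc, mul_smul_comm, smul_smul, add_mul, mul_add, mul_add, hP0, hXP, hPX,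
      mul_assoc, hP0]
    module
  have htrX := hs.trace_fix ρ C hψ P fun y hy hy0 hc hye hyb =>
    hphase P y hy hy0 hc hye hyb
  rw [((L.perp P.p P.ha P.ha').perp P.p' hbmem hb'mem).card] at htrX
  have hrank : Module.finrank ℂ (LinearMap.range Pz) = 1 := by
    have h := trace_proj hPzidem
    rw [hPz, map_smul, map_add, C.trace_pr ρ hψ W.zero_mem, hm, htrX, hm, hq] at h
    norm_num at h
    exact_mod_cast h.symm
  obtain ⟨⟨r, hr⟩, hr0, hrspan⟩ := finrank_eq_one_iff'.1 hrank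
  have hr0' : r ≠ 0 := fun h0 => hr0 (Subtype.ext h0)
  have hP0r : pr ρ ψ u v 0 r = r := by
    obtain ⟨z, rfl⟩ := hr
    rw [← Module.End.mul_apply, hPz, mul_smul_comm, mul_add, hP0, hPX]
  have hXr : ρ X r = r := by
    obtain ⟨z, rfl⟩ := hr
    rw [← Module.End.mul_apply, hPz, mul_smul_comm, mul_add, ← mul_assoc, hXX, one_mul, add_comm]
  -- the three other lines
  have hebW : e + b ∈ W := W.add_mem P.ha P.hc
  have heb0 : e + b ≠ 0 := fun h0 => by
    have h := congrArg (fun z => B z e') h0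
    simp [QuadraticMap.polar_add_left, P.p.huv, QuadraticMap.polar_comm _ b e', P.a'c] at h
  have hQeb : Q (e + b) = 0 := by rw [map_add', P.p.hu, P.p'.hu, P.ac, add_zero, add_zero]
  have hline : ∀ y ∈ W, y ≠ 0 → Q y = 0 → ∀ x z : V, x ≠ 0 → pr ρ ψ u v y x = x →
      pr ρ ψ u v y z = z → ∃ a : ℂ, z = a • x := by
    intro y hy hy0 hQ x z hx hxy hzy
    have h1 : Module.finrank ℂ (LinearMap.range (pr ρ ψ u v y)) = 1 := (hs y hy hy0).1 hQ
    obtain ⟨a, ha⟩ := exists_smul_eq_of_finrank_eq_one h1 (x := (⟨x, x, hxy⟩ : LinearMap.range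
      (pr ρ ψ u v y))) (fun h => hx (congrArg Subtype.val h)) ⟨z, z, hzy⟩
    exact ⟨a, (congrArg Subtype.val ha).symm⟩
  obtain ⟨p₃, hp₃0, hp₃⟩ : ∃ p : V, p ≠ 0 ∧ pr ρ ψ u v (e + b) p = p := by
    have h1 : Module.finrank ℂ (LinearMap.range (pr ρ ψ u v (e + b))) = 1 :=
      (hs _ hebW heb0).1 hQeb
    obtain ⟨⟨p, z, hz⟩, hp, -⟩ := finrank_eq_one_iff'.1 h1
    refine ⟨p, fun h => hp (Subtype.ext h), ?_⟩
    rw [← hz, ← Module.End.mul_apply, C.pr_idem ρ hψ hebW]
  set t := el Q S e b' with ht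
  set t' := el Q S b e' with ht'
  have htfix : act t.1 u = u ∧ act t.1 v = v ∧ act t.1 (e + b) = b ∧ act t.1 e = e := by
    rw [ht, el_val P.p.hu P.ac' heS hb'S]
    refine ⟨act_eich_fix _ _ (perp_left P.ha) (perp_left P.hc'),
      act_eich_fix _ _ (perp_right P.ha) (perp_right P.hc'), ?_, act_eich_self _ _⟩
    rw [map_add, act_eich_self, act_eich, P.be, P.p'.huv]
    have he2 : e + e = 0 := by rw [← two_smul F e, h2, zero_smul]
    linear_combination (norm := module) 0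
  have hbe' : B b e' = 0 := by rw [QuadraticMap.polar_comm]; exact P.a'c
  have ht'fix : act t'.1 u = u ∧ act t'.1 v = v ∧ act t'.1 (e + b) = e ∧ act t'.1 b = b := by
    rw [ht', el_val P.p'.hu hbe' hbS he'S]
    refine ⟨act_eich_fix _ _ (perp_left P.hc) (perp_left P.ha'),
      act_eich_fix _ _ (perp_right P.hc) (perp_right P.ha'), ?_, act_eich_self _ _⟩
    rw [map_add, act_eich_self, act_eich, P.ac, P.p.huv]
    linear_combination (norm := module) 0
  obtain ⟨p₂, hp₂⟩ : ∃ p, p = ρ t p₃ := ⟨_, rfl⟩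
  obtain ⟨p₁, hp₁⟩ : ∃ p, p = ρ t' p₃ := ⟨_, rfl⟩
  have hmove : ∀ (g : eGroup Q S) (y : Vec) (x : V), act g.1 u = u → act g.1 v = v →
      pr ρ ψ u v y x = x → pr ρ ψ u v (act g.1 y) (ρ g x) = ρ g x := by
    intro g y x hgu hgv hx
    rw [← Module.End.mul_apply, ← C.fix_mul_pr ρ hgu hgv, Module.End.mul_apply, hx]
  have hp₂' : pr ρ ψ u v b p₂ = p₂ := by
    have := hmove t _ _ htfix.1 htfix.2.1 hp₃
    rwa [htfix.2.2.1, ← hp₂] at this
  have hp₁' : pr ρ ψ u v e p₁ = p₁ := by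
    have := hmove t' _ _ ht'fix.1 ht'fix.2.1 hp₃
    rwa [ht'fix.2.2.1, ← hp₁] at this
  have hne : ∀ (g : eGroup Q S) (x : V), x ≠ 0 → ρ g x ≠ 0 := fun g x hx h => hx (by
    have h' := congrArg (ρ g⁻¹) h
    rwa [← Module.End.mul_apply, ← map_mul, inv_mul_cancel, map_one, Module.End.one_apply,
      map_zero] at h')
  have hp₂0 : p₂ ≠ 0 := by rw [hp₂]; exact hne _ _ hp₃0
  have hp₁0 : p₁ ≠ 0 := by rw [hp₁]; exact hne _ _ hp₃0
  have he0 : e ≠ 0 := pair_ne_zero P.p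
  have hb0 : b ≠ 0 := pair_ne_zero P.p'
  -- independence
  have hproj : ∀ (y y' : Vec) (x : V), y ∈ W → y' ∈ W → y ≠ y' → pr ρ ψ u v y' x = x →
      pr ρ ψ u v y x = 0 := by
    intro y y' x hy hy' hne' hx
    rw [← hx, ← Module.End.mul_apply, C.pr_mul ρ hψ hy hy', if_neg hne', LinearMap.zero_apply]
  have heb : e ≠ b := fun h => by
    have h' : B e e' = B b e' := by rw [h]
    rw [P.p.huv, hbe'] at h'
    exact one_ne_zero h'
  have hebe : e ≠ e + b := fun h => hb0 (left_eq_add.1 h)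
  have hebb : b ≠ e + b := fun h => he0 (right_eq_add.1 h)
  have li : Indep r p₁ p₂ p₃ := by
    intro a₀ a₁ a₂ a₃ h
    have e0 := congrArg (pr ρ ψ u v 0) h
    have e1 := congrArg (pr ρ ψ u v e) h
    have e2 := congrArg (pr ρ ψ u v b) h
    have e3 := congrArg (pr ρ ψ u v (e + b)) h
    simp only [map_add, map_smul, map_zero] at e0 e1 e2 e3
    rw [hP0r, hproj 0 e p₁ W.zero_mem P.ha he0.symm hp₁', hproj 0 b p₂ W.zero_mem P.hc hb0.symm hp₂',
      hproj 0 _ p₃ W.zero_mem hebW heb0.symm hp₃] at e0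
    rw [hproj e 0 r P.ha W.zero_mem he0 hP0r, hp₁', hproj e b p₂ P.ha P.hc heb hp₂',
      hproj e _ p₃ P.ha hebW hebe hp₃] at e1
    rw [hproj b 0 r P.hc W.zero_mem hb0 hP0r, hproj b e p₁ P.hc P.ha heb.symm hp₁', hp₂',
      hproj b _ p₃ P.hc hebW hebb hp₃] at e2
    rw [hproj _ 0 r hebW W.zero_mem heb0 hP0r, hproj _ e p₁ hebW P.ha hebe.symm hp₁',
      hproj _ b p₂ hebW P.hc hebb.symm hp₂', hp₃] at e3
    simp only [smul_zero, add_zero, zero_add, smul_eq_zero] at e0 e1 e2 e3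
    exact ⟨e0.resolve_right hr0', e1.resolve_right hp₁0, e2.resolve_right hp₂0,
      e3.resolve_right hp₃0⟩
  -- the eigenvalues of the radical
  have heig : ∀ w ∈ W, ∀ y x, pr ρ ψ u v y x = x → ρ (el Q S u w) x = ψ (B y w) • x := by
    intro w hw y x hx
    have h := LinearMap.congr_fun (C.el_mul_pr ρ (ψ := ψ) hw y) x
    rwa [Module.End.mul_apply, LinearMap.smul_apply, hx] at h
  -- the fixed space of the plane
  have hfixed : ∀ x, x = r ∨ x = p₁ ∨ x = p₂ ∨ x = p₃ → PlaneFixed ρ u e b x := by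
    have key : ∀ y ∈ W, B y e = 0 → B y b = 0 → ∀ x, pr ρ ψ u v y x = x → ρ X x = x →
        PlaneFixed ρ u e b x := by
      intro y hy hye hyb x hx hXx
      exact ⟨by rw [heig e P.ha y x hx, hye, AddChar.map_zero_eq_one, one_smul],
        by rw [heig b P.hc y x hx, hyb, AddChar.map_zero_eq_one, one_smul], hXx⟩
    have key2 : ∀ y ∈ W, y ≠ 0 → Q y = 0 → B y e = 0 → B y b = 0 → ∀ x,
        pr ρ ψ u v y x = x → PlaneFixed ρ u e b x := by
      intro y hy hy0 hQ hye hyb x hx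
      refine key y hy hye hyb x hx ?_
      rw [← hx, ← Module.End.mul_apply, hX, hphase P y hy hy0 hQ hye hyb]
    have hee : B e e = 0 := polar_self_zero P.p.hu
    have hbb : B b b = 0 := polar_self_zero P.p'.hu
    rintro x (rfl | rfl | rfl | rfl)
    · exact key 0 W.zero_mem (QuadraticMap.polar_zero_left _ _) (QuadraticMap.polar_zero_left _ _)
        _ hP0r hXr
    · exact key2 e P.ha he0 P.p.hu hee P.ac _ hp₁'
    · exact key2 b P.hc hb0 P.p'.hu P.be hbb _ hp₂'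
    · exact key2 _ hebW heb0 hQeb (by rw [QuadraticMap.polar_add_left, hee, P.be, add_zero])
        (by rw [QuadraticMap.polar_add_left, P.ac, hbb, add_zero]) _ hp₃
  have hspan : ∀ x, PlaneFixed ρ u e b x → InSpan r p₁ p₂ p₃ x := by
    intro x ⟨hxe, hxb, hxX⟩
    have hdec : ∀ y : W, InSpan r p₁ p₂ p₃ (pr ρ ψ u v y.1 x) := by
      intro y
      by_cases hz : pr ρ ψ u v y.1 x = 0
      · exact ⟨0, 0, 0, 0, by rw [hz]; simp⟩
      have hidem : pr ρ ψ u v y.1 (pr ρ ψ u v y.1 x) = pr ρ ψ u v y.1 x := by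
        rw [← Module.End.mul_apply, C.pr_idem ρ hψ y.2]
      have hchar : ∀ w ∈ W, ρ (el Q S u w) x = x → B y.1 w = 0 := by
        intro w hw hwx
        have hc : Commute (ρ (el Q S u w)) (pr ρ ψ u v y.1) := by
          have hwS : w ∈ S := perp_le hw
          simp only [pr]
          refine (Commute.sum_right _ _ _ fun z _ => Commute.smul_right ?_ _).smul_right _
          show ρ _ * ρ _ = ρ _ * ρ _
          rw [← map_mul, ← map_mul, ← C.el_add' hw z.2, ← C.el_add' z.2 hw, add_comm]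
        have h1 : ρ (el Q S u w) (pr ρ ψ u v y.1 x) = pr ρ ψ u v y.1 x := by
          rw [← Module.End.mul_apply, hc.eq, Module.End.mul_apply, hwx]
        rw [heig w hw y.1 _ hidem] at h1
        rcases h01 (B y.1 w) with e0 | e1
        · exact e0
        · exfalso
          rw [e1, hψ1] at h1
          have h3 : (2 : ℂ) • pr ρ ψ u v y.1 x = 0 := by linear_combination (norm := module) -h1
          exact hz ((smul_eq_zero.1 h3).resolve_left two_ne_zero)
      have hye := hchar e P.ha hxe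
      have hyb := hchar b P.hc hxb
      by_cases hy0 : y.1 = 0
      · rw [hy0] at *
        have hmem : pr ρ ψ u v 0 x ∈ LinearMap.range Pz := ⟨x, by
          rw [hPz, LinearMap.smul_apply, LinearMap.add_apply, hX0.eq, Module.End.mul_apply, hxX]
          module⟩
        obtain ⟨a, ha⟩ := hrspan ⟨_, hmem⟩
        refine ⟨a, 0, 0, 0, ?_⟩
        have ha' : a • r = pr ρ ψ u v 0 x := congrArg Subtype.val ha
        rw [← ha']; simp
      by_cases hQ : Q y.1 = 0
      · have hd := hsing P y.1 y.2 hQ hye hyb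
        rcases h01 (B y.1 e') with h1 | h1 <;> rcases h01 (B y.1 b') with h3 | h3 <;>
          simp only [h1, h3, zero_smul, one_smul, zero_add, add_zero] at hd
        · exact absurd hd hy0
        · rw [hd] at hidem hz ⊢
          obtain ⟨a, ha⟩ := hline b P.hc hb0 P.p'.hu p₂ _ hp₂0 hp₂' hidem
          exact ⟨0, 0, a, 0, by rw [ha]; simp⟩
        · rw [hd] at hidem hz ⊢
          obtain ⟨a, ha⟩ := hline e P.ha he0 P.p.hu p₁ _ hp₁0 hp₁' hidem
          exact ⟨0, a, 0, 0, by rw [ha]; simp⟩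
        · rw [hd] at hidem hz ⊢
          obtain ⟨a, ha⟩ := hline _ hebW heb0 hQeb p₃ _ hp₃0 hp₃ hidem
          exact ⟨0, 0, 0, a, by rw [ha]; simp⟩
      · have h0 := (hs y.1 y.2 hy0).2 hQ
        rw [mult, Submodule.finrank_eq_zero, LinearMap.range_eq_bot] at h0
        exact absurd (by rw [h0]; rfl) hz
    choose a₀ a₁ a₂ a₃ ha using hdec
    refine ⟨∑ y, a₀ y, ∑ y, a₁ y, ∑ y, a₂ y, ∑ y, a₃ y, ?_⟩
    have hsum := LinearMap.congr_fun (C.sum_pr ρ (ψ := ψ) hψ) x
    rw [LinearMap.sum_apply, Module.End.one_apply] at hsum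
    conv_lhs => rw [← hsum]
    rw [Finset.sum_congr rfl fun y _ => ha y]
    simp only [Finset.sum_add_distrib, ← Finset.sum_smul]
  -- the sign on the line
  have htr : t * t = 1 := ρ_el_inv h2 P.p.hu P.ac' heS hb'S
  have ht'r : t' * t' = 1 := ρ_el_inv h2 P.p'.hu hbe' hbS he'S
  have hsig : ∀ g : eGroup Q S, act g.1 u = u → act g.1 v = v → g * X = X * g →
      ∃ σ : ℂ, ρ g r = σ • r := by
    intro g hgu hgv hgX
    have hP := hmove g 0 r hgu hgv hP0r
    rw [map_zero] at hP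
    have hXg : ρ X (ρ g r) = ρ g r := by
      rw [← Module.End.mul_apply, ← map_mul, ← hgX, map_mul, Module.End.mul_apply, hXr]
    have hmem : ρ g r ∈ LinearMap.range Pz := ⟨ρ g r, by
      rw [hPz, LinearMap.smul_apply, LinearMap.add_apply, Module.End.mul_apply, hP, hXg]
      module⟩
    obtain ⟨a, ha⟩ := hrspan ⟨_, hmem⟩
    exact ⟨a, (congrArg Subtype.val ha).symm⟩
  have hbmul : ∀ x : eGroup Q S, act x.1 b = b → act x.1 e = e → x * X = X * x := by
    intro x hxb hxe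
    rw [← mul_inv_eq_iff_eq_mul, hX, el_conj x P.p'.hu P.be hbS heS, hxb, hxe]
  obtain ⟨σ, hσ⟩ := hsig t htfix.1 htfix.2.1 (by
    rw [← mul_inv_eq_iff_eq_mul, hX, el_conj t P.p'.hu P.be hbS heS, htfix.2.2.2,
      show act t.1 b = (1 : F) • b + (1 : F) • e by
        have h := htfix.2.2.1
        rw [map_add, htfix.2.2.2] at h
        have he2 : e + e = 0 := by rw [← two_smul F e, h2, zero_smul]
        linear_combination (norm := module) h - he2]
    have h := el_add_left (S := S) 1 1 1 P.p'.hu P.p.hu P.be hbS heS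
    simp only [one_smul, one_mul] at h ⊢
    exact h)
  obtain ⟨σ', hσ'⟩ := hsig t' ht'fix.1 ht'fix.2.1 (by
    rw [← mul_inv_eq_iff_eq_mul, hX, el_conj t' P.p'.hu P.be hbS heS, ht'fix.2.2.2,
      show act t'.1 e = e + b by
        have h := ht'fix.2.2.1
        rw [map_add, ht'fix.2.2.2] at h
        have hb2 : b + b = 0 := by rw [← two_smul F b, h2, zero_smul]
        linear_combination (norm := module) h - hb2]
    refine Subtype.ext ?_
    rw [el_val P.p'.hu (by rw [QuadraticMap.polar_add_right, P.be, polar_self_zero P.p'.hu,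
      add_zero]) hbS (S.add_mem heS hbS), el_val P.p'.hu P.be hbS heS,
      eich_congr (show e + b = e + (1 : F) • b by rw [one_smul]),
      eich_add_self _ P.p'.hu P.be])
  -- phases of the swaps
  have hPe : ρ t p₁ = p₁ := by
    have h := hphase P.flip.swap e P.ha he0 P.p.hu P.ac' (polar_self_zero P.p.hu)
    rw [← hp₁', ← Module.End.mul_apply, ht, h]
  have hPb : ρ t' p₂ = p₂ := by
    have R : Pairs Q W e' e b b' := P.swap.flip.swap
    have h := hphase R b P.hc hb0 P.p'.hu hbe' (polar_self_zero P.p'.hu)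
    rw [← hp₂', ← Module.End.mul_apply, ht', h]
  have hD : ∀ w ∈ W, ρ (el Q S u w) r = r ∧
      ρ (el Q S u w) p₁ = ψ (B e w) • p₁ ∧ ρ (el Q S u w) p₂ = ψ (B b w) • p₂ ∧
      ρ (el Q S u w) p₃ = ψ (B (e + b) w) • p₃ := fun w hw =>
    ⟨by rw [heig w hw 0 r hP0r, QuadraticMap.polar_zero_left, AddChar.map_zero_eq_one, one_smul],
      heig w hw e p₁ hp₁', heig w hw b p₂ hp₂', heig w hw _ p₃ hp₃⟩
  obtain ⟨d0, d1, d2, d3⟩ := hD e' P.ha'
  obtain ⟨g0, g1, g2, g3⟩ := hD b' P.hc'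
  rw [P.p.huv, hψ1, neg_one_smul] at d1
  rw [hbe', AddChar.map_zero_eq_one, one_smul] at d2
  rw [QuadraticMap.polar_add_left, P.p.huv, hbe', add_zero, hψ1, neg_one_smul] at d3
  rw [P.ac', AddChar.map_zero_eq_one, one_smul] at g1
  rw [P.p'.huv, hψ1, neg_one_smul] at g2
  rw [QuadraticMap.polar_add_left, P.ac', P.p'.huv, zero_add, hψ1, neg_one_smul] at g3
  have htp : ρ t p₂ = p₃ := by
    rw [hp₂, ← Module.End.mul_apply, ← map_mul, htr, map_one, Module.End.one_apply]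
  have ht'p : ρ t' p₁ = p₃ := by
    rw [hp₁, ← Module.End.mul_apply, ← map_mul, ht'r, map_one, Module.End.one_apply]
  obtain ⟨r1, r2, r3⟩ := relations h2 C P
  obtain ⟨s1, s2, s3⟩ := relations h2 C P.swap
  have happ : ∀ {a c : eGroup Q S}, a = c → ∀ x : V, ρ a x = ρ c x := fun h x => by rw [h]
  have hev : B e v = 0 := perp_right' P.ha
  have hbv : B b v = 0 := perp_right' P.hc
  have fr := hfixed r (Or.inl rfl)
  have f1 := hfixed p₁ (Or.inr (Or.inl rfl))
  have f2 := hfixed p₂ (Or.inr (Or.inr (Or.inl rfl)))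
  obtain ⟨c, hc, c1, c2, c3, c4⟩ := core (ρ (el Q S e v)) (ρ t) (ρ (el Q S u e'))
    (ρ (el Q S u b')) σ li (hspan _ (planeFixed_move ρ h2 C P fr))
    (hspan _ (planeFixed_move ρ h2 C P f1)) (hspan _ (planeFixed_move ρ h2 C P f2))
    ⟨d0, d1, d2, d3⟩ ⟨g0, g1, g2, g3⟩ ⟨hσ, hPe, htp, hp₂.symm⟩
    (fun x => by rw [← Module.End.mul_apply, ← map_mul, ρ_el_inv h2 P.p.hu hev heS C.hv, map_one,
      Module.End.one_apply])
    (fun x => by simpa only [map_mul, Module.End.mul_apply] using happ r1 x)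
    (fun x => by simpa only [map_mul, Module.End.mul_apply] using happ r2 x)
    (fun x => by simpa only [map_mul, Module.End.mul_apply] using happ r3 x)
  have hcomm : el Q S b e = el Q S e b := by
    refine Subtype.ext ?_
    rw [el_val P.p'.hu P.be hbS heS, el_val P.p.hu P.ac heS hbS, eich_swap P.p.hu P.p'.hu P.be (by
      rw [QuadraticMap.polar_neg_right, P.ac, neg_zero]), eich_congr (neg_vec h2 b)]
  have symfix : ∀ x, PlaneFixed ρ u e b x → PlaneFixed ρ u b e x := fun x h =>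
    ⟨h.2.1, h.1, by rw [← hcomm]; exact h.2.2⟩
  have symfix' : ∀ x, PlaneFixed ρ u b e x → PlaneFixed ρ u e b x := fun x h =>
    ⟨h.2.1, h.1, by rw [hcomm]; exact h.2.2⟩
  have symspan : ∀ x, InSpan r p₁ p₂ p₃ x → InSpan r p₂ p₁ p₃ x := fun x ⟨a0, a1, a2, a3, h⟩ =>
    ⟨a0, a2, a1, a3, by rw [h]; abel⟩
  have hsw : ∀ x, PlaneFixed ρ u e b x → InSpan r p₂ p₁ p₃ (ρ (el Q S b v) x) := fun x h =>
    symspan _ (hspan _ (symfix' _ (planeFixed_move ρ h2 C P.swap (symfix x h))))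
  have li' : Indep r p₂ p₁ p₃ := fun a0 a1 a2 a3 h => by
    obtain ⟨q0, q1, q2, q3⟩ := li a0 a2 a1 a3 (by rw [← h]; abel)
    exact ⟨q0, q2, q1, q3⟩
  obtain ⟨c', hc', k1, k2, k3, k4⟩ := core (ρ (el Q S b v)) (ρ t') (ρ (el Q S u b'))
    (ρ (el Q S u e')) σ' li' (hsw _ fr) (hsw _ f2) (hsw _ f1)
    ⟨g0, g2, g1, g3⟩ ⟨d0, d2, d1, d3⟩ ⟨hσ', hPb, ht'p, hp₁.symm⟩
    (fun x => by rw [← Module.End.mul_apply, ← map_mul, ρ_el_inv h2 P.p'.hu hbv hbS C.hv, map_one,
      Module.End.one_apply])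
    (fun x => by simpa only [map_mul, Module.End.mul_apply] using happ s1 x)
    (fun x => by simpa only [map_mul, Module.End.mul_apply] using happ s2 x)
    (fun x => by simpa only [map_mul, Module.End.mul_apply] using happ s3 x)
  refine core_false _ _ li hc hc' c1 c2 c3 c4 k2 k4 fun x => ?_
  rw [← Module.End.mul_apply, ← Module.End.mul_apply, ← map_mul, ← map_mul]
  refine happ ?_ x
  rw [← mul_inv_eq_iff_eq_mul, el_conj _ P.p'.hu hbv hbS C.hv, el_val P.p.hu hev heS C.hv,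
    act_eich_fix _ _ P.be hbv,
    show act (eich e v P.p.hu hev) v = v by
      rw [act_eich, QuadraticMap.polar_comm _ v e, hev, polar_self_zero C.p.hv]
      simp]

end Cfsg.Agent.SimpleFacts.MinDegOrth
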