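import Mathlib
import Cfsg.Agent.SimpleFacts.MinDegOrth.PlusBase
import Cfsg.Agent.SimpleFacts.MinDegOrth.Two
import Cfsg.Agent.SimpleFacts.MinDegOrth.Steps

/-!
The minimal degrees of the non-trivial representations of `Ω⁺` and `Ω⁻` in even dimension at least
eight.
-/

set_option autoImplicit false
set_option linter.unusedSectionVars false
set_option linter.unusedSimpArgs false

namespace Cfsg.Agent.SimpleFacts.MinDegOrth

open Cfsg.Agent.Forms Cfsg.Agent.Forms.QuadStd Cfsg.Agent.Forms.Reflections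
open Cfsg.Agent.Forms.PlusStd
open Cfsg.Agent.Classical.Orth Cfsg.Agent.Classical.OrthForms

variable {F : Type*} [Field F] [Fintype F] {ι : Type} [Fintype ι] [DecidableEq ι]
variable {Q : QuadraticForm F (ι → F)}

local notation "Vec" => (ι → F)
local notation "B" => QuadraticMap.polar Q

/-- The non-trivial representations of the groups of half-dimension `h + 2` have degree at least
`dg h - δ`. -/
def BoundAt (Q : QuadraticForm F (ι → F)) (ε : ℤ) (h : ℕ) (δ : ℤ) : Prop :=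
  ∀ S : Submodule F (ι → F), Lev Q ε (h + 2) S →
    ∀ (V : Type) [AddCommGroup V] [Module ℂ V] [FiniteDimensional ℂ V]
      (ρ : Representation ℂ (eGroup Q S) V),
      (∃ g, ρ g ≠ 1) → dg (Fintype.card F) ε h ≤ (Module.finrank ℂ V : ℤ) + δ

theorem BoundAt.of_irreducible {ε : ℤ} {h : ℕ} {δ : ℤ}
    (H : ∀ S : Submodule F Vec, Lev Q ε (h + 2) S →
      ∀ (V : Type) [AddCommGroup V] [Module ℂ V] [FiniteDimensional ℂ V]
        (ρ : Representation ℂ (eGroup Q S) V), ρ.IsIrreducible →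
        (∃ g, ρ g ≠ 1) → dg (Fintype.card F) ε h ≤ (Module.finrank ℂ V : ℤ) + δ) :
    BoundAt Q ε h δ := by
  intro S L V _ _ _ ρ hne
  obtain ⟨U, hU, hirr, hne'⟩ := exists_irred_part ρ hne
  have h1 := H S L U (Cfsg.Agent.Characters.subRep ρ U hU) hirr hne'
  have h2 : (Module.finrank ℂ U : ℤ) ≤ Module.finrank ℂ V := by
    exact_mod_cast Submodule.finrank_le U
  linarith

theorem prime_pow_card (F : Type*) [Field F] [Fintype F] :
    ∃ p a : ℕ, Fintype.card F = p ^ a ∧ p.Prime := by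
  obtain ⟨a, hp, ha⟩ := FiniteField.card F (ringChar F)
  exact ⟨_, _, ha, hp⟩

theorem Lev.exists_pairs {ε : ℤ} {h : ℕ} {W : Submodule F Vec} (L : Lev Q ε (h + 2) W)
    (hh : 1 ≤ h ∨ ε = 1) : ∃ e e' b b', Pairs Q W e e' b b' := by
  obtain ⟨e, e', he, he', hp⟩ := L.exists_pair (Or.inl (by omega))
  obtain ⟨b, b', hb, hb', hp'⟩ := (L.perp hp he he').exists_pair (by
    rcases hh with h1 | h1
    · exact Or.inl (by omega)
    · exact Or.inr ⟨by omega, h1⟩)
  exact ⟨e, e', b, b', hp, hp', perp_left hb, perp_left hb', perp_right hb, perp_right hb', he,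
    he', perp_le hb, perp_le hb'⟩

/-- Dimension six, minus type. -/
theorem minus_base : BoundAt Q (-1) 1 1 := by
  refine BoundAt.of_irreducible fun S LS V _ _ _ ρ _ hne => ?_
  obtain ⟨u, v, hu, hv, hp⟩ := LS.exists_pair (Or.inl (by norm_num))
  have C : Cfg Q S u v := ⟨LS.nd, hp, hu, hv⟩
  have L : Lev Q (-1) (0 + 2) (perp Q S u v) := LS.perp hp hu hv
  obtain ⟨ψ, hψ⟩ := exists_psi_ne (F := F)
  obtain ⟨e, e', he, he', hpe⟩ := L.exists_pair (Or.inl (by norm_num))
  rcases single_or_bound ρ C hψ L (fun h => by norm_num at h) hpe he he' hne with hb | ⟨c, hs, -⟩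
  · linarith
  · have hk : (Module.finrank ℂ V : ℤ) = mult ρ ψ u v 0 + (levSet Q S u v c).card := by
      exact_mod_cast hs.finrank_eq ρ C hψ
    have hm : (0 : ℤ) ≤ mult ρ ψ u v 0 := Int.natCast_nonneg _
    have hD : dg (Fintype.card F) (-1) 1 - 1 ≤ ((levSet Q S u v c).card : ℤ) := by
      have hgap := level_gap (q := Fintype.card F) Fintype.one_lt_card 0
      by_cases hc : c = 0
      · rw [hc, card_levSet_zero L]
        simp [dg]
      · rw [card_levSet_ne L hc]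
        simp [dg] at hgap ⊢
        linarith
    linarith

/-- Minus type: one step up. -/
theorem minus_step (h : ℕ) (hh : 1 ≤ h)
    (IH : BoundAt Q (-1) h (if h = 1 then 1 else 0)) : BoundAt Q (-1) (h + 1) 0 := by
  refine BoundAt.of_irreducible fun S LS V _ _ _ ρ hirr hne => ?_
  set q := Fintype.card F with hq
  obtain ⟨u, v, hu, hv, hp⟩ := LS.exists_pair (Or.inl (by omega))
  have C : Cfg Q S u v := ⟨LS.nd, hp, hu, hv⟩
  have L : Lev Q (-1) (h + 2) (perp Q S u v) := LS.perp hp hu hv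
  obtain ⟨ψ, hψ⟩ := exists_psi_ne (F := F)
  obtain ⟨e, e', b, b', P⟩ := L.exists_pairs (Or.inl hh)
  rw [add_zero]
  rcases single_or_bound ρ C hψ L (fun h' => by norm_num at h') P.p P.ha P.ha' hne with
    hb | ⟨c, hs, -⟩
  · exact hb
  have hk : (Module.finrank ℂ V : ℤ) = mult ρ ψ u v 0 + (levSet Q S u v c).card := by
    exact_mod_cast hs.finrank_eq ρ C hψ
  have hf : ∀ hh' : 2 ≤ h ∨ (h = 1 ∧ c = 0),
      dg q (-1) h ≤ (mult ρ ψ u v 0 : ℤ) + (if h = 1 then 1 else 0) := by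
    intro hh'
    refine IH _ L _ (fixRep ρ (ψ := ψ) C) (fix_nontriv ρ C hψ P hs fun y hy hy0 hQ hye hyb => ?_)
    refine phase_minus ρ C hψ L P hy hye hyb ((hs y hy hy0).1 hQ) ?_
    rcases hh' with h2 | ⟨h1, hc⟩
    · exact Or.inl h2
    · exact Or.inr ⟨h1, hQ.trans hc⟩
  have hdg : dg q (-1) (h + 1) =
      dg q (-1) h + 1 + ((q : ℤ) ^ (h + 2) - (-1)) * ((q : ℤ) ^ (h + 1) + (-1)) := rfl
  by_cases hc : c = 0
  · subst hc
    rw [card_levSet_zero L, ← hq] at hk
    have hf' := hf (if h1 : h = 1 then Or.inr ⟨h1, rfl⟩ else Or.inl (by omega))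
    by_contra hlt
    push Not at hlt
    have hdvd := degree_dvd ρ LS C hψ P.p P.ha P.ha' hs
    by_cases h1 : h = 1
    · subst h1
      rw [if_pos rfl] at hf'
      have hlo : dg q (-1) 2 - 2 ≤ (Module.finrank ℂ V : ℤ) := by
        simp only [Nat.reduceAdd] at hdg hk hlt
        linarith
      simp only [Nat.reduceAdd] at hlt
      rcases (by omega : (Module.finrank ℂ V : ℤ) = dg q (-1) 2 - 1 ∨
          (Module.finrank ℂ V : ℤ) = dg q (-1) 2 - 2) with e1 | e2
      · exact no_borderline (Or.inr rfl) Fintype.one_lt_card 1 (fun _ => le_rfl) e1 hdvd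
      · rcases Nat.lt_or_eq_of_le (show 2 ≤ q from Fintype.one_lt_card) with h3 | h3
        · obtain ⟨p, a, hpa, hp'⟩ := prime_pow_card F
          exact no_minus_four hpa hp' h3 e2 hdvd
        · refine no_thirty_two ρ (hq ▸ h3.symm) C hψ L P hs ?_
          rw [← h3] at hk e2
          norm_num [dg] at hk e2
          omega
    · rw [if_neg h1] at hf'
      have hlo : dg q (-1) (h + 1) - 1 ≤ (Module.finrank ℂ V : ℤ) := by linarith
      rw [hq] at hlo hlt
      exact no_borderline (Or.inr rfl) Fintype.one_lt_card h (fun _ => hh) (by omega) hdvd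
  · rw [card_levSet_ne L hc, ← hq, show 2 * (h + 1) + 1 = 2 * h + 3 by ring] at hk
    have hgap := level_gap (q := q) Fintype.one_lt_card h
    by_cases h1 : h = 1
    · subst h1
      have := level_four (q := q) Fintype.one_lt_card
      have hm : (0 : ℤ) ≤ mult ρ ψ u v 0 := Int.natCast_nonneg _
      linarith
    · have hf' := hf (Or.inl (by omega))
      rw [if_neg h1] at hf'
      linarith

/-- The minus type. -/
theorem bound_minus : ∀ h : ℕ, BoundAt Q (-1) (h + 2) 0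
  | 0 => minus_step 1 le_rfl (by rw [if_pos rfl]; exact minus_base)
  | h + 1 => minus_step (h + 2) (by omega) (by rw [if_neg (by omega)]; exact bound_minus h)

/-- Plus type: what is proved at each step, given the bound on the fixed space. -/
theorem plus_step (h4 : 4 ≤ Fintype.card F) (h : ℕ) {δ : ℤ}
    (hδ : δ = 0 ∨ (h = 0 ∧ δ = 2))
    (IH : δ = 0 → BoundAt Q 1 h 0) : BoundAt Q 1 (h + 1) 0 := by
  refine BoundAt.of_irreducible fun S LS V _ _ _ ρ hirr hne => ?_
  set q := Fintype.card F with hq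
  obtain ⟨u, v, hu, hv, hp⟩ := LS.exists_pair (Or.inl (by omega))
  have C : Cfg Q S u v := ⟨LS.nd, hp, hu, hv⟩
  have L : Lev Q 1 (h + 2) (perp Q S u v) := LS.perp hp hu hv
  obtain ⟨ψ, hψ⟩ := exists_psi_ne (F := F)
  obtain ⟨s, hs0, hs2⟩ := exists_square_ne h4
  obtain ⟨e, e', b, b', P⟩ := L.exists_pairs (Or.inr rfl)
  rw [add_zero]
  rcases single_or_bound ρ C hψ L (fun _ => h4) P.p P.ha P.ha' hne with hb | ⟨c, hs, hc⟩
  · exact hb
  obtain rfl := hc rfl
  have hk : (Module.finrank ℂ V : ℤ) = mult ρ ψ u v 0 + (levSet Q S u v (0 : F)).card := by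
    exact_mod_cast hs.finrank_eq ρ C hψ
  rw [card_levSet_zero L, ← hq] at hk
  have hf : dg q 1 h ≤ (mult ρ ψ u v 0 : ℤ) + δ := by
    rcases hδ with rfl | ⟨rfl, rfl⟩
    · refine IH rfl _ L _ (fixRep ρ (ψ := ψ) C) (fix_nontriv ρ C hψ P hs fun y hy hy0 hQ hye hyb => ?_)
      exact phase_torus ρ C hψ P hs0 hs2 hy hye hyb ((hs y hy hy0).1 hQ)
    · have h1 := plus_base ρ C hψ L P hs hs0 hs2
      simp [dg]
      omega
  have hdg : dg q 1 (h + 1) =
      dg q 1 h + 1 + ((q : ℤ) ^ (h + 2) - 1) * ((q : ℤ) ^ (h + 1) + 1) := rfl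
  by_contra hlt
  push Not at hlt
  have hdvd := degree_dvd ρ LS C hψ P.p P.ha P.ha' hs
  have hlo : dg q 1 (h + 1) - 1 - δ ≤ (Module.finrank ℂ V : ℤ) := by linarith
  rcases hδ with rfl | ⟨rfl, rfl⟩
  · rw [hq] at hlo hlt
    exact no_borderline (Or.inl rfl) Fintype.one_lt_card h (fun e => by norm_num at e) (by omega)
      hdvd
  · obtain ⟨p, a, hpa, hp'⟩ := prime_pow_card F
    obtain ⟨i, hi⟩ : ∃ i : ℕ, (i : ℤ) = dg q 1 1 - Module.finrank ℂ V :=
      ⟨(dg q 1 1 - Module.finrank ℂ V).toNat, Int.toNat_of_nonneg (by linarith)⟩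
    simp only [Nat.reduceAdd] at hlo hlt
    exact no_plus_three hpa hp' h4 (i := i) (by omega) (by omega) (by linarith) hdvd

/-- The plus type. -/
theorem bound_plus (h4 : 4 ≤ Fintype.card F) : ∀ h : ℕ, BoundAt Q 1 (h + 1) 0
  | 0 => plus_step h4 0 (δ := 2) (Or.inr ⟨rfl, rfl⟩) (fun e => by norm_num at e)
  | h + 1 => plus_step h4 (h + 1) (δ := 0) (Or.inl rfl) (fun _ => bound_plus h4 h)

/-! ### The standard groups -/

theorem omega_bound (hQ : (QuadraticMap.polarBilin Q).Nondegenerate) (f : Frame Q)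
    (hn : 5 ≤ Fintype.card ι) {ε : ℤ} {h : ℕ} (L : Lev Q ε (h + 2) ⊤) (H : BoundAt Q ε h 0)
    (k : ℕ) (ρ : Representation ℂ (Cfsg.Omega F ⇑Q) (Fin k → ℂ)) (hρ : ρ.IsIrreducible)
    (hk : 2 ≤ k) : dg (Fintype.card F) ε h ≤ (k : ℤ) := by
  have e := MulEquiv.subgroupCongr (omega_eq_eGroup hQ f hn).symm
  let ρ' : Representation ℂ (eGroup Q (⊤ : Submodule F Vec)) (Fin k → ℂ) :=
    ρ.comp e.toMonoidHom
  have hne : ∃ g, ρ' g ≠ 1 := by
    by_contra htriv
    push Not at htriv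
    have htriv' : ∀ g, ρ g = 1 := fun g => by
      have h1 : ρ (e (e.symm g)) = 1 := htriv (e.symm g)
      rwa [e.apply_symm_apply] at h1
    obtain ⟨-, hU⟩ := (Cfsg.Agent.Characters.isIrreducible_iff ρ).1 hρ
    let w : Fin k → ℂ := Pi.single ⟨0, by omega⟩ 1
    rcases hU (Submodule.span ℂ {w}) (fun g x hx => by rw [htriv']; exact hx) with h1 | h1
    · rw [Submodule.span_singleton_eq_bot] at h1
      exact one_ne_zero (by simpa [w] using congrFun h1 ⟨0, by omega⟩ : (1 : ℂ) = 0)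
    · have h2 := finrank_span_le_card ({w} : Set (Fin k → ℂ)) (R := ℂ)
      rw [h1, finrank_top, Module.finrank_fintype_fun_eq_card, Fintype.card_fin] at h2
      simp at h2
      omega
  have := H ⊤ L (Fin k → ℂ) ρ' hne
  rwa [Module.finrank_fintype_fun_eq_card, Fintype.card_fin, add_zero] at this

theorem omega_plus (F : Type*) [Field F] [Fintype F] {n : ℕ} (hn : 4 ≤ n)
    (h3 : 3 < Fintype.card F) (k : ℕ)
    (ρ : Representation ℂ (Cfsg.Omega F (Cfsg.quadFormPlus n F)) (Fin k → ℂ))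
    (hρ : ρ.IsIrreducible) (hk : 2 ≤ k) :
    (Fintype.card F ^ n - 1) * (Fintype.card F ^ (n - 1) + Fintype.card F) /
      (Fintype.card F ^ 2 - 1) ≤ k := by
  revert ρ
  rw [← plusQ_eq]
  intro ρ hρ
  obtain ⟨m, rfl⟩ : ∃ m, n = m + 4 := ⟨n - 4, by omega⟩
  set q := Fintype.card F with hq
  have hb := omega_bound (plusQ_nondeg F (m + 4)) (plusFrame F (by omega)) (by simp; omega)
    (h := m + 2) (lev_plusQ (m + 4)) (bound_plus (by omega) (m + 1)) k ρ hρ hk
  have hc := dg_closed (q := q) (ε := 1) (Or.inl rfl) (m + 2)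
  refine Nat.div_le_of_le_mul ?_
  rw [show m + 4 - 1 = m + 3 by omega]
  have h1 : 1 ≤ q ^ (m + 4) := Nat.one_le_pow _ _ (by omega)
  have h2 : 1 ≤ q ^ 2 := Nat.one_le_pow _ _ (by omega)
  rw [← Int.ofNat_le]
  push_cast [Nat.cast_sub h1, Nat.cast_sub h2]
  have h5 : (0 : ℤ) ≤ (q : ℤ) ^ 2 - 1 := by
    have : (1 : ℤ) ≤ ((q ^ 2 : ℕ) : ℤ) := by exact_mod_cast h2
    push_cast at this
    linarith
  have h6 := mul_le_mul_of_nonneg_left hb h5
  rw [← hq, hc, show m + 2 + 2 = m + 4 from rfl, show m + 2 + 1 = m + 3 from rfl] at h6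
  linarith

theorem omega_minus (F : Type*) [Field F] [Fintype F] {n : ℕ} (hn : 4 ≤ n) {a b : F}
    (hab : ∀ z₁ z₂ : F, z₁ ^ 2 + a * z₁ * z₂ + b * z₂ ^ 2 = 0 → z₁ = 0 ∧ z₂ = 0) (k : ℕ)
    (ρ : Representation ℂ (Cfsg.Omega F (Cfsg.quadFormMinus (n - 1) F a b)) (Fin k → ℂ))
    (hρ : ρ.IsIrreducible) (hk : 2 ≤ k) :
    (Fintype.card F ^ n + 1) * (Fintype.card F ^ (n - 1) - Fintype.card F) /
      (Fintype.card F ^ 2 - 1) ≤ k := by
  revert ρ
  rw [← minQ_eq]
  intro ρ hρ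
  obtain ⟨m, rfl⟩ : ∃ m, n = m + 4 := ⟨n - 4, by omega⟩
  set q := Fintype.card F with hq
  have hb := omega_bound (minQ_nondeg (m + 4 - 1) hab) (minFrame F (by omega) a b)
    (by simp; omega) (h := m + 2)
    (by
      have h := lev_minQ (m + 3) hab
      rwa [show m + 4 - 1 = m + 3 by omega]) (bound_minus m) k ρ hρ hk
  have hc := dg_closed (q := q) (ε := -1) (Or.inr rfl) (m + 2)
  refine Nat.div_le_of_le_mul ?_
  rw [show m + 4 - 1 = m + 3 by omega]
  have h1 : q ≤ q ^ (m + 3) := Nat.le_self_pow (by omega) q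
  have h2 : 1 ≤ q ^ 2 := Nat.one_le_pow _ _ Fintype.card_pos
  rw [← Int.ofNat_le]
  push_cast [Nat.cast_sub h1, Nat.cast_sub h2]
  have h5 : (0 : ℤ) ≤ (q : ℤ) ^ 2 - 1 := by
    have : (1 : ℤ) ≤ ((q ^ 2 : ℕ) : ℤ) := by exact_mod_cast h2
    push_cast at this
    linarith
  have h6 := mul_le_mul_of_nonneg_left hb h5
  rw [← hq, hc, show m + 2 + 2 = m + 4 from rfl, show m + 2 + 1 = m + 3 from rfl] at h6
  linarith

end Cfsg.Agent.SimpleFacts.MinDegOrth
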